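import Cfsg.Agent.PLocal.PSolvable
import Mathlib.GroupTheory.SpecificGroups.Cyclic
import Mathlib.FieldTheory.Finite.Basic
import Mathlib.Algebra.Group.Subgroup.Pointwise

/-!
Facts about `G / O(G)` for solvable `G` and odd-order elements acting on cyclic 2-subgroups.
-/

set_option autoImplicit false

namespace CfsgLib.Inv54

variable {G : Type*} [Group G] [Finite G]

theorem fact_two : Fact (Nat.Prime 2) := ⟨Nat.prime_two⟩

theorem odd_card_oddCore : Odd (Nat.card (Cfsg.oddCore G)) :=
  Nat.coprime_two_right.mp (CfsgLib.PLocal.coprime_card_pPrimeCore 2 G)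

/-- In `G/O(G)`, `G` solvable, the 2-core contains its centralizer. -/
theorem centralizer_pCore_two_quotient_le (hs : Group.IsSolvable G) :
    Subgroup.centralizer (Cfsg.pCore 2 (G ⧸ Cfsg.oddCore G) : Set (G ⧸ Cfsg.oddCore G)) ≤
      Cfsg.pCore 2 (G ⧸ Cfsg.oddCore G) :=
  CfsgLib.PLocal.centralizer_pCore_le CfsgLib.PLocal.isPSolvable_of_isSolvable
    (CfsgLib.PLocal.pPrimeCore_quotient_pPrimeCore_eq_bot 2 G)

/-- A quotient by `O(G)` which is a 2-group gives a normal 2-complement. -/
theorem hasNormalPComplement_of_isPGroup_quotient (h : IsPGroup 2 (G ⧸ Cfsg.oddCore G)) :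
    Cfsg.HasNormalPComplement 2 G := by
  obtain ⟨P⟩ : Nonempty (Sylow 2 G) := Sylow.nonempty
  refine ⟨P, Cfsg.oddCore G, inferInstance, ?_⟩
  obtain ⟨m, hm⟩ := IsPGroup.iff_card.mp h
  have h1 : Nat.card (P : Subgroup G) = 2 ^ m := by
    rw [P.card_eq_multiplicity, Subgroup.card_eq_card_quotient_mul_card_subgroup (Cfsg.oddCore G),
      hm, Nat.factorization_mul (by positivity) Nat.card_pos.ne',
      Finsupp.add_apply, Nat.prime_two.factorization_pow, Finsupp.single_eq_same,
      Nat.factorization_eq_zero_of_not_dvd odd_card_oddCore.not_two_dvd_nat, add_zero]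
  refine Subgroup.isComplement'_of_coprime ?_ ?_
  · rw [h1, mul_comm, ← hm, ← Subgroup.card_eq_card_quotient_mul_card_subgroup]
  · rw [h1]
    exact (Nat.coprime_two_right.mpr odd_card_oddCore).pow_right m

omit [Finite G] in
theorem card_mulAut_cyclic_two_group {A : Type*} [Group A] [Finite A] [IsCyclic A]
    (hA : IsPGroup 2 A) : IsPGroup 2 (MulAut A) := by
  have := fact_two
  obtain ⟨n, hn⟩ := IsPGroup.iff_card.mp hA
  rcases Nat.eq_zero_or_pos n with h | h
  · subst h
    refine IsPGroup.of_card (n := 0) ?_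
    rw [IsCyclic.card_mulAut, hn]
    simp
  · refine IsPGroup.of_card (n := n - 1) ?_
    rw [IsCyclic.card_mulAut, hn, Nat.totient_prime_pow Nat.prime_two h]
    simp

/-- An element of odd order normalizing a cyclic 2-subgroup centralizes it. -/
theorem commute_of_odd_of_cyclic {A : Subgroup G} (hA : IsPGroup 2 A) [IsCyclic A] {g : G}
    (hg : Odd (orderOf g)) (hn : g ∈ Subgroup.normalizer (A : Set G)) {x : G} (hx : x ∈ A) :
    g * x = x * g := by
  have := fact_two
  let φ : ↥(Subgroup.normalizer (A : Set G)) →* MulAut A := A.normalizerMonoidHom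
  have hone : φ ⟨g, hn⟩ = 1 := by
    obtain ⟨k, hk⟩ := card_mulAut_cyclic_two_group hA (φ ⟨g, hn⟩)
    have h1 : orderOf (φ ⟨g, hn⟩) ∣ 2 ^ k := orderOf_dvd_of_pow_eq_one hk
    have h2 : orderOf (φ ⟨g, hn⟩) ∣ orderOf g := by
      rw [← Subgroup.orderOf_mk g hn]
      exact orderOf_map_dvd φ _
    rw [← orderOf_eq_one_iff]
    exact Nat.eq_one_of_dvd_coprimes ((Nat.coprime_two_left.mpr hg).pow_left k) h1 h2
  have h3 : g * x * g⁻¹ = x := by
    have := congrArg Subtype.val (MulEquiv.congr_fun hone ⟨x, hx⟩)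
    simpa [φ] using this
  exact mul_inv_eq_iff_eq_mul.mp h3

/-- An element of odd order stabilising a chain `R ≥ A ≥ 1` centralises `R`. -/
theorem commute_of_stabilizes_chain {A : Subgroup G} (hA : IsPGroup 2 A) {g x : G}
    (hg : Odd (orderOf g)) (hcent : ∀ a ∈ A, g * a = a * g)
    (hx : x⁻¹ * (g * x * g⁻¹) ∈ A) : g * x = x * g := by
  have := fact_two
  set c := x⁻¹ * (g * x * g⁻¹) with hc
  have hgc : ∀ k : ℕ, g ^ k * x * (g ^ k)⁻¹ = x * c ^ k := by
    intro k
    induction k with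
    | zero => simp
    | succ k ih =>
      have hck : g * c ^ k = c ^ k * g := hcent _ (pow_mem hx k)
      calc g ^ (k+1) * x * (g ^ (k+1))⁻¹ = g * (g ^ k * x * (g ^ k)⁻¹) * g⁻¹ := by
            rw [pow_succ']; group
        _ = g * x * (c ^ k * g⁻¹) := by rw [ih]; group
        _ = g * x * g⁻¹ * c ^ k := by
            have : c ^ k * g⁻¹ = g⁻¹ * c ^ k := by
              rw [mul_inv_eq_iff_eq_mul, mul_assoc, ← hck, inv_mul_cancel_left]
            rw [this]; group
        _ = x * c ^ (k+1) := by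
            have hxc : g * x * g⁻¹ = x * c := by rw [hc]; group
            rw [hxc, pow_succ', mul_assoc]
  have h1 := hgc (orderOf g)
  rw [pow_orderOf_eq_one, one_mul, inv_one, mul_one, left_eq_mul] at h1
  obtain ⟨j, hj⟩ := hA ⟨c, hx⟩
  have hj' : c ^ 2 ^ j = 1 := congrArg Subtype.val hj
  have hc1 : c = 1 := orderOf_eq_one_iff.mp (Nat.eq_one_of_dvd_coprimes
    ((Nat.coprime_two_left.mpr hg).pow_left j) (orderOf_dvd_of_pow_eq_one hj')
    (orderOf_dvd_of_pow_eq_one h1))
  rw [hc, inv_mul_eq_one] at hc1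
  exact (mul_inv_eq_iff_eq_mul.mp hc1.symm)

/-- A finite group in which every element of odd order is trivial is a 2-group. -/
theorem isPGroup_two_of_forall_odd (h : ∀ g : G, Odd (orderOf g) → g = 1) : IsPGroup 2 G := by
  intro g
  refine ⟨(orderOf g).factorization 2, ?_⟩
  apply h
  rw [orderOf_pow' g (pow_ne_zero _ two_ne_zero), Nat.gcd_eq_right (Nat.ordProj_dvd _ _)]
  exact Nat.not_even_iff_odd.mp fun he =>
    Nat.not_dvd_ordCompl Nat.prime_two (orderOf_pos g).ne' (even_iff_two_dvd.mp he)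

/-- A group with a cyclic normal self-centralizing 2-subgroup is a 2-group. -/
theorem isPGroup_of_cyclic_normal_self_centralizing {R : Subgroup G} [R.Normal] [IsCyclic R]
    (hR : IsPGroup 2 R) (hC : Subgroup.centralizer (R : Set G) ≤ R) : IsPGroup 2 G := by
  refine isPGroup_two_of_forall_odd fun g hg => ?_
  have hn : g ∈ Subgroup.normalizer (R : Set G) := by
    rw [Subgroup.normalizer_eq_top]; trivial
  have hgR : g ∈ R := hC (Subgroup.mem_centralizer_iff.mpr fun h hh =>
    (commute_of_odd_of_cyclic hR hg hn hh).symm)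
  obtain ⟨k, hk⟩ := hR ⟨g, hgR⟩
  exact orderOf_eq_one_iff.mp (Nat.eq_one_of_dvd_coprimes
    ((Nat.coprime_two_left.mpr hg).pow_left k)
    (orderOf_dvd_of_pow_eq_one (congrArg Subtype.val hk)) dvd_rfl)

end CfsgLib.Inv54
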