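import Cfsg.Agent.Small.Dihedral
import Cfsg.Agent.S0514

/-!
# Dihedral Sylow 2-subgroups: the centraliser of the central involution

`Setup P σ τ h`: the Sylow 2-subgroup `P` is generated by `σ` of order `2h` and an involution `τ`
inverting it.  The centraliser `C` of `σ ^ h` is `K P` with `K` normal of odd order; `pr` is the
projection to `P`.
-/

set_option autoImplicit false
set_option linter.style.haveILetI false
set_option linter.unusedSectionVars false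

namespace CfsgLib.Inv54.DihedralBlock

universe u

variable {G : Type u} [Group G] [Finite G]

/-- A dihedral Sylow 2-subgroup with generators. -/
structure Setup (P : Sylow 2 G) (σ τ : G) (h : ℕ) : Prop where
  two_le : 2 ≤ h
  pow2 : ∃ k, h = 2 ^ k
  memσ : σ ∈ (P : Subgroup G)
  memτ : τ ∈ (P : Subgroup G)
  ordσ : orderOf σ = 2 * h
  ordτ : orderOf τ = 2
  rel : τ * σ * τ⁻¹ = σ⁻¹
  notMem : τ ∉ Subgroup.zpowers σ
  elems : ∀ x ∈ (P : Subgroup G), ∃ i : ℕ, x = σ ^ i ∨ x = τ * σ ^ i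
  iso : Nonempty ((P : Subgroup G) ≃* DihedralGroup (2 * h))

theorem setup_of_generators (P : Sylow 2 G) {σ τ : G} {h : ℕ} (h2 : 2 ≤ h)
    (hk : ∃ k, h = 2 ^ k) (hσ : orderOf σ = 2 * h) (hτ : orderOf τ = 2)
    (hrel : τ * σ * τ⁻¹ = σ⁻¹) (hgen : Subgroup.closure ({σ, τ} : Set G) = (P : Subgroup G)) :
    Setup P σ τ h := by
  have hσP : σ ∈ (P : Subgroup G) := hgen ▸ Subgroup.subset_closure (by simp)
  have hτP : τ ∈ (P : Subgroup G) := hgen ▸ Subgroup.subset_closure (by simp)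
  have hττ := Small.mul_self_of_orderOf_two hτ
  have hτi := Small.inv_eq_self_of_orderOf_two hτ
  have hnot : τ ∉ Subgroup.zpowers σ := by
    intro hm
    obtain ⟨i, rfl⟩ := Subgroup.mem_zpowers_iff.1 hm
    have h1 : σ ^ i * σ * (σ ^ i)⁻¹ = σ := by group
    rw [h1] at hrel
    have h3 : orderOf σ ∣ 2 := orderOf_dvd_of_pow_eq_one (by
      rw [pow_two]; nth_rewrite 2 [hrel]; rw [mul_inv_cancel])
    have := Nat.le_of_dvd two_pos h3
    omega
  have hy : orderOf (τ * σ) = 2 := by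
    refine Small.orderOf_eq_two_iff_sq.2 ⟨fun e => hnot ?_, ?_⟩
    · rw [eq_inv_of_mul_eq_one_left e]
      exact inv_mem (Subgroup.mem_zpowers σ)
    · calc τ * σ * (τ * σ) = τ * σ * τ⁻¹ * σ := by rw [hτi]; group
        _ = 1 := by rw [hrel, inv_mul_cancel]
  have hne : τ ≠ τ * σ := fun e => by
    rw [left_eq_mul] at e
    rw [e, orderOf_one] at hσ
    omega
  have hxy : τ * (τ * σ) = σ := by rw [← mul_assoc, hττ, one_mul]
  have hcl : Subgroup.closure ({τ, τ * σ} : Set G) = (P : Subgroup G) := by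
    refine le_antisymm ((Subgroup.closure_le _).2 ?_) ?_
    · rintro x (rfl | rfl)
      exacts [hτP, mul_mem hτP hσP]
    · rw [← hgen, Subgroup.closure_le]
      intro x hx
      rcases hx with e | e
      · have hm := Small.mul_mem_closure_pair τ (τ * σ)
        rw [hxy] at hm
        rw [e]; exact hm
      · rw [e]; exact Subgroup.subset_closure (by simp)
  refine ⟨h2, hk, hσP, hτP, hσ, hτ, hrel, hnot, ?_, ?_⟩
  · intro x hx
    rw [← hcl] at hx
    obtain ⟨k, hk⟩ := Small.mem_closure_pair_invol hτ hy hx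
    rw [hxy] at hk
    obtain ⟨i, hi⟩ : ∃ i : ℕ, σ ^ i = σ ^ k := by
      have := mem_powers_iff_mem_zpowers.2 (Subgroup.zpow_mem _ (Subgroup.mem_zpowers σ) k)
      exact this
    exact ⟨i, by rw [hi]; exact hk⟩
  · have e := Small.closurePairEquivDihedral hτ hy hne
    rw [hcl, hxy, hσ] at e
    exact ⟨e⟩

theorem setup_of_iso (P : Sylow 2 G) {σ : G} {h : ℕ} (h2 : 2 ≤ h) (hk : ∃ k, h = 2 ^ k)
    (e : (P : Subgroup G) ≃* DihedralGroup (2 * h)) (hσP : σ ∈ (P : Subgroup G))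
    (hσ : orderOf σ = 2 * h) : ∃ τ, Setup P σ τ h := by
  haveI : NeZero (2 * h) := ⟨by omega⟩
  obtain ⟨i, hi⟩ : ∃ i, e ⟨σ, hσP⟩ = DihedralGroup.r i := by
    rcases he : e ⟨σ, hσP⟩ with i | i
    · exact ⟨i, rfl⟩
    · exfalso
      have h1 := congrArg orderOf he
      rw [MulEquiv.orderOf_eq, Subgroup.orderOf_mk, hσ, DihedralGroup.orderOf_sr] at h1
      omega
  set τ : G := ((e.symm (DihedralGroup.sr 0) : (P : Subgroup G)) : G) with hτdef
  have hτ : orderOf τ = 2 := by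
    rw [hτdef, Subgroup.orderOf_coe, MulEquiv.orderOf_eq, DihedralGroup.orderOf_sr]
  have hτP : τ ∈ (P : Subgroup G) := SetLike.coe_mem _
  have hrel : τ * σ * τ⁻¹ = σ⁻¹ := by
    have : e (⟨τ, hτP⟩ * ⟨σ, hσP⟩ * ⟨τ, hτP⟩⁻¹) = e (⟨σ, hσP⟩⁻¹) := by
      have ht : e ⟨τ, hτP⟩ = DihedralGroup.sr 0 := e.apply_symm_apply _
      rw [map_mul, map_mul, map_inv, map_inv, ht, hi, DihedralGroup.inv_sr,
        DihedralGroup.sr_mul_r, DihedralGroup.sr_mul_sr, DihedralGroup.inv_r]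
      simp
    exact congrArg Subtype.val (e.injective this)
  have hne : τ ≠ τ * σ := fun e => by
    rw [left_eq_mul] at e
    rw [e, orderOf_one] at hσ
    omega
  have hy : orderOf (τ * σ) = 2 := by
    have ht : e ⟨τ, hτP⟩ = DihedralGroup.sr 0 := e.apply_symm_apply _
    have h1 : orderOf (⟨τ, hτP⟩ * ⟨σ, hσP⟩ : (P : Subgroup G)) = 2 := by
      rw [← MulEquiv.orderOf_eq e, map_mul, ht, hi, DihedralGroup.sr_mul_r,
        DihedralGroup.orderOf_sr]
    rw [← Subgroup.orderOf_coe] at h1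
    exact h1
  have hxy : τ * (τ * σ) = σ := by
    rw [← mul_assoc, Small.mul_self_of_orderOf_two hτ, one_mul]
  have hgen : Subgroup.closure ({σ, τ} : Set G) = (P : Subgroup G) := by
    refine Subgroup.eq_of_le_of_card_ge ((Subgroup.closure_le _).2 ?_) ?_
    · rintro x (rfl | rfl)
      exacts [hσP, hτP]
    · have hle : Subgroup.closure ({τ, τ * σ} : Set G) ≤ Subgroup.closure ({σ, τ} : Set G) := by
        rw [Subgroup.closure_le]
        rintro x (rfl | rfl)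
        · exact Subgroup.subset_closure (by simp)
        · exact mul_mem (Subgroup.subset_closure (by simp)) (Subgroup.subset_closure (by simp))
      refine le_trans (le_of_eq ?_) (Nat.le_of_dvd Nat.card_pos (Subgroup.card_dvd_of_le hle))
      rw [Small.card_closure_pair_invol hτ hy hne, hxy, hσ, Nat.card_congr e.toEquiv,
        DihedralGroup.nat_card]
  exact ⟨τ, setup_of_generators P h2 hk hσ hτ hrel hgen⟩

namespace Setup

variable {P : Sylow 2 G} {σ τ : G} {h : ℕ} (S : Setup P σ τ h)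
include S

theorem card_P : Nat.card (P : Subgroup G) = 4 * h := by
  obtain ⟨e⟩ := S.iso
  rw [Nat.card_congr e.toEquiv, DihedralGroup.nat_card]
  ring

theorem pow_eq_one {a : ℕ} : σ ^ a = 1 ↔ 2 * h ∣ a := by
  rw [← orderOf_dvd_iff_pow_eq_one, S.ordσ]

theorem J_ne : σ ^ h ≠ 1 := fun e => by
  have := Nat.le_of_dvd (by have := S.two_le; omega) (S.pow_eq_one.1 e)
  have := S.two_le
  omega

theorem J_sq : σ ^ h * σ ^ h = 1 := by
  rw [← pow_add, S.pow_eq_one]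
  exact ⟨1, by ring⟩

theorem J_mem : σ ^ h ∈ (P : Subgroup G) := pow_mem S.memσ h

theorem J_order : orderOf (σ ^ h) = 2 := Small.orderOf_eq_two_iff_sq.2 ⟨S.J_ne, S.J_sq⟩

theorem inverts (a : ℕ) : τ * σ ^ a * τ⁻¹ = (σ ^ a)⁻¹ := Small.invol_conj_pow S.rel a

theorem isConj_inv (a : ℕ) : IsConj (σ ^ a) (σ ^ a)⁻¹ := isConj_iff.2 ⟨τ, S.inverts a⟩

/-- Conjugation by `P` on the powers of `σ`. -/
theorem conj_pow_cases {p : G} (hp : p ∈ (P : Subgroup G)) (a : ℕ) :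
    p * σ ^ a * p⁻¹ = σ ^ a ∨ p * σ ^ a * p⁻¹ = (σ ^ a)⁻¹ := by
  obtain ⟨i, rfl | rfl⟩ := S.elems p hp
  · left; group
  · right
    rw [show τ * σ ^ i * σ ^ a * (τ * σ ^ i)⁻¹ = τ * (σ ^ i * σ ^ a * (σ ^ i)⁻¹) * τ⁻¹ by group,
      show σ ^ i * σ ^ a * (σ ^ i)⁻¹ = σ ^ a by group, S.inverts]

theorem J_central {p : G} (hp : p ∈ (P : Subgroup G)) : p * σ ^ h = σ ^ h * p := by
  rcases S.conj_pow_cases hp h with e | e
  · exact mul_inv_eq_iff_eq_mul.1 e
  · rw [inv_eq_of_mul_eq_one_right S.J_sq] at e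
    exact mul_inv_eq_iff_eq_mul.1 e

theorem J_unique {a : ℕ} (h1 : σ ^ a * σ ^ a = 1) (h2 : σ ^ a ≠ 1) : σ ^ a = σ ^ h := by
  rw [← pow_add, S.pow_eq_one] at h1
  rw [ne_eq, S.pow_eq_one] at h2
  obtain ⟨c, hc⟩ := h1
  have ha : a = h * c := by linarith
  obtain ⟨d, rfl⟩ : Odd c := by
    rw [← Nat.not_even_iff_odd]
    rintro ⟨d, rfl⟩
    exact h2 ⟨d, by rw [ha]; ring⟩
  rw [ha, show h * (2 * d + 1) = 2 * h * d + h by ring, pow_add, S.pow_eq_one.2 ⟨d, rfl⟩, one_mul]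

theorem exists_pow_J {a : ℕ} (ha : σ ^ a ≠ 1) : ∃ j : ℕ, (σ ^ a) ^ j = σ ^ h := by
  haveI : Fact (Nat.Prime 2) := ⟨Nat.prime_two⟩
  have hd : orderOf (σ ^ a) ∣ 2 * h := S.ordσ ▸ orderOf_pow_dvd a
  obtain ⟨k, hk⟩ := S.pow2
  rw [hk, show 2 * 2 ^ k = 2 ^ (k + 1) by ring] at hd
  obtain ⟨i, -, hi⟩ := (Nat.dvd_prime_pow Nat.prime_two).1 hd
  obtain ⟨i, rfl⟩ : ∃ j, i = j + 1 := ⟨i - 1, by
    rcases i with - | i
    · rw [pow_zero, orderOf_eq_one_iff] at hi; exact absurd hi ha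
    · rfl⟩
  refine ⟨2 ^ i, ?_⟩
  rw [← pow_mul]
  refine S.J_unique ?_ ?_
  · rw [pow_mul, ← pow_add, ← two_mul, ← pow_succ', ← hi, pow_orderOf_eq_one]
  · rw [pow_mul]
    refine pow_ne_one_of_lt_orderOf (pow_ne_zero _ two_ne_zero) ?_
    rw [hi]
    exact Nat.pow_lt_pow_right one_lt_two (Nat.lt_succ_self i)

theorem P_le_C : (P : Subgroup G) ≤ Subgroup.centralizer ({σ ^ h} : Set G) := fun _ hp =>
  Subgroup.mem_centralizer_singleton_iff.2 (S.J_central hp)

theorem centralizer_pow_le {a : ℕ} (ha : σ ^ a ≠ 1) :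
    Subgroup.centralizer ({σ ^ a} : Set G) ≤ Subgroup.centralizer ({σ ^ h} : Set G) := by
  intro c hc
  obtain ⟨j, hj⟩ := S.exists_pow_J ha
  rw [Subgroup.mem_centralizer_singleton_iff] at hc ⊢
  rw [← hj]
  exact ((show Commute c (σ ^ a) from hc).pow_right j).eq

theorem exists_core : ∃ K : Subgroup G, K ≤ Subgroup.centralizer ({σ ^ h} : Set G) ∧
    Odd (Nat.card K) ∧
    (∀ c ∈ Subgroup.centralizer ({σ ^ h} : Set G), ∀ k ∈ K, c * k * c⁻¹ ∈ K) ∧
    ∀ c ∈ Subgroup.centralizer ({σ ^ h} : Set G), ∃ k ∈ K, ∃ p ∈ (P : Subgroup G), c = k * p := by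
  haveI : Fact (Nat.Prime 2) := ⟨Nat.prime_two⟩
  set C := Subgroup.centralizer ({σ ^ h} : Set G) with hC
  obtain ⟨N, hN, hNo, i, hi⟩ : ∃ N : Subgroup C, N.Normal ∧ Odd (Nat.card N) ∧
      ∃ k : ℕ, N.index = 2 ^ k :=
    Cfsg.Agent.S0514.result P (2 * h) (by have := S.two_le; omega) S.iso (σ ^ h) S.J_order
  have hKle : N.map C.subtype ≤ C := Subgroup.map_subtype_le N
  have hKo : Odd (Nat.card (N.map C.subtype : Subgroup G)) := by
    rwa [Subgroup.card_map_of_injective C.subtype_injective]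
  refine ⟨N.map C.subtype, hKle, hKo, ?_, ?_⟩
  · rintro c hc _ ⟨k, hk, rfl⟩
    exact ⟨⟨c, hc⟩ * k * ⟨c, hc⟩⁻¹, hN.conj_mem k hk _, rfl⟩
  · have hcC : Nat.card C = Nat.card N * 2 ^ i := by rw [← hi, Subgroup.card_mul_index]
    have hle : 2 ^ i ≤ 4 * h := by
      rw [← S.card_P]
      refine Nat.le_of_dvd Nat.card_pos ?_
      rw [P.card_eq_multiplicity]
      refine pow_dvd_pow 2 ((Nat.prime_two.pow_dvd_iff_le_factorization Nat.card_pos.ne').1 ?_)
      exact dvd_trans (Dvd.intro_left _ hcC.symm) (Subgroup.card_subgroup_dvd_card C)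
    let f : N × (P : Subgroup G) → C := fun x => x.1 * ⟨x.2, S.P_le_C x.2.2⟩
    have hf : Function.Injective f := by
      rintro ⟨⟨a, ha⟩, ⟨b, hb⟩⟩ ⟨⟨a', ha'⟩, ⟨b', hb'⟩⟩ e
      have e' : (a : G) * b = a' * b' := congrArg Subtype.val e
      have hmem : a'⁻¹ * a ∈ N := mul_mem (inv_mem ha') ha
      have hb'' : ((a'⁻¹ * a : C) : G) = b' * b⁻¹ := by
        push_cast
        calc (a' : G)⁻¹ * a = (a' : G)⁻¹ * ((a : G) * b) * b⁻¹ := by group
          _ = b' * b⁻¹ := by rw [e']; group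
      have h1 : orderOf ((a'⁻¹ * a : C) : G) ∣ Nat.card N := by
        rw [Subgroup.orderOf_coe]; exact N.orderOf_dvd_natCard hmem
      have h2 : orderOf ((a'⁻¹ * a : C) : G) ∣ Nat.card (P : Subgroup G) :=
        hb'' ▸ Subgroup.orderOf_dvd_natCard _ (mul_mem hb' (inv_mem hb))
      obtain ⟨j, hj⟩ := P.isPGroup'.exists_card_eq
      rw [hj] at h2
      have h3 : ((a'⁻¹ * a : C) : G) = 1 := orderOf_eq_one_iff.1
        (Nat.eq_one_of_dvd_coprimes ((Nat.coprime_two_right.2 hNo).pow_right j) h1 h2)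
      have hab : a' = a := inv_mul_eq_one.1 (Subtype.ext h3)
      subst hab
      exact Prod.ext rfl (Subtype.ext (mul_left_cancel e'))
    have hsurj : Function.Surjective f := by
      haveI := Fintype.ofFinite (N × (P : Subgroup G))
      haveI := Fintype.ofFinite C
      refine ((Fintype.bijective_iff_injective_and_card f).2 ⟨hf, le_antisymm
        (Fintype.card_le_of_injective f hf) ?_⟩).2
      rw [← Nat.card_eq_fintype_card, ← Nat.card_eq_fintype_card, Nat.card_prod, hcC, S.card_P]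
      exact Nat.mul_le_mul_left _ hle
    intro c hc
    obtain ⟨⟨a, b⟩, hab⟩ := hsurj ⟨c, hc⟩
    exact ⟨_, ⟨a.1, a.2, rfl⟩, b.1, b.2, (congrArg Subtype.val hab).symm⟩

/-- The normal complement of `P` in `C(σ ^ h)`. -/
noncomputable def core : Subgroup G := S.exists_core.choose

theorem core_le : S.core ≤ Subgroup.centralizer ({σ ^ h} : Set G) := S.exists_core.choose_spec.1

theorem core_odd : Odd (Nat.card S.core) := S.exists_core.choose_spec.2.1

theorem core_conj {c k : G} (hc : c ∈ Subgroup.centralizer ({σ ^ h} : Set G)) (hk : k ∈ S.core) :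
    c * k * c⁻¹ ∈ S.core := S.exists_core.choose_spec.2.2.1 c hc k hk

theorem decomp {c : G} (hc : c ∈ Subgroup.centralizer ({σ ^ h} : Set G)) :
    ∃ k ∈ S.core, ∃ p ∈ (P : Subgroup G), c = k * p := S.exists_core.choose_spec.2.2.2 c hc

theorem core_inf {g : G} (h1 : g ∈ S.core) (h2 : g ∈ (P : Subgroup G)) : g = 1 := by
  haveI : Fact (Nat.Prime 2) := ⟨Nat.prime_two⟩
  obtain ⟨j, hj⟩ := P.isPGroup'.exists_card_eq
  exact orderOf_eq_one_iff.1 (Nat.eq_one_of_dvd_coprimes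
    ((Nat.coprime_two_right.2 S.core_odd).pow_right j) (S.core.orderOf_dvd_natCard h1)
    (hj ▸ Subgroup.orderOf_dvd_natCard _ h2))

theorem unique {k p k' p' : G} (hk : k ∈ S.core) (hp : p ∈ (P : Subgroup G)) (hk' : k' ∈ S.core)
    (hp' : p' ∈ (P : Subgroup G)) (e : k * p = k' * p') : k = k' ∧ p = p' := by
  have e' : k'⁻¹ * k = p' * p⁻¹ := by
    calc k'⁻¹ * k = k'⁻¹ * (k * p) * p⁻¹ := by group
      _ = p' * p⁻¹ := by rw [e]; group
  have h1 : k'⁻¹ * k = 1 := S.core_inf (mul_mem (inv_mem hk') hk)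
    (e' ▸ mul_mem hp' (inv_mem hp))
  have hk'' : k' = k := inv_mul_eq_one.1 h1
  subst hk''
  exact ⟨rfl, mul_left_cancel e⟩

open Classical in
/-- The projection of `C(σ ^ h)` to `P`. -/
noncomputable def pr (c : G) : G :=
  if hc : c ∈ Subgroup.centralizer ({σ ^ h} : Set G) then (S.decomp hc).choose_spec.2.choose else 1

theorem pr_spec {c : G} (hc : c ∈ Subgroup.centralizer ({σ ^ h} : Set G)) :
    S.pr c ∈ (P : Subgroup G) ∧ c * (S.pr c)⁻¹ ∈ S.core := by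
  rw [pr, dif_pos hc]
  obtain ⟨hp, he⟩ := (S.decomp hc).choose_spec.2.choose_spec
  refine ⟨hp, ?_⟩
  nth_rewrite 1 [he]
  rw [mul_inv_cancel_right]
  exact (S.decomp hc).choose_spec.1

theorem pr_eq {k p : G} (hk : k ∈ S.core) (hp : p ∈ (P : Subgroup G)) : S.pr (k * p) = p := by
  have hc : k * p ∈ Subgroup.centralizer ({σ ^ h} : Set G) := mul_mem (S.core_le hk) (S.P_le_C hp)
  obtain ⟨h1, h2⟩ := S.pr_spec hc
  exact (S.unique h2 h1 hk hp (inv_mul_cancel_right _ _)).2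

theorem pr_of_mem {p : G} (hp : p ∈ (P : Subgroup G)) : S.pr p = p := by
  simpa using S.pr_eq S.core.one_mem hp

theorem pr_of_core {k : G} (hk : k ∈ S.core) : S.pr k = 1 := by
  simpa using S.pr_eq hk (P : Subgroup G).one_mem

theorem pr_mul {c d : G} (hc : c ∈ Subgroup.centralizer ({σ ^ h} : Set G))
    (hd : d ∈ Subgroup.centralizer ({σ ^ h} : Set G)) : S.pr (c * d) = S.pr c * S.pr d := by
  obtain ⟨h1, h2⟩ := S.pr_spec hc
  obtain ⟨h3, h4⟩ := S.pr_spec hd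
  have e : c * d = c * (S.pr c)⁻¹ * (S.pr c * (d * (S.pr d)⁻¹) * (S.pr c)⁻¹) *
      (S.pr c * S.pr d) := by group
  nth_rewrite 1 [e]
  exact S.pr_eq (mul_mem h2 (S.core_conj (S.P_le_C h1) h4)) (mul_mem h1 h3)

theorem pr_inv {c : G} (hc : c ∈ Subgroup.centralizer ({σ ^ h} : Set G)) :
    S.pr c⁻¹ = (S.pr c)⁻¹ := by
  refine eq_inv_of_mul_eq_one_left ?_
  rw [← S.pr_mul (inv_mem hc) hc, inv_mul_cancel, S.pr_of_core S.core.one_mem]

/-- Conjugate powers of `σ` are equal or inverse. -/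
theorem conj_cases {a b : ℕ} (ha : σ ^ a ≠ 1) (e : IsConj (σ ^ a) (σ ^ b)) :
    σ ^ a = σ ^ b ∨ σ ^ a * σ ^ b = 1 := by
  obtain ⟨g, hg⟩ := isConj_iff.1 e
  obtain ⟨j, hj⟩ := S.exists_pow_J ha
  have hgJ : g * σ ^ h * g⁻¹ = σ ^ (b * j) := by rw [← hj, ← conj_pow, hg, ← pow_mul]
  have hJ' : σ ^ (b * j) = σ ^ h := by
    refine S.J_unique ?_ ?_
    · rw [← hgJ, conj_mul, S.J_sq, mul_one, mul_inv_cancel]
    · rw [← hgJ, ne_eq, conj_eq_one_iff]; exact S.J_ne
  rw [hJ'] at hgJ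
  have hgC : g ∈ Subgroup.centralizer ({σ ^ h} : Set G) :=
    Subgroup.mem_centralizer_singleton_iff.2 (mul_inv_eq_iff_eq_mul.1 hgJ)
  have hp := (S.pr_spec hgC).1
  have hpa := pow_mem S.memσ a
  have h1 : S.pr (g * σ ^ a * g⁻¹) = S.pr g * σ ^ a * (S.pr g)⁻¹ := by
    rw [S.pr_mul (mul_mem hgC (S.P_le_C hpa)) (inv_mem hgC), S.pr_mul hgC (S.P_le_C hpa),
      S.pr_inv hgC, S.pr_of_mem hpa]
  rw [hg, S.pr_of_mem (pow_mem S.memσ b)] at h1
  rcases S.conj_pow_cases hp a with e' | e' <;> rw [e'] at h1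
  · exact Or.inl h1.symm
  · exact Or.inr (by rw [h1, mul_inv_cancel])

theorem pr_commute {a : ℕ} (ha : σ ^ a ≠ 1) {c : G}
    (hc : c ∈ Subgroup.centralizer ({σ ^ a} : Set G)) :
    S.pr c ∈ (P : Subgroup G) ⊓ Subgroup.centralizer ({σ ^ a} : Set G) ∧
      c * (S.pr c)⁻¹ ∈ S.core ⊓ Subgroup.centralizer ({σ ^ a} : Set G) := by
  have hcC := S.centralizer_pow_le ha hc
  obtain ⟨h1, h2⟩ := S.pr_spec hcC
  have hpa := pow_mem S.memσ a
  have h3 : S.pr c ∈ Subgroup.centralizer ({σ ^ a} : Set G) := by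
    rw [Subgroup.mem_centralizer_singleton_iff] at hc ⊢
    have e := congrArg S.pr hc
    rwa [S.pr_mul hcC (S.P_le_C hpa), S.pr_mul (S.P_le_C hpa) hcC, S.pr_of_mem hpa] at e
  exact ⟨⟨h1, h3⟩, ⟨h2, Subgroup.mul_mem _ hc (Subgroup.inv_mem _ h3)⟩⟩

theorem card_centralizer {a : ℕ} (ha : σ ^ a ≠ 1) :
    Nat.card (Subgroup.centralizer ({σ ^ a} : Set G)) =
      Nat.card (S.core ⊓ Subgroup.centralizer ({σ ^ a} : Set G) : Subgroup G) *
        Nat.card ((P : Subgroup G) ⊓ Subgroup.centralizer ({σ ^ a} : Set G) : Subgroup G) := by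
  rw [← Nat.card_prod]
  refine Nat.card_congr
    { toFun := fun c => (⟨_, (S.pr_commute ha c.2).2⟩, ⟨_, (S.pr_commute ha c.2).1⟩)
      invFun := fun x => ⟨x.1.1 * x.2.1, mul_mem x.1.2.2 x.2.2.2⟩
      left_inv := fun c => Subtype.ext (inv_mul_cancel_right _ _)
      right_inv := fun x => ?_ }
  have e := S.pr_eq x.1.2.1 x.2.2.1
  refine Prod.ext (Subtype.ext ?_) (Subtype.ext e)
  show x.1.1 * x.2.1 * (S.pr (x.1.1 * x.2.1))⁻¹ = x.1.1
  rw [e, mul_inv_cancel_right]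

open Classical in
theorem card_P_centralizer {a : ℕ} (ha : σ ^ a ≠ 1) :
    Nat.card ((P : Subgroup G) ⊓ Subgroup.centralizer ({σ ^ a} : Set G) : Subgroup G) =
      if σ ^ a * σ ^ a = 1 then 4 * h else 2 * h := by
  split_ifs with h2
  · rw [inf_eq_left.2, S.card_P]
    rw [S.J_unique h2 ha]
    exact S.P_le_C
  · rw [show (P : Subgroup G) ⊓ Subgroup.centralizer ({σ ^ a} : Set G) = Subgroup.zpowers σ from
      le_antisymm ?_ (le_inf (Subgroup.zpowers_le.2 S.memσ) (Subgroup.zpowers_le.2 ?_)),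
      Nat.card_zpowers, S.ordσ]
    · rintro x ⟨hx, hxc⟩
      obtain ⟨i, rfl | rfl⟩ := S.elems x hx
      · exact pow_mem (Subgroup.mem_zpowers σ) i
      · exfalso
        apply h2
        replace hxc := Subgroup.mem_centralizer_singleton_iff.1 hxc
        have e : τ * σ ^ a * τ⁻¹ = σ ^ a := by
          calc τ * σ ^ a * τ⁻¹ = τ * σ ^ i * σ ^ a * (τ * σ ^ i)⁻¹ := by group
            _ = σ ^ a * (τ * σ ^ i) * (τ * σ ^ i)⁻¹ := by rw [hxc]
            _ = σ ^ a := by group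
        rw [S.inverts] at e
        nth_rewrite 1 [← e]
        exact inv_mul_cancel _
    · exact Subgroup.mem_centralizer_singleton_iff.2 (Commute.self_pow σ a).eq

/-- The odd part of the centraliser of a power of `σ` is normal of index a power of 2. -/
theorem core_centralizer {a : ℕ} (ha : σ ^ a ≠ 1) :
    let L := S.core ⊓ Subgroup.centralizer ({σ ^ a} : Set G)
    L ≤ Subgroup.centralizer ({σ ^ a} : Set G) ∧
      (L.subgroupOf (Subgroup.centralizer ({σ ^ a} : Set G))).Normal ∧ Odd (Nat.card L) ∧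
      ∃ k, (L.subgroupOf (Subgroup.centralizer ({σ ^ a} : Set G))).index = 2 ^ k := by
  intro L
  haveI : Fact (Nat.Prime 2) := ⟨Nat.prime_two⟩
  refine ⟨inf_le_right, ⟨fun x hx g => ?_⟩, ?_, ?_⟩
  · rw [Subgroup.mem_subgroupOf] at hx ⊢
    refine ⟨?_, (g * x * g⁻¹).2⟩
    push_cast
    exact S.core_conj (S.centralizer_pow_le ha g.2) hx.1
  · exact S.core_odd.of_dvd_nat (Subgroup.card_dvd_of_le inf_le_left)
  · obtain ⟨k, hk⟩ := (P.isPGroup'.to_le (inf_le_left :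
      (P : Subgroup G) ⊓ Subgroup.centralizer ({σ ^ a} : Set G) ≤ P)).exists_card_eq
    refine ⟨k, ?_⟩
    have h1 := (L.subgroupOf (Subgroup.centralizer ({σ ^ a} : Set G))).card_mul_index
    rw [Nat.card_congr (Subgroup.subgroupOfEquivOfLe (inf_le_right :
      L ≤ Subgroup.centralizer ({σ ^ a} : Set G))).toEquiv, S.card_centralizer ha, hk] at h1
    exact Nat.eq_of_mul_eq_mul_left Nat.card_pos h1

end Setup

end CfsgLib.Inv54.DihedralBlock
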