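import Mathlib.GroupTheory.GroupAction.ConjAct
import Mathlib.GroupTheory.GroupAction.Quotient
import Mathlib.GroupTheory.Solvable
import Mathlib.GroupTheory.SpecificGroups.Alternating.KleinFour
import Mathlib.GroupTheory.Perm.Sign
import Cfsg.Agent.Small.Counting

/-!
# An involution with centraliser of order at most four

* `exists_index_two_not_mem`: Thompson's transfer lemma by parity on cosets.
* `card_centralizer_quotient_le`: `|C_{G/N}(xN)| ≤ |C_G(x)|`.
* `isSolvable_of_index_two_centralizer_le_four`: if an involution outside a subgroup of index 2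
  has centraliser of order at most 4, the group is solvable.
-/

set_option autoImplicit false

namespace CfsgLib.Inv54

open scoped commutatorElement

variable {G : Type*} [Group G] [Finite G]

/-- Thompson's transfer lemma: an involution none of whose conjugates lies in `M`, where `M` has
index twice an odd number, lies outside some subgroup of index 2. -/
theorem exists_index_two_not_mem (M : Subgroup G) {x : G} (hx : orderOf x = 2) {m : ℕ}
    (hm : Odd m) (hidx : M.index = 2 * m) (h : ∀ g : G, g⁻¹ * x * g ∉ M) :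
    ∃ K : Subgroup G, K.index = 2 ∧ x ∉ K := by
  classical
  have : Fintype (G ⧸ M) := Fintype.ofFinite _
  set σ := MulAction.toPermHom G (G ⧸ M) x with hσ
  have hsupp : σ.support = Finset.univ := by
    refine Finset.eq_univ_iff_forall.mpr fun q => ?_
    obtain ⟨g, rfl⟩ := Quotient.exists_rep q
    rw [Equiv.Perm.mem_support]
    intro hfix
    apply h g
    have h1 : ((x * g : G) : G ⧸ M) = (g : G ⧸ M) := hfix
    have h2 := QuotientGroup.eq.mp h1.symm
    rwa [← mul_assoc] at h2
  have hsq : σ ^ 2 = 1 := by
    rw [hσ, ← map_pow, ← hx, pow_orderOf_eq_one, map_one]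
  have hct : σ.cycleType = Multiset.replicate m 2 := by
    have hall : ∀ r ∈ σ.cycleType, r = 2 := by
      intro r hr
      have h1 : r ∣ 2 := (Equiv.Perm.dvd_of_mem_cycleType hr).trans (orderOf_dvd_of_pow_eq_one hsq)
      have h2 := Equiv.Perm.two_le_of_mem_cycleType hr
      have := Nat.le_of_dvd two_pos h1
      omega
    have hrep := Multiset.eq_replicate_card.mpr hall
    have hsum : σ.cycleType.sum = 2 * m := by
      rw [Equiv.Perm.sum_cycleType, hsupp, Finset.card_univ, ← Nat.card_eq_fintype_card, ← hidx]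
      rfl
    rw [hrep, Multiset.sum_replicate, smul_eq_mul] at hsum
    rw [hrep]
    congr 1
    omega
  let f : G →* ℤˣ := Equiv.Perm.sign.comp (MulAction.toPermHom G (G ⧸ M))
  have hfx : f x = -1 := by
    show Equiv.Perm.sign σ = -1
    rw [Equiv.Perm.sign_of_cycleType, hct, Multiset.sum_replicate, Multiset.card_replicate,
      smul_eq_mul, Odd.neg_one_pow]
    obtain ⟨j, rfl⟩ := hm
    exact ⟨3 * j + 1, by ring⟩
  refine ⟨f.ker, ?_, ?_⟩
  · rw [Subgroup.index_ker]
    have : f.range = ⊤ := by
      refine eq_top_iff.mpr fun u _ => ?_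
      rcases Int.units_eq_one_or u with rfl | rfl
      · exact one_mem _
      · exact ⟨x, hfx⟩
    rw [this, Subgroup.card_top, Nat.card_eq_fintype_card, Fintype.card_units_int]
  · rw [MonoidHom.mem_ker, hfx]
    decide

/-- Centralisers do not grow in quotients. -/
theorem card_centralizer_quotient_le (N : Subgroup G) [N.Normal] (x : G) :
    Nat.card (Subgroup.centralizer ({(x : G ⧸ N)} : Set (G ⧸ N))) ≤
      Nat.card (Subgroup.centralizer ({x} : Set G)) := by
  classical
  set C := Nat.card (Subgroup.centralizer ({x} : Set G))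
  set C' := Nat.card (Subgroup.centralizer ({(x : G ⧸ N)} : Set (G ⧸ N)))
  have h1 := CfsgLib.Small.card_conjugates_mul_card_centralizer x
  have h2 := CfsgLib.Small.card_conjugates_mul_card_centralizer (x : G ⧸ N)
  set A := Nat.card {g : G // IsConj x g}
  set B := Nat.card {g : G ⧸ N // IsConj (x : G ⧸ N) g}
  have h3 : A ≤ B * Nat.card N := by
    have : A ≤ Nat.card {g : G // IsConj (x : G ⧸ N) (g : G ⧸ N)} :=
      Nat.card_le_card_of_injective
        (fun g => ⟨g.1, (QuotientGroup.mk' N).map_isConj g.2⟩)
        (fun a b hab => Subtype.ext (congrArg (fun t : {g : G // IsConj (x : G ⧸ N) (g : G ⧸ N)} => t.1) hab))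
    refine this.trans_eq ?_
    rw [mul_comm]
    exact QuotientGroup.card_preimage_mk N {g : G ⧸ N | IsConj (x : G ⧸ N) g}
  have hG : Nat.card G = Nat.card (G ⧸ N) * Nat.card N :=
    Subgroup.card_eq_card_quotient_mul_card_subgroup N
  have hA : 0 < A := Nat.pos_of_ne_zero (by
    intro h0; rw [h0, zero_mul] at h1; exact Nat.card_pos.ne' h1.symm)
  have : A * C' ≤ A * C := by
    calc A * C' ≤ B * Nat.card N * C' := Nat.mul_le_mul_right _ h3
      _ = Nat.card G := by rw [hG, ← h2]; ring
      _ = A * C := h1.symm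
  exact Nat.le_of_mul_le_mul_left this hA

theorem isSolvable_perm_fin_four : Group.IsSolvable (Equiv.Perm (Fin 4)) := by
  have h4 : Nat.card (Fin 4) = 4 := by simp
  have hV : IsKleinFour (alternatingGroup.kleinFour (Fin 4)) :=
    alternatingGroup.kleinFour_isKleinFour h4
  have hVs : Group.IsSolvable (alternatingGroup.kleinFour (Fin 4)) :=
    Group.isSolvable_of_comm fun a b => mul_comm_of_exponent_two IsKleinFour.exponent_two a b
  have hn := alternatingGroup.normal_kleinFour (α := Fin 4) h4
  have hA : Group.IsSolvable (alternatingGroup (Fin 4)) := by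
    refine (Group.isSolvable_iff_subgroup_quotient (alternatingGroup.kleinFour (Fin 4))).mpr
      ⟨hVs, Group.isSolvable_of_comm fun a b => ?_⟩
    obtain ⟨a, rfl⟩ := QuotientGroup.mk'_surjective _ a
    obtain ⟨b, rfl⟩ := QuotientGroup.mk'_surjective _ b
    rw [← map_mul, ← map_mul]
    apply (QuotientGroup.eq).mpr
    rw [alternatingGroup.kleinFour_eq_commutator h4, show (a * b)⁻¹ * (b * a) = ⁅b⁻¹, a⁻¹⁆ by
      rw [commutatorElement_def]; group]
    exact Subgroup.commutator_mem_commutator (Subgroup.mem_top _) (Subgroup.mem_top _)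
  exact Group.isSolvable_of_ker_le_range (alternatingGroup (Fin 4)).subtype Equiv.Perm.sign
    (by rw [Subgroup.range_subtype]; exact le_rfl)

theorem isSolvable_perm_of_card_le_four {α : Type*} [Finite α] (h : Nat.card α ≤ 4) :
    Group.IsSolvable (Equiv.Perm α) := by
  have := isSolvable_perm_fin_four
  let e := Finite.equivFin α
  let ι : α ↪ Fin 4 := e.toEmbedding.trans (Fin.castLEEmb h)
  exact Group.isSolvable_of_isSolvable_injective (Equiv.Perm.viaEmbeddingHom_injective ι)

omit [Finite G] in
/-- The counting step: some non-trivial element of `K` has at most four conjugates in `K`. -/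
theorem exists_ne_one_centralizer_index_le_four [Finite G] {K : Subgroup G} (hK : K.index = 2)
    {x : G} (hx : orderOf x = 2) (hxK : x ∉ K)
    (hC : Nat.card (Subgroup.centralizer ({x} : Set G)) ≤ 4) (hK1 : K ≠ ⊥) :
    ∃ g : K, g ≠ 1 ∧ (Subgroup.centralizer ({g} : Set K)).index ≤ 4 := by
  classical
  by_contra! hno
  have : Nontrivial K := K.bot_or_nontrivial.resolve_left hK1
  obtain ⟨g₀, hg₀⟩ := exists_ne (1 : K)
  set k := Nat.card K with hk
  have hk6 : 6 < k := by
    by_contra! hk6
    have h5 := hno g₀ hg₀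
    have hmul := Subgroup.card_mul_index (Subgroup.centralizer ({g₀} : Set K))
    have h2 : 2 ≤ Nat.card (Subgroup.centralizer ({g₀} : Set K)) := by
      rw [← not_lt, Nat.lt_succ_iff]
      intro h1
      have hb := Subgroup.card_le_one_iff_eq_bot _ |>.mp h1
      have : g₀ ∈ Subgroup.centralizer ({g₀} : Set K) :=
        Subgroup.mem_centralizer_singleton_iff.mpr rfl
      rw [hb] at this
      exact hg₀ this
    rw [← hk] at hmul
    nlinarith
  let X := {g : G // IsConj x g}
  have : Fintype K := Fintype.ofFinite _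
  have : Fintype X := Fintype.ofFinite _
  set h := Nat.card X with hh
  have hcard : h * Nat.card (Subgroup.centralizer ({x} : Set G)) = 2 * k := by
    rw [hh, CfsgLib.Small.card_conjugates_mul_card_centralizer, ← hK, hk, Subgroup.index_mul_card]
  have hxo : ∀ u : X, u.1 ∉ K ∧ orderOf u.1 = 2 := by
    rintro ⟨u, hu⟩
    obtain ⟨g, rfl⟩ := isConj_iff.mp hu
    refine ⟨fun hm => hxK ?_, (CfsgLib.Small.orderOf_conj_eq g x).trans hx⟩
    have hn : K.Normal := Subgroup.normal_of_index_eq_two hK
    have := hn.conj_mem _ hm g⁻¹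
    group at this
    simpa using this
  have hmem : ∀ p : X × X, p.1.1 * p.2.1 ∈ K := fun p =>
    (Subgroup.mul_mem_iff_of_index_two hK).mpr
      (iff_of_false (hxo p.1).1 (hxo p.2).1)
  -- fibres of the product map
  let F : X × X → K := fun p => ⟨p.1.1 * p.2.1, hmem p⟩
  have hfib : ∀ g : K, g ≠ 1 → 5 * (Finset.univ.filter fun p => F p = g).card ≤ k := by
    intro g hg
    set c := Subgroup.centralizer ({g} : Set K)
    by_cases hne : (Finset.univ.filter fun p => F p = g) = ∅
    · rw [hne]; simp
    obtain ⟨p₀, hp₀⟩ := Finset.nonempty_iff_ne_empty.mpr hne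
    have hle : (Finset.univ.filter fun p => F p = g).card ≤ Nat.card c := by
      have hinv : ∀ p : X × X, F p = g → p.1.1 * (g : G) * p.1.1⁻¹ = (g : G)⁻¹ := by
        intro p hp
        rw [← congrArg Subtype.val hp]
        exact CfsgLib.Small.invol_conj_mul (hxo p.1).2 (hxo p.2).2
      rw [← Fintype.card_coe, ← Nat.card_eq_fintype_card]
      refine Nat.card_le_card_of_injective (fun p => (⟨⟨p₀.1.1⁻¹ * p.1.1.1, ?_⟩, ?_⟩ : c)) ?_
      · exact (Subgroup.mul_mem_iff_of_index_two hK).mpr
          (iff_of_false (by rw [inv_mem_iff]; exact (hxo _).1) (hxo _).1)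
      · refine Subgroup.mem_centralizer_singleton_iff.mpr (Subtype.ext ?_)
        have e1 := hinv p.1 (Finset.mem_filter.mp p.2).2
        have e0 := hinv p₀ (Finset.mem_filter.mp hp₀).2
        show p₀.1.1⁻¹ * p.1.1.1 * (g : G) = (g : G) * (p₀.1.1⁻¹ * p.1.1.1)
        calc p₀.1.1⁻¹ * p.1.1.1 * (g : G)
            = p₀.1.1⁻¹ * (p.1.1.1 * (g : G) * p.1.1.1⁻¹) * p.1.1.1 := by group
          _ = p₀.1.1⁻¹ * (p₀.1.1 * (g : G) * p₀.1.1⁻¹) * p.1.1.1 := by rw [e1, e0]
          _ = (g : G) * (p₀.1.1⁻¹ * p.1.1.1) := by group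
      · intro p q hpq
        have h1 : p.1.1 = q.1.1 := Subtype.ext (mul_left_cancel
          (congrArg (fun t : c => ((t : K) : G)) hpq))
        have h2 : p.1.2.1 = q.1.2.1 := mul_left_cancel (a := p.1.1.1) (by
          have := (Finset.mem_filter.mp p.2).2.trans (Finset.mem_filter.mp q.2).2.symm
          have := congrArg Subtype.val this
          simp only [F] at this
          rw [this, h1])
        exact Subtype.ext (Prod.ext h1 (Subtype.ext h2))
    have h5 := hno g hg
    have hmul := Subgroup.card_mul_index c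
    rw [← hk] at hmul
    calc 5 * (Finset.univ.filter fun p => F p = g).card ≤ c.index * Nat.card c :=
          Nat.mul_le_mul h5 hle
      _ = k := by rw [mul_comm]; exact hmul
  have hone : (Finset.univ.filter fun p => F p = 1).card ≤ h := by
    rw [hh, ← Fintype.card_coe, ← Nat.card_eq_fintype_card]
    refine Nat.card_le_card_of_injective (fun p => p.1.1) fun p q hpq => ?_
    have hp := congrArg Subtype.val (Finset.mem_filter.mp p.2).2
    have hq := congrArg Subtype.val (Finset.mem_filter.mp q.2).2
    simp only [F, OneMemClass.coe_one] at hp hq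
    refine Subtype.ext (Prod.ext hpq (Subtype.ext ?_))
    rw [eq_inv_of_mul_eq_one_right hp, eq_inv_of_mul_eq_one_right hq]
    exact congrArg (fun t : X => t.1⁻¹) hpq
  have hsum : h * h = ∑ g : K, (Finset.univ.filter fun p => F p = g).card := by
    rw [← Finset.card_eq_sum_card_fiberwise (fun p _ => Finset.mem_univ _), Finset.card_univ,
      Fintype.card_prod, hh, Nat.card_eq_fintype_card]
  have hbound : 5 * (h * h) ≤ 5 * h + (k - 1) * k := by
    rw [hsum, Finset.mul_sum, ← Finset.sum_erase_add _ _ (Finset.mem_univ (1 : K)), add_comm]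
    refine Nat.add_le_add (Nat.mul_le_mul_left 5 hone) ((Finset.sum_le_card_nsmul _ _ k
      fun g hg => hfib g (Finset.ne_of_mem_erase hg)).trans_eq ?_)
    rw [Finset.card_erase_of_mem (Finset.mem_univ _), Finset.card_univ, ← Nat.card_eq_fintype_card,
      smul_eq_mul]
  have h2h : k ≤ 2 * h := by nlinarith
  obtain ⟨k', hk'⟩ : ∃ k', k = k' + 1 := ⟨k - 1, by omega⟩
  rw [hk', Nat.add_sub_cancel] at hbound
  nlinarith

/-- If an involution outside a subgroup of index two has centraliser of order at most four, the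
group is solvable. -/
theorem isSolvable_of_index_two_centralizer_le_four :
    ∀ (n : ℕ) {G : Type*} [Group G] [Finite G], Nat.card G ≤ n → ∀ (K : Subgroup G),
      K.index = 2 → ∀ x : G, orderOf x = 2 → x ∉ K →
      Nat.card (Subgroup.centralizer ({x} : Set G)) ≤ 4 → Group.IsSolvable G := by
  intro n
  induction n with
  | zero => intro G _ _ h; exact absurd h (by have := Nat.card_pos (α := G); omega)
  | succ n ih =>
    intro G _ _ hn K hK x hx hxK hC
    have hKn : K.Normal := Subgroup.normal_of_index_eq_two hK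
    have hGK : Group.IsSolvable K → Group.IsSolvable G := fun hs =>
      (Group.isSolvable_iff_subgroup_quotient K).mpr ⟨hs, Group.isSolvable_of_comm fun a b => by
        have hcard : Nat.card (G ⧸ K) = 2 := hK
        have : Fact (Nat.Prime 2) := ⟨Nat.prime_two⟩
        have := isCyclic_of_prime_card hcard
        exact IsMulCommutative.is_comm.comm a b⟩
    apply hGK
    by_cases hK1 : K = ⊥
    · subst hK1; infer_instance
    obtain ⟨g, hg1, hgi⟩ := exists_ne_one_centralizer_index_le_four hK hx hxK hC hK1
    -- reduction to a normal subgroup `D` of `G` inside `K`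
    have hred : ∀ D : Subgroup G, D.Normal → D ≤ K → D ≠ ⊥ → Group.IsSolvable D →
        Group.IsSolvable K := by
      intro D hD hDK hD1 hDs
      have hlt : Nat.card (G ⧸ D) ≤ n := by
        have h1 := Subgroup.card_eq_card_quotient_mul_card_subgroup D
        have h2 := D.one_lt_card_iff_ne_bot.mpr hD1
        have h3 : 0 < Nat.card (G ⧸ D) := Nat.card_pos
        nlinarith
      have hK' : (K.map (QuotientGroup.mk' D)).index = 2 := by
        rw [Subgroup.index_map_eq _ (QuotientGroup.mk'_surjective D) (by simpa using hDK), hK]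
      have hxK' : (x : G ⧸ D) ∉ K.map (QuotientGroup.mk' D) := by
        rintro ⟨k, hk, hkx⟩
        exact hxK (by
          have := hDK (QuotientGroup.eq.mp hkx)
          simpa using K.mul_mem hk this)
      have hx' : orderOf (x : G ⧸ D) = 2 := by
        refine orderOf_eq_prime ?_ ?_
        · rw [← QuotientGroup.mk_pow, ← hx, pow_orderOf_eq_one]; rfl
        · intro h
          exact hxK (hDK ((QuotientGroup.eq_one_iff x).mp h))
      have hs : Group.IsSolvable (G ⧸ D) := ih hlt _ hK' _ hx' hxK'
        ((card_centralizer_quotient_le D x).trans hC)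
      have : Group.IsSolvable G := (Group.isSolvable_iff_subgroup_quotient D).mpr ⟨hDs, hs⟩
      infer_instance
    by_cases hgc : g ∈ Subgroup.center K
    · let D : Subgroup G := (Subgroup.center K).map K.subtype
      have hD : D.Normal := ConjAct.normal_of_characteristic_of_normal
      refine hred D hD (Subgroup.map_subtype_le _) ?_ ?_
      · intro h
        rw [Subgroup.map_eq_bot_iff, Subgroup.ker_subtype, le_bot_iff] at h
        rw [h] at hgc
        exact hg1 (Subgroup.mem_bot.mp hgc)
      · refine Group.isSolvable_of_comm ?_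
        rintro ⟨_, a, ha, rfl⟩ ⟨_, b, hb, rfl⟩
        exact Subtype.ext (congrArg (K.subtype) (Subgroup.mem_center_iff.mp hb a))
    -- `C` is the kernel of the action on the at most four conjugates of `g`
    set H := Subgroup.centralizer ({g} : Set K)
    set C := (MulAction.toPermHom K (K ⧸ H)).ker
    have hP : Group.IsSolvable (Equiv.Perm (K ⧸ H)) := isSolvable_perm_of_card_le_four hgi
    have hKC : Group.IsSolvable (K ⧸ C) :=
      Group.isSolvable_of_isSolvable_injective (QuotientGroup.kerLift_injective _)
    let C' : Subgroup G := C.map K.subtype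
    let D : Subgroup G := C' ⊓ C'.map (MulAut.conj x).toMonoidHom
    have hC'K : C' ≤ K := Subgroup.map_subtype_le _
    have hCn : ∀ k ∈ K, ∀ c ∈ C', k * c * k⁻¹ ∈ C' := by
      rintro k hk _ ⟨c, hc, rfl⟩
      exact ⟨⟨k, hk⟩ * c * (⟨k, hk⟩ : K)⁻¹, (inferInstance : C.Normal).conj_mem c hc _, rfl⟩
    have hx2 : x * x = 1 := CfsgLib.Small.mul_self_of_orderOf_two hx
    have hxi : x⁻¹ = x := CfsgLib.Small.inv_eq_self_of_orderOf_two hx
    have hmemD : ∀ d, d ∈ D ↔ d ∈ C' ∧ x * d * x ∈ C' := by
      intro d
      constructor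
      · rintro ⟨h1, c, hc, rfl⟩
        refine ⟨h1, ?_⟩
        simpa [hxi, mul_assoc, hx2, ← mul_assoc x x] using hc
      · rintro ⟨h1, h2⟩
        exact ⟨h1, x * d * x, h2, by simp [hxi, mul_assoc, hx2, ← mul_assoc x x]⟩
    have hDK : D ≤ K := inf_le_left.trans hC'K
    have hDn : D.Normal := by
      refine ⟨fun d hd a => ?_⟩
      have hK' : ∀ k ∈ K, ∀ d, d ∈ D → k * d * k⁻¹ ∈ D := by
        intro k hk d hd
        obtain ⟨h1, h2⟩ := (hmemD d).mp hd
        refine (hmemD _).mpr ⟨hCn k hk d h1, ?_⟩
        have hk' : x * k * x ∈ K := by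
          simpa [hxi] using hKn.conj_mem k hk x
        have := hCn _ hk' _ h2
        simpa [hxi, mul_assoc, hx2, ← mul_assoc x x, mul_inv_rev] using this
      have hx' : ∀ d, d ∈ D → x * d * x⁻¹ ∈ D := by
        intro d hd
        obtain ⟨h1, h2⟩ := (hmemD d).mp hd
        refine (hmemD _).mpr ⟨by rwa [hxi], ?_⟩
        simpa [hxi, mul_assoc, hx2, ← mul_assoc x x] using h1
      by_cases ha : a ∈ K
      · exact hK' a ha d hd
      · have hax : a * x ∈ K := (Subgroup.mul_mem_iff_of_index_two hK).mpr (iff_of_false ha hxK)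
        have := hK' _ hax _ (hx' d hd)
        convert this using 1
        rw [mul_inv_rev, hxi]
        simp [mul_assoc, hx2, ← mul_assoc x x]
    have hDlt : D ≠ K := by
      intro hDK'
      apply hgc
      rw [Subgroup.mem_center_iff]
      intro k
      have hkC : (k : G) ∈ C' := (hDK'.symm ▸ k.2 : (k : G) ∈ D).1
      obtain ⟨c, hc, hck⟩ := hkC
      obtain rfl : c = k := Subtype.ext hck
      have h1 := congrArg (fun σ : Equiv.Perm (K ⧸ H) => σ ((1 : K) : K ⧸ H)) hc
      have h2 : ((c * 1 : K) : K ⧸ H) = ((1 : K) : K ⧸ H) := h1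
      rw [mul_one] at h2
      have h3 := QuotientGroup.eq.mp h2.symm
      rw [inv_one, one_mul] at h3
      exact Subgroup.mem_centralizer_singleton_iff.mp h3
    by_cases hD1 : D = ⊥
    · let φ : K →* (K ⧸ C) × (K ⧸ C) := (QuotientGroup.mk' C).prod
        ((QuotientGroup.mk' C).comp (MulAut.conjNormal x).toMonoidHom)
      refine Group.isSolvable_of_isSolvable_injective (f := φ) ((injective_iff_map_eq_one φ).mpr
        fun k hk => ?_)
      have h1 : k ∈ C := (QuotientGroup.eq_one_iff k).mp (congrArg Prod.fst hk)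
      have h2 : MulAut.conjNormal x k ∈ C := (QuotientGroup.eq_one_iff _).mp (congrArg Prod.snd hk)
      have : (k : G) ∈ D := by
        refine (hmemD _).mpr ⟨⟨k, h1, rfl⟩, ⟨_, h2, ?_⟩⟩
        show ((MulAut.conjNormal x k : K) : G) = x * (k : G) * x
        rw [MulAut.conjNormal_apply, hxi]
      rw [hD1] at this
      exact Subtype.ext this
    -- `D⟨x⟩` is smaller
    refine hred D hDn hDK hD1 ?_
    let L : Subgroup G := D ⊔ Subgroup.zpowers x
    have hLK : L ⊓ K = D := by
      refine le_antisymm ?_ (le_inf le_sup_left hDK)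
      rintro l ⟨hl, hlK⟩
      obtain ⟨d, hd, y, hy, rfl⟩ := Subgroup.mem_sup_of_normal_left.mp hl
      obtain ⟨j, rfl⟩ := Subgroup.mem_zpowers_iff.mp hy
      rcases Int.even_or_odd j with ⟨i, rfl⟩ | ⟨i, rfl⟩
      · rw [← two_mul, zpow_mul, zpow_two, hx2, one_zpow, mul_one]; exact hd
      · exfalso
        rw [zpow_add, zpow_mul, zpow_two, hx2, one_zpow, one_mul, zpow_one] at hlK
        exact hxK (by simpa using K.mul_mem (K.inv_mem (hDK hd)) hlK)
    have hxL : x ∈ L := le_sup_right (a := D) (Subgroup.mem_zpowers x)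
    have hidx : (D.subgroupOf L).index = 2 := by
      have h1 : K.relIndex L ∣ K.index := Subgroup.relIndex_dvd_index_of_normal K L
      have h2 : D.relIndex L = K.relIndex L := by rw [← hLK, inf_comm, Subgroup.inf_relIndex_right]
      rw [hK] at h1
      rcases (Nat.dvd_prime Nat.prime_two).mp h1 with h3 | h3
      · exact absurd (Subgroup.relIndex_eq_one.mp h3 hxL) hxK
      · exact h2.trans h3
    have hcardL : Nat.card L ≤ n := by
      have h1 := Subgroup.card_mul_index (D.subgroupOf L)
      rw [hidx, Nat.card_congr (Subgroup.subgroupOfEquivOfLe (le_sup_left : D ≤ L)).toEquiv] at h1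
      have h2 : Nat.card D < Nat.card K :=
        lt_of_le_of_ne (Subgroup.card_le_of_le hDK) fun he => hDlt
          (Subgroup.eq_of_le_of_card_ge hDK he.ge)
      have h3 := Subgroup.index_mul_card K
      rw [hK] at h3
      omega
    have hLs : Group.IsSolvable L := by
      refine ih hcardL (D.subgroupOf L) hidx ⟨x, hxL⟩ (by rw [Subgroup.orderOf_mk]; exact hx)
        (fun h => hxK (hDK h)) (le_trans ?_ hC)
      refine Nat.card_le_card_of_injective
        (fun c => (⟨((c : L) : G), Subgroup.mem_centralizer_singleton_iff.mpr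
          (congrArg Subtype.val (Subgroup.mem_centralizer_singleton_iff.mp c.2))⟩ :
          Subgroup.centralizer ({x} : Set G))) ?_
      intro a b h
      exact Subtype.ext (Subtype.ext (congrArg (fun t : Subgroup.centralizer ({x} : Set G) => (t : G)) h))
    exact Group.isSolvable_of_isSolvable_injective (Subgroup.inclusion_injective (le_sup_left : D ≤ L))

end CfsgLib.Inv54
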