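import Cfsg.Agent.Inv54.SigmaEndgame
import Cfsg.Agent.MaxClassTwo.Class
import Cfsg.Agent.TwoGroups.NoIndexTwo
import Cfsg.Agent.TwoGroups.Closed
import Cfsg.Agent.Small.SylowArgs
import Cfsg.Agent.SelfCentralThree.Main
import Cfsg.Agent.S0107
import Cfsg.Agent.S0112
import Cfsg.Agent.S0201
import Cfsg.Agent.S0494
import Cfsg.Agent.S0495
import Cfsg.Agent.S3224
import Cfsg.Agent.S3278
import Cfsg.Agent.S4399

/-!
# Simple groups with an element whose centraliser has order at most four
-/

set_option autoImplicit false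
set_option linter.style.haveILetI false
set_option linter.unusedSectionVars false

namespace CfsgLib.Inv54.SmallCentralizer

open Cfsg
open scoped commutatorElement

universe u

variable {G : Type u} [Group G] [Finite G]

/-- The conclusion of the classification. -/
def Target (G : Type u) [Group G] : Prop :=
  Nonempty (G ≃* ↥(alternatingGroup (Fin 5))) ∨ Nonempty (G ≃* ↥(alternatingGroup (Fin 6))) ∨
    Nonempty (G ≃* ↥(alternatingGroup (Fin 7))) ∨
    (∃ (F : Type) (_ : Field F) (_ : Fintype F), Fintype.card F = 7 ∧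
      Nonempty (G ≃* Matrix.ProjectiveSpecialLinearGroup (Fin 2) F))

theorem card_centralizer_eq_of_isConj {a b : G} (h : IsConj a b) :
    Nat.card (Subgroup.centralizer ({a} : Set G)) =
      Nat.card (Subgroup.centralizer ({b} : Set G)) := by
  obtain ⟨g, rfl⟩ := isConj_iff.1 h
  rw [← Subgroup.card_map_of_injective
    (K := Subgroup.centralizer ({a} : Set G)) (f := (MulAut.conj g).toMonoidHom)
    (MulAut.conj g).injective]
  refine congrArg (fun H : Subgroup G => Nat.card H) ?_
  ext x
  rw [Subgroup.mem_map, Subgroup.mem_centralizer_singleton_iff]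
  constructor
  · rintro ⟨y, hy, rfl⟩
    rw [Subgroup.mem_centralizer_singleton_iff] at hy
    show g * y * g⁻¹ * (g * a * g⁻¹) = g * a * g⁻¹ * (g * y * g⁻¹)
    rw [conj_mul, conj_mul, hy]
  · intro hx
    refine ⟨g⁻¹ * x * g, Subgroup.mem_centralizer_singleton_iff.2 ?_, ?_⟩
    · calc g⁻¹ * x * g * a = g⁻¹ * (x * (g * a * g⁻¹)) * g := by group
        _ = a * (g⁻¹ * x * g) := by rw [hx]; group
    · show g * (g⁻¹ * x * g) * g⁻¹ = x
      group

/-- Every element of a subgroup commuting with `a` lies in its centraliser. -/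
theorem le_centralizer_of_comm {H : Subgroup G} {a : G} (h : ∀ x ∈ H, x * a = a * x) :
    H ≤ Subgroup.centralizer ({a} : Set G) := fun x hx =>
  Subgroup.mem_centralizer_singleton_iff.2 (h x hx)

variable [IsSimpleGroup G] (hG : ¬ IsMulCommutative G)
include hG

theorem not_isCyclic_sylow (S : Sylow 2 G) (h2 : 2 ∣ Nat.card G) :
    ¬ IsCyclic (S : Subgroup G) := fun h =>
  haveI : Fact (Nat.Prime 2) := ⟨Nat.prime_two⟩
  haveI : IsCyclic S := h
  CfsgLib.Small.not_normalizer_le_centralizer hG h2 S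
    (IsCyclic.normalizer_le_centralizer ((Nat.minFac_eq_two_iff _).2 h2) inferInstance)

theorem commutator_top : commutator G = ⊤ := by
  refine (IsSimpleGroup.eq_bot_or_eq_top_of_normal _ inferInstance).resolve_left fun h => hG
    ⟨⟨fun a b => ?_⟩⟩
  have hab : ⁅a, b⁆ ∈ commutator G :=
    Subgroup.commutator_mem_commutator (Subgroup.mem_top a) (Subgroup.mem_top b)
  rw [h, Subgroup.mem_bot] at hab
  exact commutatorElement_eq_one_iff_mul_comm.1 hab

theorem pResidual_top : Cfsg.pResidual 2 G = ⊤ := by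
  haveI : Fact (Nat.Prime 2) := ⟨Nat.prime_two⟩
  let P : Sylow 2 G := default
  refine (CfsgLib.Closed.pResidual_eq_top_iff P).2 ?_
  rw [commutator_top hG]
  exact le_top

/-- No Sylow 2-subgroup is generalised quaternion. -/
theorem not_quaternion_sylow (S : Sylow 2 G) (h2 : 2 ∣ Nat.card G) (k : ℕ)
    (e : (S : Subgroup G) ≃* QuaternionGroup (2 ^ (k + 1))) : False := by
  have h := Cfsg.Agent.S0201.result S k e fun N hN hodd => by
    refine (IsSimpleGroup.eq_bot_or_eq_top_of_normal N hN).resolve_right fun ht => ?_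
    rw [ht, Subgroup.card_top] at hodd
    exact Nat.not_even_iff_odd.2 hodd (even_iff_two_dvd.2 h2)
  rw [CfsgLib.Small.center_eq_bot_of_simple hG, Subgroup.card_bot] at h
  omega

/-- With a semidihedral Sylow 2-subgroup, elements of order 2 or 4 have large centraliser. -/
theorem eight_le_of_semidihedral (S : Sylow 2 G) (hS : Cfsg.IsQuasiDihedral (S : Subgroup G))
    {t : G} (ht : orderOf t = 2 ∨ orderOf t = 4) :
    8 ≤ Nat.card (Subgroup.centralizer ({t} : Set G)) := by
  haveI : Fact (Nat.Prime 2) := ⟨Nat.prime_two⟩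
  obtain ⟨n, x, y, d⟩ := CfsgLib.TwoGroups.exists_sdPair hS
  haveI := Fintype.ofFinite G
  obtain ⟨T, Q, hT, hTS, hQS, ⟨eQ⟩, h₁, h₂⟩ :=
    d.six_of_no_index_two S hS (SigmaGroup.no_index_two hG)
  have h8 : 8 ≤ 2 ^ n :=
    (show (8 : ℕ) = 2 ^ 3 from rfl) ▸ Nat.pow_le_pow_right two_pos d.le
  have hxx : ∀ i : ℤ, Subgroup.zpowers (x : G) ≤
      Subgroup.centralizer ({((x ^ i : (S : Subgroup G)) : G)} : Set G) := fun i =>
    Subgroup.zpowers_le.2 (Subgroup.mem_centralizer_singleton_iff.2 (by
      rw [SubgroupClass.coe_zpow]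
      exact ((Commute.refl (x : G)).zpow_right i).eq))
  have hcx : ∀ i : ℤ, 8 ≤ Nat.card (Subgroup.centralizer
      ({((x ^ i : (S : Subgroup G)) : G)} : Set G)) := fun i => by
    refine le_trans ?_ (Subgroup.card_le_of_le (hxx i))
    rw [Nat.card_zpowers, Subgroup.orderOf_coe, d.ox]
    exact h8
  rcases ht with ht | ht
  · obtain ⟨a, ha, hta⟩ := CfsgLib.TwoGroups.exists_isConj_sylow S (k := 1) (by simpa using ht)
    rw [card_centralizer_eq_of_isConj
      (hta.trans (d.isConj_z_of_six S hT hTS h₁ a (by simpa using ha)))]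
    exact hcx _
  · obtain ⟨a, ha, hta⟩ := CfsgLib.TwoGroups.exists_isConj_sylow S (k := 2) (by simpa using ht)
    rw [card_centralizer_eq_of_isConj
      (hta.trans (d.isConj_w_of_six S hQS eQ h₂ a (by simpa using ha)))]
    exact hcx _

/-- The centraliser in a Sylow subgroup containing the whole centraliser. -/
theorem card_centralizer_sylow (S : Sylow 2 G) {w : G} (hwS : w ∈ (S : Subgroup G))
    (hC : Subgroup.centralizer ({w} : Set G) ≤ (S : Subgroup G)) :
    Nat.card (Subgroup.centralizer ({(⟨w, hwS⟩ : (S : Subgroup G))} : Set (S : Subgroup G))) =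
      Nat.card (Subgroup.centralizer ({w} : Set G)) := by
  refine Nat.card_congr
    { toFun := fun c => ⟨((c : (S : Subgroup G)) : G), Subgroup.mem_centralizer_singleton_iff.2
        (congrArg Subtype.val (Subgroup.mem_centralizer_singleton_iff.1 c.2))⟩
      invFun := fun c => ⟨⟨c, hC c.2⟩, Subgroup.mem_centralizer_singleton_iff.2
        (Subtype.ext (Subgroup.mem_centralizer_singleton_iff.1 c.2))⟩
      left_inv := fun c => rfl
      right_inv := fun c => rfl }

omit [IsSimpleGroup G] hG in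
/-- A nontrivial Sylow 2-subgroup has a central involution. -/
theorem exists_central_involution (S : Sylow 2 G) (h : 2 ∣ Nat.card (S : Subgroup G)) :
    ∃ z ∈ (S : Subgroup G), orderOf z = 2 ∧
      (S : Subgroup G) ≤ Subgroup.centralizer ({z} : Set G) := by
  haveI : Fact (Nat.Prime 2) := ⟨Nat.prime_two⟩
  haveI : Nontrivial (S : Subgroup G) := Finite.one_lt_card_iff_nontrivial.1
    (lt_of_lt_of_le one_lt_two (Nat.le_of_dvd Nat.card_pos h))
  haveI := S.isPGroup'.center_nontrivial
  obtain ⟨k, hk⟩ := (S.isPGroup'.to_subgroup (Subgroup.center (S : Subgroup G))).exists_card_eq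
  have h1 : 1 < Nat.card (Subgroup.center (S : Subgroup G)) :=
    Finite.one_lt_card_iff_nontrivial.2 inferInstance
  have h2 : 2 ∣ Nat.card (Subgroup.center (S : Subgroup G)) := by
    rw [hk] at h1 ⊢
    exact dvd_pow_self 2 fun e => by rw [e] at h1; simp at h1
  obtain ⟨z, hz⟩ := exists_prime_orderOf_dvd_card' 2 h2
  refine ⟨((z : (S : Subgroup G)) : G), (z : (S : Subgroup G)).2, ?_,
    le_centralizer_of_comm fun x hx => congrArg Subtype.val
      (Subgroup.mem_center_iff.1 z.2 ⟨x, hx⟩)⟩
  rw [Subgroup.orderOf_coe, Subgroup.orderOf_coe, hz]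

/-- `|C(w)| = 2` does not occur. -/
theorem not_two (w : G) (hw1 : w ≠ 1)
    (hC : Nat.card (Subgroup.centralizer ({w} : Set G)) = 2) : False := by
  haveI : Fact (Nat.Prime 2) := ⟨Nat.prime_two⟩
  obtain ⟨S, hS⟩ := (IsPGroup.of_card (p := 2) (n := 1)
    (show Nat.card (Subgroup.centralizer ({w} : Set G)) = 2 ^ 1 by
      rw [hC, pow_one])).exists_le_sylow
  have hwC : w ∈ Subgroup.centralizer ({w} : Set G) :=
    Subgroup.mem_centralizer_singleton_iff.2 rfl
  obtain ⟨z, hzS, hz, hzC⟩ := exists_central_involution S (by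
    have := Subgroup.card_dvd_of_le hS
    rwa [hC] at this)
  have hzw : z ∈ Subgroup.centralizer ({w} : Set G) := Subgroup.mem_centralizer_singleton_iff.2
    (Subgroup.mem_centralizer_singleton_iff.1 (hzC (hS hwC))).symm
  obtain ⟨u, -, huniq⟩ := (Nat.card_eq_two_iff' (1 : Subgroup.centralizer ({w} : Set G))).1 hC
  have e1 := huniq ⟨w, hwC⟩ fun e => hw1 (congrArg Subtype.val e)
  have e2 := huniq ⟨z, hzw⟩ fun e => Small.ne_one_of_orderOf_two hz (congrArg Subtype.val e)
  have hzw' : z = w := congrArg Subtype.val (e2.trans e1.symm)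
  subst hzw'
  have hS2 : Nat.card (S : Subgroup G) = 2 := by
    rw [← le_antisymm hS hzC]; exact hC
  have h2G := Subgroup.card_subgroup_dvd_card (S : Subgroup G)
  rw [hS2] at h2G
  exact not_isCyclic_sylow hG S h2G
    (isCyclic_of_prime_card hS2)

/-- `|C(w)| = 3`. -/
theorem three (w : G) (hw1 : w ≠ 1)
    (hC : Nat.card (Subgroup.centralizer ({w} : Set G)) = 3) : Target G := by
  haveI : Fact (Nat.Prime 3) := ⟨Nat.prime_three⟩
  have hord : orderOf w = 3 := by
    have h := Subgroup.orderOf_dvd_natCard _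
      (Subgroup.mem_centralizer_singleton_iff.2 (rfl : w * w = w * w))
    rw [hC] at h
    exact ((Nat.dvd_prime Nat.prime_three).1 h).resolve_left fun e =>
      hw1 (orderOf_eq_one_iff.1 e)
  have h : CfsgLib.SelfCentralizing.Hyp G 3 w := by
    refine ⟨Nat.prime_three, hord, (Subgroup.eq_of_le_of_card_ge (Subgroup.zpowers_le.2
      (Subgroup.mem_centralizer_singleton_iff.2 rfl)) ?_).symm⟩
    rw [hC, Nat.card_zpowers, hord]
  rcases CfsgLib.SelfCentralThree.shape h with ⟨N, hN, hnil, -, hidx⟩ |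
    ⟨N, hN, hcomm, -, hidx, -⟩ | ⟨hc, -⟩
  · exfalso
    rcases IsSimpleGroup.eq_bot_or_eq_top_of_normal N hN with e | e
    · subst e
      rw [Subgroup.index_bot] at hidx
      rcases hidx with e | e
      · exact CfsgLib.Small.centralizer_singleton_ne_top hG hw1
          (Subgroup.eq_top_of_card_eq _ (by rw [hC, e]))
      · have h4 := CfsgLib.Small.four_dvd_card_of_simple hG (by rw [e]; norm_num)
        rw [e] at h4
        norm_num at h4
    · subst e
      haveI : Group.IsNilpotent G :=
        Group.nilpotent_of_mulEquiv (Subgroup.topEquiv (G := G))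
      haveI : Nontrivial G := ⟨⟨w, 1, hw1⟩⟩
      have hz := CfsgLib.Small.center_eq_bot_of_simple hG
      have := Group.IsNilpotent.center_ne_bot (G := G)
      exact this hz
  · rcases IsSimpleGroup.eq_bot_or_eq_top_of_normal N hN with e | e
    · subst e
      rw [Subgroup.index_bot] at hidx
      exact Or.inl (Cfsg.Agent.S0494.result hidx)
    · subst e
      exact absurd ⟨⟨fun a b => congrArg Subtype.val
        (hcomm.is_comm.comm ⟨a, Subgroup.mem_top a⟩ ⟨b, Subgroup.mem_top b⟩)⟩⟩ hG
  · haveI : Fact (Nat.Prime 7) := ⟨by norm_num⟩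
    exact Or.inr (Or.inr (Or.inr ⟨ZMod 7, inferInstance, inferInstance, ZMod.card 7,
      Cfsg.Agent.S0495.result hc (F := ZMod 7) (ZMod.card 7)⟩))

/-- `|C(w)| = 4` with `w` an involution. -/
theorem four_involution (w : G) (hw : orderOf w = 2)
    (hC : Nat.card (Subgroup.centralizer ({w} : Set G)) = 4) :
    Nonempty (G ≃* ↥(alternatingGroup (Fin 5))) := by
  haveI : Fact (Nat.Prime 2) := ⟨Nat.prime_two⟩
  set C := Subgroup.centralizer ({w} : Set G) with hCdef
  obtain ⟨S, hS⟩ := (IsPGroup.of_card (p := 2) (n := 2)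
    (show Nat.card C = 2 ^ 2 by rw [hC]; norm_num)).exists_le_sylow
  have hwC : w ∈ C := Subgroup.mem_centralizer_singleton_iff.2 rfl
  have h4 : 4 ∣ Nat.card (S : Subgroup G) := hC ▸ Subgroup.card_dvd_of_le hS
  have h2G : 2 ∣ Nat.card G :=
    (hw ▸ orderOf_dvd_natCard w : 2 ∣ Nat.card G)
  have hS4 : Nat.card (S : Subgroup G) = 4 := by
    by_contra hne
    obtain ⟨z, hzS, hz, hzC⟩ :=
      exists_central_involution S (dvd_trans (by norm_num) h4)
    have hbig : 5 ≤ Nat.card (Subgroup.centralizer ({z} : Set G)) := by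
      refine le_trans ?_ (Subgroup.card_le_of_le hzC)
      have := Nat.le_of_dvd Nat.card_pos h4
      omega
    rcases Cfsg.Agent.S3224.result S.isPGroup' (⟨w, hS hwC⟩ : (S : Subgroup G))
        (by rw [Subgroup.orderOf_mk, hw])
        (by rw [card_centralizer_sylow hG S (hS hwC) hS, hC]) with ⟨m, ⟨e⟩⟩ | hq | h
    · obtain ⟨j, hj⟩ := S.isPGroup'.exists_card_eq
      rw [Nat.card_congr e.toEquiv, DihedralGroup.nat_card] at hj h4 hne
      obtain ⟨i, rfl⟩ : ∃ i, j = i + 1 := ⟨j - 1, by
        rcases j with _ | j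
        · simp at hj
        · rfl⟩
      have hm : m = 2 ^ i := by rw [pow_succ] at hj; omega
      subst hm
      have hi : 2 ≤ i := by
        rcases i with _ | _ | i
        · simp at h4
        · simp at hne
        · omega
      obtain ⟨g, hg⟩ := Cfsg.Agent.S0107.result S i hi ⟨e⟩ (pResidual_top hG) z w hz hw
      rw [card_centralizer_eq_of_isConj (isConj_iff.2 ⟨g, hg⟩), ← hCdef, hC] at hbig
      omega
    · have := eight_le_of_semidihedral hG S hq (Or.inl hw)
      rw [← hCdef, hC] at this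
      omega
    · exact hne h
  have hCS : C = (S : Subgroup G) := Subgroup.eq_of_le_of_card_ge hS (by rw [hC, hS4])
  have hK : IsKleinFour C := by
    refine { card_four := hC, exponent_two := ?_ }
    exact (not_isCyclic_iff_exponent_eq_prime Nat.prime_two (by rw [hC]; norm_num)).1
      fun hcyc => not_isCyclic_sylow hG S h2G (hCS ▸ hcyc)
  exact Cfsg.Agent.S3278.result w hw C le_rfl hK (by rw [Subgroup.relIndex_self]; norm_num)
    (by rw [Subgroup.subgroupOf_self]; infer_instance)

/-- `|C(w)| = 4` with `w` of order four. -/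
theorem four_element (w : G) (hw : orderOf w = 4)
    (hC : Subgroup.centralizer ({w} : Set G) ≤ Subgroup.zpowers w) :
    Nonempty (G ≃* ↥(alternatingGroup (Fin 6))) ∨ Nonempty (G ≃* ↥(alternatingGroup (Fin 7))) ∨
      ∃ (F : Type) (_ : Field F) (_ : Fintype F), Fintype.card F = 7 ∧
        Nonempty (G ≃* Matrix.ProjectiveSpecialLinearGroup (Fin 2) F) := by
  haveI : Fact (Nat.Prime 2) := ⟨Nat.prime_two⟩
  haveI := Fintype.ofFinite G
  have hcard : Nat.card (Subgroup.zpowers w) = 4 := by rw [Nat.card_zpowers, hw]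
  obtain ⟨S, hS⟩ := (IsPGroup.of_card (p := 2) (n := 2)
    (show Nat.card (Subgroup.zpowers w) = 2 ^ 2 by rw [hcard]; norm_num)).exists_le_sylow
  have hwS : w ∈ (S : Subgroup G) := hS (Subgroup.mem_zpowers w)
  have h2G : 2 ∣ Nat.card G :=
    dvd_trans (by norm_num) (hw ▸ orderOf_dvd_natCard w : 4 ∣ Nat.card G)
  have hsmall : Nat.card (Subgroup.centralizer ({w} : Set G)) ≤ 4 :=
    hcard ▸ Subgroup.card_le_of_le hC
  set w' : (S : Subgroup G) := ⟨w, hwS⟩ with hw'
  have hw'4 : orderOf w' = 4 := by rw [Subgroup.orderOf_mk, hw]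
  obtain ⟨n, hn⟩ := S.isPGroup'.exists_card_eq
  have hn2 : 2 ≤ n := by
    have h := orderOf_dvd_natCard w'
    rw [hn, hw'4] at h
    exact (Nat.pow_dvd_pow_iff_le_right (by norm_num)).1
      (show 2 ^ 2 ∣ 2 ^ n by norm_num; exact h)
  obtain rfl | hn3 : n = 2 ∨ 3 ≤ n := by omega
  · exfalso
    refine not_isCyclic_sylow hG S h2G (isCyclic_of_orderOf_eq_card w' ?_)
    rw [hw'4, hn]; norm_num
  have hself : Subgroup.centralizer (Subgroup.zpowers w' : Set (S : Subgroup G)) =
      Subgroup.zpowers w' := by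
    refine le_antisymm (fun c hc => ?_) fun c hc => ?_
    · have hcw : (c : G) ∈ Subgroup.centralizer ({w} : Set G) :=
        Subgroup.mem_centralizer_singleton_iff.2
          (congrArg Subtype.val (Subgroup.mem_centralizer_iff.1 hc w' (Subgroup.mem_zpowers w'))).symm
      obtain ⟨i, hi⟩ := Subgroup.mem_zpowers_iff.1 (hC hcw)
      exact Subgroup.mem_zpowers_iff.2 ⟨i, Subtype.ext (by rw [SubgroupClass.coe_zpow]; exact hi)⟩
    · rw [Subgroup.mem_centralizer_iff]
      intro d hd
      obtain ⟨i, rfl⟩ := Subgroup.mem_zpowers_iff.1 hc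
      obtain ⟨j, rfl⟩ := Subgroup.mem_zpowers_iff.1 hd
      exact ((Commute.refl w').zpow_zpow j i).eq
  have hcl := Cfsg.Agent.S0112.result n hn (Subgroup.zpowers w')
    (by rw [Nat.card_zpowers, hw'4]; norm_num) hself
  have hidx := CfsgLib.MaxClassTwo.index_of_nilpotencyClass hn3 hn hcl
  obtain ⟨D⟩ := CfsgLib.MaxClassTwo.exists_data hn3 hn hidx
  have hexp : ∀ x : Abelianization (S : Subgroup G), x ^ 2 = 1 := by
    have hder : Subgroup.zpowers (D.a ^ (2 : ℕ)) ≤ commutator (S : Subgroup G) := by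
      have heq : commutator (S : Subgroup G) = Subgroup.zpowers (D.a ^ (D.k - 1)) :=
        Subgroup.eq_of_le_of_card_ge D.derived
          (by rw [Nat.card_zpowers, D.orderOf_derived hn3, D.cardDerived])
      obtain ⟨c, hc⟩ : (2 : ℤ) ∣ D.k - 1 := by
        obtain ⟨c, hc⟩ := (dvd_pow_self (2 : ℤ) (show n - 2 ≠ 0 by omega)).trans D.inv
        exact ⟨c - 1, by omega⟩
      have h2 : Subgroup.zpowers (D.a ^ (D.k - 1)) = Subgroup.zpowers (D.a ^ (2 : ℕ)) := by
        refine Subgroup.eq_of_le_of_card_ge (Subgroup.zpowers_le.2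
          ⟨c, by rw [hc, zpow_mul, ← zpow_natCast D.a 2]; rfl⟩) ?_
        rw [Nat.card_zpowers, Nat.card_zpowers, D.orderOf_derived hn3,
          orderOf_pow' _ two_ne_zero, D.order,
          Nat.gcd_eq_right (dvd_pow_self 2 (show n - 1 ≠ 0 by omega)),
          show n - 1 = n - 2 + 1 by omega, pow_succ, Nat.mul_div_cancel _ two_pos]
      rw [heq, h2]
    have hd : ∀ g ∈ commutator (S : Subgroup G), Abelianization.of g = 1 := fun g hg => by
      rw [← MonoidHom.mem_ker, Abelianization.ker_of]; exact hg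
    have ha : Abelianization.of D.a ^ 2 = 1 := by
      rw [← map_pow]; exact hd _ (hder (Subgroup.mem_zpowers _))
    have hb : Abelianization.of D.b ^ 2 = 1 := by
      rw [← map_pow]
      refine hd _ ?_
      refine (Subgroup.zpowers_le.2 ?_ : Subgroup.zpowers (D.a ^ 2 ^ (n - 2)) ≤ _) D.sq
      refine hder ?_
      rw [show 2 ^ (n - 2) = 2 * 2 ^ (n - 3) by rw [← pow_succ']; congr 1; omega, pow_mul]
      exact Subgroup.npow_mem_zpowers _ _
    intro x
    obtain ⟨g, rfl⟩ := QuotientGroup.mk_surjective x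
    show Abelianization.of g ^ 2 = 1
    rcases D.mul_mem_cases g with hg | ⟨i, rfl⟩
    · obtain ⟨i, rfl⟩ := Subgroup.mem_zpowers_iff.1 hg
      rw [map_zpow, ← zpow_natCast, ← zpow_mul, mul_comm, zpow_mul, zpow_natCast, ha, one_zpow]
    · rw [map_mul, mul_pow, hb, one_mul, map_zpow, ← zpow_natCast, ← zpow_mul, mul_comm,
        zpow_mul, zpow_natCast, ha, one_zpow]
  have hab : Nat.card (Abelianization (S : Subgroup G)) = 4 := by
    rw [← hidx]; exact (Subgroup.index_eq_card _).symm
  rcases Cfsg.Agent.S4399.result S.isPGroup' hab hexp with h4 | ⟨k, ⟨e⟩⟩ |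
    ⟨k, hk, a, b, ha, hb, hab'⟩ | ⟨k, ⟨e⟩⟩
  · exfalso
    have h8 : 2 ^ 3 ≤ 2 ^ n := Nat.pow_le_pow_right two_pos hn3
    rw [hn] at h4
    norm_num at h8
    omega
  · rcases k with _ | k
    · obtain ⟨τ, hset⟩ := DihedralBlock.setup_of_iso S (σ := w) (h := 2) le_rfl ⟨1, rfl⟩ e hwS
        (by rw [hw])
      have hone : ∀ {x : G}, orderOf x = 2 → IsConj (w ^ 2) x := fun {x} hx => by
        obtain ⟨g, hg⟩ := Cfsg.Agent.S0107.result S 2 le_rfl ⟨e⟩ (pResidual_top hG) (w ^ 2) x
          hset.J_order hx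
        exact isConj_iff.2 ⟨g, hg⟩
      have hu : orderOf (w * τ) = 2 := by
        have hrel : τ * w * τ⁻¹ = w⁻¹ := hset.rel
        refine Small.orderOf_eq_two_iff_sq.2 ⟨fun e' => hset.notMem ?_, ?_⟩
        · rw [eq_inv_of_mul_eq_one_right e']
          exact inv_mem (Subgroup.mem_zpowers w)
        · rw [show w * τ * (w * τ) = w * (τ * w * τ⁻¹) * (τ * τ) by group, hrel,
            Small.mul_self_of_orderOf_two hset.ordτ]
          group
      exact (SigmaGroup.Base.classify (P := S) (σ := w) (τ := τ)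
        ⟨hset, hC, hone hset.ordτ, hone hu⟩ hG)
    · exfalso
      obtain ⟨i, hi⟩ : ∃ i, e w' = DihedralGroup.r i := by
        rcases he : e w' with i | i
        · exact ⟨i, rfl⟩
        · exfalso
          have h1 := congrArg orderOf he
          rw [MulEquiv.orderOf_eq, hw'4, DihedralGroup.orderOf_sr] at h1
          omega
      set r₁ : (S : Subgroup G) := e.symm (DihedralGroup.r 1) with hr₁
      have hcomm : r₁ ∈ Subgroup.centralizer (Subgroup.zpowers w' : Set (S : Subgroup G)) := by
        rw [Subgroup.mem_centralizer_iff]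
        intro d hd
        obtain ⟨j, rfl⟩ := Subgroup.mem_zpowers_iff.1 hd
        refine (Commute.zpow_left ?_ j).eq
        show w' * r₁ = r₁ * w'
        apply e.injective
        rw [map_mul, map_mul, hi, hr₁, MulEquiv.apply_symm_apply, DihedralGroup.r_mul_r,
          DihedralGroup.r_mul_r]
        exact congrArg _ (add_comm _ _)
      rw [hself] at hcomm
      have h := Subgroup.orderOf_dvd_natCard _ hcomm
      rw [Nat.card_zpowers, hw'4, hr₁, MulEquiv.orderOf_eq, DihedralGroup.orderOf_r_one] at h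
      have h8 : 2 ^ 3 ≤ 2 ^ (k + 1 + 2) := Nat.pow_le_pow_right two_pos (by omega)
      have h4 := Nat.le_of_dvd (by norm_num) h
      norm_num at h8
      omega
  · exfalso
    have hq : Cfsg.IsQuasiDihedral (S : Subgroup G) :=
      ⟨k + 3, by omega, hk, a, b, ha, hb, hab'⟩
    have := eight_le_of_semidihedral hG S hq (Or.inr hw)
    omega
  · exact (not_quaternion_sylow hG S h2G k e).elim

/-- The theorem. -/
theorem main (w : G) (hw : Nat.card (Subgroup.centralizer ({w} : Set G)) ≤ 4) : Target G := by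
  haveI : Fact (Nat.Prime 2) := ⟨Nat.prime_two⟩
  set C := Subgroup.centralizer ({w} : Set G) with hC
  have hwC : w ∈ C := Subgroup.mem_centralizer_singleton_iff.2 rfl
  have hdvd : orderOf w ∣ Nat.card C := Subgroup.orderOf_dvd_natCard _ hwC
  have hw1 : w ≠ 1 := by
    rintro rfl
    have htop : C = ⊤ := (Subgroup.eq_top_iff' _).2 fun g => Subgroup.mem_centralizer_singleton_iff.2 (by simp)
    rw [htop, Subgroup.card_top] at hw
    have h2 : 2 ∣ Nat.card G → False := fun h => by
      obtain ⟨c, hc⟩ := CfsgLib.Small.four_dvd_card_of_simple hG h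
      have h4 : Nat.card G = 4 := by have : 0 < Nat.card G := Nat.card_pos; omega
      exact CfsgLib.Small.not_isPGroup_of_simple hG 2
        (IsPGroup.of_card (n := 2) (by rw [h4]; norm_num))
    obtain h | h | h | h : Nat.card G = 1 ∨ Nat.card G = 2 ∨ Nat.card G = 3 ∨ Nat.card G = 4 := by
      have : 0 < Nat.card G := Nat.card_pos; omega
    · exact absurd (Finite.one_lt_card (α := G)) (by omega)
    · exact h2 (by rw [h])
    · haveI : Fact (Nat.Prime 3) := ⟨Nat.prime_three⟩
      exact CfsgLib.Small.not_isPGroup_of_simple hG 3 (IsPGroup.of_card (n := 1) (by rw [h]; norm_num))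
    · exact h2 (by rw [h]; norm_num)
  have ho : orderOf w ≠ 1 := fun e => hw1 (orderOf_eq_one_iff.1 e)
  obtain h | h | h | h : Nat.card C = 1 ∨ Nat.card C = 2 ∨ Nat.card C = 3 ∨ Nat.card C = 4 := by
    have : 0 < Nat.card C := Nat.card_pos; omega
  · rw [h, Nat.dvd_one] at hdvd
    exact absurd hdvd ho
  · exact (not_two hG w hw1 h).elim
  · exact three hG w hw1 h
  · rw [h] at hdvd
    have hd : orderOf w = 2 ∨ orderOf w = 4 := by
      obtain ⟨i, hi, e⟩ := (Nat.dvd_prime_pow Nat.prime_two).1 (show orderOf w ∣ 2 ^ 2 by simpa using hdvd)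
      interval_cases i <;> simp_all
    rcases hd with hd | hd
    · exact Or.inl (four_involution hG w hd h)
    · refine (four_element hG w hd (le_of_eq ?_)).elim (fun h' => Or.inr (Or.inl h'))
        fun h' => Or.inr (Or.inr h')
      exact (Subgroup.eq_of_le_of_card_ge (Subgroup.zpowers_le.2 hwC)
        (by rw [h, Nat.card_zpowers, hd])).symm

end CfsgLib.Inv54.SmallCentralizer
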