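import Mathlib.GroupTheory.SpecificGroups.Quaternion
import Mathlib.GroupTheory.Complement
import Mathlib.LinearAlgebra.Matrix.GeneralLinearGroup.Defs
import Mathlib.FieldTheory.Finite.Basic
import Cfsg.Agent.Small.Dihedral

/-!
# Automorphisms of `Q₈` and recognition of `GL(2, 3)`
-/

set_option autoImplicit false

namespace CfsgLib.Inv54

open QuaternionGroup

/-- The candidate endomorphism of `Q₈` sending `a 1` to `x` and `xa 0` to `y`. -/
def mkFun (x y : QuaternionGroup 2) : QuaternionGroup 2 → QuaternionGroup 2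
  | a i => x ^ i.val
  | xa i => y * x ^ i.val

/-- Normal forms of elements of `Q₈`. -/
theorem q8_normalForm : ∀ p : QuaternionGroup 2,
    p = mkFun (a 1) (xa 0) p := by decide

theorem hom_eq_mkFun {M : Type*} [Monoid M] (f : QuaternionGroup 2 →* M) (p : QuaternionGroup 2) :
    f p = match p with
      | a i => f (a 1) ^ i.val
      | xa i => f (xa 0) * f (a 1) ^ i.val := by
  cases p with
  | a i =>
    show f (a i) = f (a 1) ^ i.val
    rw [← map_pow]
    exact congrArg f (q8_normalForm (a i))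
  | xa i =>
    show f (xa i) = f (xa 0) * f (a 1) ^ i.val
    rw [← map_pow, ← map_mul]
    exact congrArg f (q8_normalForm (xa i))

theorem aut_eq_mkFun (σ : MulAut (QuaternionGroup 2)) (p : QuaternionGroup 2) :
    σ p = mkFun (σ (a 1)) (σ (xa 0)) p := by
  have h := hom_eq_mkFun σ.toMonoidHom p
  cases p <;> exact h

/-- The standard automorphism of order 3. -/
def gamma0 : QuaternionGroup 2 → QuaternionGroup 2 := mkFun (xa 0) (xa 3)

/-- The standard involutory automorphism inverting `gamma0`. -/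
def tau0 : QuaternionGroup 2 → QuaternionGroup 2 := mkFun (a 3) (xa 1)

/-- `(x, y)` is an admissible image of the standard generators. -/
abbrev IsBasis (x y : QuaternionGroup 2) : Prop :=
  x * x ≠ 1 ∧ y * y ≠ 1 ∧ y ≠ x ∧ y * x ≠ 1

set_option maxRecDepth 20000 in
theorem mkFun_isHom : ∀ x y : QuaternionGroup 2, IsBasis x y →
    (∀ p q, mkFun x y (p * q) = mkFun x y p * mkFun x y q) ∧
    (∀ p q, mkFun x y p = mkFun x y q → p = q) := by decide +kernel

/-- `(x, y)` gives an automorphism of order 3 and `(x', y')` an involution inverting it. -/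
def isPair (x y x' y' : QuaternionGroup 2) : Bool :=
  decide (IsBasis x y) && decide (IsBasis x' y') &&
    decide (∀ p, mkFun x y (mkFun x y (mkFun x y p)) = p) &&
    decide (∃ p, mkFun x y p ≠ p) &&
    decide (∀ p, mkFun x' y' (mkFun x' y' p) = p) &&
    decide (∀ p, mkFun x' y' (mkFun x y (mkFun x' y' p)) = mkFun x y (mkFun x y p))

/-- `(u, v)` conjugates the pair to the standard one. -/
def isConjugator (x y x' y' u v : QuaternionGroup 2) : Bool :=
  decide (IsBasis u v) &&
    decide (∀ p, mkFun u v (mkFun x y p) = gamma0 (mkFun u v p)) &&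
    decide (∀ p, mkFun u v (mkFun x' y' p) = tau0 (mkFun u v p))

set_option maxRecDepth 20000 in
theorem isPair_spec : ∀ x y x' y' : QuaternionGroup 2, isPair x y x' y' = true →
    ∃ u v : QuaternionGroup 2, isConjugator x y x' y' u v = true := by decide +kernel

theorem exists_conj_standard (x y : QuaternionGroup 2) (h : IsBasis x y)
    (h3 : ∀ p, mkFun x y (mkFun x y (mkFun x y p)) = p) (hne : ∃ p, mkFun x y p ≠ p)
    (x' y' : QuaternionGroup 2) (h' : IsBasis x' y')
    (h2 : ∀ p, mkFun x' y' (mkFun x' y' p) = p)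
    (hrel : ∀ p, mkFun x' y' (mkFun x y (mkFun x' y' p)) = mkFun x y (mkFun x y p)) :
    ∃ u v : QuaternionGroup 2, IsBasis u v ∧
      (∀ p, mkFun u v (mkFun x y p) = gamma0 (mkFun u v p)) ∧
      (∀ p, mkFun u v (mkFun x' y' p) = tau0 (mkFun u v p)) := by
  obtain ⟨u, v, huv⟩ := isPair_spec x y x' y' (by
    simp only [isPair, Bool.and_eq_true, decide_eq_true_eq]
    exact ⟨⟨⟨⟨⟨h, h'⟩, h3⟩, hne⟩, h2⟩, hrel⟩)
  simp only [isConjugator, Bool.and_eq_true, decide_eq_true_eq] at huv
  exact ⟨u, v, huv.1.1, huv.1.2, huv.2⟩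

theorem isBasis_aut (σ : MulAut (QuaternionGroup 2)) : IsBasis (σ (a 1)) (σ (xa 0)) := by
  have key : (a 1 : QuaternionGroup 2) * a 1 ≠ 1 ∧ (xa 0 : QuaternionGroup 2) * xa 0 ≠ 1 ∧
      (xa 0 : QuaternionGroup 2) ≠ a 1 ∧ (xa 0 : QuaternionGroup 2) * a 1 ≠ 1 := by decide
  refine ⟨?_, ?_, ?_, ?_⟩
  · rw [← map_mul, ne_eq, EmbeddingLike.map_eq_one_iff]; exact key.1
  · rw [← map_mul, ne_eq, EmbeddingLike.map_eq_one_iff]; exact key.2.1
  · exact fun h => key.2.2.1 (σ.injective h)
  · rw [← map_mul, ne_eq, EmbeddingLike.map_eq_one_iff]; exact key.2.2.2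

/-- Pairs (order 3, involution inverting it) in `Aut Q₈` are conjugate to the standard pair. -/
theorem exists_conj_standard_aut (γ τ : MulAut (QuaternionGroup 2)) (hγ : γ * γ * γ = 1)
    (hγ1 : γ ≠ 1) (hτ : τ * τ = 1) (hrel : τ * γ * τ = γ * γ) :
    ∃ σ : MulAut (QuaternionGroup 2), (∀ p, σ (γ p) = gamma0 (σ p)) ∧
      (∀ p, σ (τ p) = tau0 (σ p)) := by
  have hg := aut_eq_mkFun γ
  have ht := aut_eq_mkFun τ
  obtain ⟨u, v, huv, h1, h2⟩ := exists_conj_standard _ _ (isBasis_aut γ)
    (fun p => by rw [← hg, ← hg, ← hg]; exact MulEquiv.congr_fun hγ p)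
    (by
      by_contra! h
      exact hγ1 (MulEquiv.ext fun p => (hg p).trans (h p)))
    _ _ (isBasis_aut τ)
    (fun p => by rw [← ht, ← ht]; exact MulEquiv.congr_fun hτ p)
    (fun p => by rw [← hg, ← hg, ← ht, ← hg, ← ht]; exact MulEquiv.congr_fun hrel p)
  obtain ⟨hmul, hinj⟩ := mkFun_isHom u v huv
  have hbij : Function.Bijective (mkFun u v) :=
    Finite.injective_iff_bijective.mp hinj
  refine ⟨MulEquiv.ofBijective (MonoidHom.mk' (mkFun u v) hmul) hbij, fun p => ?_, fun p => ?_⟩
  · show mkFun u v (γ p) = gamma0 (mkFun u v p)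
    rw [hg p]; exact h1 p
  · show mkFun u v (τ p) = tau0 (mkFun u v p)
    rw [ht p]; exact h2 p

/-- Equivalence of permutation groups of `Q₈` used as a model of `GL(2,3)`. -/
noncomputable def holGens : Set (Equiv.Perm (QuaternionGroup 2)) :=
  {π | (∃ c, ∀ p, π p = c * p) ∨ (∀ p, π p = gamma0 p) ∨ (∀ p, π p = tau0 p)}

/-- A group of order 48 with this local data is isomorphic to a fixed group. -/
theorem nonempty_equiv_model {Q : Type*} [Group Q] [Finite Q] (hcard : Nat.card Q = 48)
    (R : Subgroup Q) [R.Normal] (hC : Subgroup.centralizer (R : Set Q) ≤ R)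
    (e : R ≃* QuaternionGroup 2) {g t : Q} (hg : orderOf g = 3) (ht : orderOf t = 2)
    (htg : t * g * t⁻¹ = g⁻¹) (htR : t ∉ R)
    (hge : ∀ r : R, e (MulAut.conjNormal g r) = gamma0 (e r))
    (hte : ∀ r : R, e (MulAut.conjNormal t r) = tau0 (e r)) :
    Nonempty (Q ≃* Subgroup.closure holGens) := by
  classical
  set K := Subgroup.closure ({t, t * g} : Set Q)
  have hR8 : Nat.card R = 8 := by
    rw [Nat.card_congr e.toEquiv, Nat.card_eq_fintype_card, QuaternionGroup.card]
  have htt : t * t = 1 := CfsgLib.Small.mul_self_of_orderOf_two ht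
  have hti : t⁻¹ = t := CfsgLib.Small.inv_eq_self_of_orderOf_two ht
  have hg1 : g ≠ 1 := fun h => by rw [h, orderOf_one] at hg; omega
  have htgo : orderOf (t * g) = 2 := by
    refine orderOf_eq_prime ?_ ?_
    · have h := htg
      rw [hti] at h
      rw [sq, ← mul_assoc, h, inv_mul_cancel]
    · intro h
      have hgt : g = t := by rw [eq_inv_of_mul_eq_one_right h, hti]
      rw [hgt] at hg
      omega
  have hne : t ≠ t * g := fun h => hg1 (mul_eq_left.mp h.symm)
  have hprod : t * (t * g) = g := by rw [← mul_assoc, htt, one_mul]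
  have hK6 : Nat.card K = 6 := by
    rw [CfsgLib.Small.card_closure_pair_invol ht htgo hne, hprod, hg]
  have hgK : g ∈ K := hprod ▸ CfsgLib.Small.mul_mem_closure_pair t (t * g)
  have htK : t ∈ K := Subgroup.subset_closure (Set.mem_insert t _)
  have hinvR : ∀ r : Q, r ∈ R → r * r = 1 → r ≠ 1 → ∀ q : Q, q * r * q⁻¹ = r := by
    intro r hr h1 h2 q
    have hu : ∀ x y : QuaternionGroup 2, x * x = 1 → x ≠ 1 → y * y = 1 → y ≠ 1 → x = y := by decide
    have h3 : (⟨q * r * q⁻¹, (inferInstance : R.Normal).conj_mem r hr q⟩ : R) = ⟨r, hr⟩ := by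
      apply e.injective
      apply hu
      · rw [← map_mul, EmbeddingLike.map_eq_one_iff]
        exact Subtype.ext (show q * r * q⁻¹ * (q * r * q⁻¹) = 1 by
          rw [show q * r * q⁻¹ * (q * r * q⁻¹) = q * (r * r) * q⁻¹ by group, h1]; group)
      · rw [ne_eq, EmbeddingLike.map_eq_one_iff]
        exact fun h => h2 (conj_eq_one_iff.mp (congrArg Subtype.val h))
      · rw [← map_mul, EmbeddingLike.map_eq_one_iff]; exact Subtype.ext h1
      · rw [ne_eq, EmbeddingLike.map_eq_one_iff]; exact fun h => h2 (congrArg Subtype.val h)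
    exact congrArg Subtype.val h3
  have hdisj : Disjoint R K := by
    rw [Subgroup.disjoint_def]
    intro r hr hk
    by_contra hr1
    have h8 : orderOf r ∣ 8 := hR8 ▸ R.orderOf_dvd_natCard hr
    have h6 : orderOf r ∣ 6 := hK6 ▸ K.orderOf_dvd_natCard hk
    have h2 : orderOf r ∣ 2 := by simpa using Nat.dvd_gcd h8 h6
    have hrr : r * r = 1 := by rw [← sq]; exact orderOf_dvd_iff_pow_eq_one.mp h2
    have hcg : g * r = r * g := mul_inv_eq_iff_eq_mul.mp (hinvR r hr hrr hr1 g)
    obtain ⟨k, hk' | hk'⟩ := CfsgLib.Small.mem_closure_pair_invol ht htgo hk <;> rw [hprod] at hk'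
    · have h3 : orderOf r ∣ 3 := by
        rw [hk', ← hg]; exact orderOf_dvd_of_mem_zpowers (Subgroup.zpow_mem_zpowers g k)
      exact hr1 (orderOf_eq_one_iff.mp (Nat.eq_one_of_dvd_coprimes (by norm_num : Nat.Coprime 2 3) h2 h3))
    · apply hg1
      have htc : t * g = g * t := by
        have h4 : t = r * g ^ (-k) := by rw [hk', mul_assoc, ← zpow_add, add_neg_cancel, zpow_zero, mul_one]
        rw [h4]
        exact (Commute.mul_left (hcg.symm : Commute r g) ((Commute.refl g).zpow_left _)).eq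
      have h5 : g = g⁻¹ := by rw [← htg, htc, mul_inv_cancel_right]
      have h6 : orderOf g ∣ 2 := orderOf_dvd_of_pow_eq_one (by rw [sq]; exact mul_eq_one_iff_eq_inv.mpr h5)
      rw [hg] at h6
      omega
  have hRK : Subgroup.IsComplement' R K :=
    Subgroup.isComplement'_of_card_mul_and_disjoint (by rw [hR8, hK6, hcard]) hdisj
  let E : R × K ≃ Q := Equiv.ofBijective (fun p => p.1.1 * p.2.1) hRK
  let act : Q → QuaternionGroup 2 → QuaternionGroup 2 := fun q p => e (E.symm (q * (e.symm p : Q))).1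
  have hEapp : ∀ (r : R) (k : K), E.symm ((r : Q) * k) = (r, k) := fun r k =>
    E.symm_apply_eq.mpr rfl
  have hact : ∀ q q' p, act (q * q') p = act q (act q' p) := by
    intro q q' p
    simp only [act, MulEquiv.symm_apply_apply]
    set w := E.symm (q' * (e.symm p : Q)) with hw
    have h1 : q' * (e.symm p : Q) = (w.1 : Q) * w.2 := (E.apply_symm_apply _).symm
    set v := E.symm (q * (w.1 : Q)) with hv
    have h2 : q * (w.1 : Q) = (v.1 : Q) * v.2 := (E.apply_symm_apply _).symm
    have h3 : q * q' * (e.symm p : Q) = (v.1 : Q) * ((v.2 * w.2 : K) : Q) := by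
      rw [mul_assoc, h1, ← mul_assoc, h2, mul_assoc]; rfl
    rw [h3, hEapp]
  have hR1 : ∀ (r : R) p, act r p = e r * p := by
    intro r p
    have : (r : Q) * (e.symm p : Q) = ((r * e.symm p : R) : Q) * ((1 : K) : Q) := by simp
    simp only [act]
    rw [this, hEapp]; simp
  have hK1 : ∀ (k : K) p, act k p = e (MulAut.conjNormal (k : Q) (e.symm p)) := by
    intro k p
    have : (k : Q) * (e.symm p : Q) = ((MulAut.conjNormal (k : Q) (e.symm p) : R) : Q) * (k : Q) := by
      rw [MulAut.conjNormal_apply]; group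
    simp only [act]
    rw [this, hEapp]
  let φ : Q →* Equiv.Perm (QuaternionGroup 2) :=
    { toFun := fun q => ⟨act q, act q⁻¹,
        fun p => by rw [← hact, inv_mul_cancel]; simpa using hR1 1 p,
        fun p => by rw [← hact, mul_inv_cancel]; simpa using hR1 1 p⟩
      map_one' := Equiv.ext fun p => by simpa using hR1 1 p
      map_mul' := fun q q' => Equiv.ext fun p => hact q q' p }
  have hφinj : Function.Injective φ := by
    rw [injective_iff_map_eq_one]
    intro q hq
    obtain ⟨⟨r, k⟩, rfl⟩ := hRK.2 q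
    have h0 : ∀ p, act ((r : Q) * (k : Q)) p = p := fun p => congrArg (fun π : Equiv.Perm _ => π p) hq
    have h1 : r = 1 := by
      have := h0 1
      rw [hact, hK1, map_one, map_one, map_one, hR1, mul_one] at this
      exact e.map_eq_one_iff.mp this
    subst h1
    have hkR : (k : Q) ∈ R := hC (Subgroup.mem_centralizer_iff.mpr fun x hx => by
      have h2 := h0 (e ⟨x, hx⟩)
      rw [hact, hK1, hR1, map_one, one_mul, MulEquiv.symm_apply_apply] at h2
      have h3 : (k : Q) * x * (k : Q)⁻¹ = x := congrArg Subtype.val (e.injective h2)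
      exact (mul_inv_eq_iff_eq_mul.mp h3).symm)
    have := Subgroup.disjoint_def.mp hdisj hkR k.2
    simp [this]
  have hrange : φ.range = Subgroup.closure holGens := by
    apply le_antisymm
    · rintro _ ⟨q, rfl⟩
      obtain ⟨⟨r, k⟩, rfl⟩ := hRK.2 q
      show φ ((r : Q) * (k : Q)) ∈ _
      rw [map_mul]
      refine mul_mem (Subgroup.subset_closure (Or.inl ⟨e r, hR1 r⟩)) ?_
      have hφt : φ t ∈ Subgroup.closure holGens := Subgroup.subset_closure (Or.inr (Or.inr fun p => by
        show act t p = _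
        rw [hK1 ⟨t, htK⟩, hte, MulEquiv.apply_symm_apply]))
      have hφg : φ g ∈ Subgroup.closure holGens := Subgroup.subset_closure (Or.inr (Or.inl fun p => by
        show act g p = _
        rw [hK1 ⟨g, hgK⟩, hge, MulEquiv.apply_symm_apply]))
      have hKle : K ≤ (Subgroup.closure holGens).comap φ := by
        rw [Subgroup.closure_le]
        rintro x (rfl | rfl)
        · exact hφt
        · show φ (t * g) ∈ Subgroup.closure holGens
          rw [map_mul]; exact mul_mem hφt hφg
      exact hKle k.2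
    · rw [Subgroup.closure_le]
      rintro π (⟨c, hc⟩ | hπ | hπ)
      · exact ⟨(e.symm c : Q), Equiv.ext fun p => by
          show act _ p = π p
          rw [hR1, MulEquiv.apply_symm_apply, hc]⟩
      · exact ⟨g, Equiv.ext fun p => by
          show act _ p = π p
          rw [hK1 ⟨g, hgK⟩, hge, MulEquiv.apply_symm_apply, hπ]⟩
      · exact ⟨t, Equiv.ext fun p => by
          show act _ p = π p
          rw [hK1 ⟨t, htK⟩, hte, MulEquiv.apply_symm_apply, hπ]⟩
  exact ⟨(MonoidHom.ofInjective hφinj).trans (MulEquiv.subgroupCongr hrange)⟩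

/-- `Q₈` inside `GL(2,3)`. -/
def q8Fun (p : QuaternionGroup 2) : GL (Fin 2) (ZMod 3) :=
  let A : GL (Fin 2) (ZMod 3) := ⟨!![0, 2; 1, 0], !![0, 1; 2, 0], by decide, by decide⟩
  let B : GL (Fin 2) (ZMod 3) := ⟨!![1, 1; 1, 2], !![2, 2; 2, 1], by decide, by decide⟩
  match p with
  | a i => A ^ i.val
  | xa i => B * A ^ i.val

set_option maxRecDepth 20000 in
theorem q8Fun_mul : ∀ p q, q8Fun (p * q) = q8Fun p * q8Fun q := by decide +kernel

set_option maxRecDepth 20000 in
theorem q8Fun_inj : ∀ p q, q8Fun p = q8Fun q → p = q := by decide +kernel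

/-- `Q₈` as a homomorphism into `GL(2,3)`. -/
def q8Hom : QuaternionGroup 2 →* GL (Fin 2) (ZMod 3) := MonoidHom.mk' q8Fun q8Fun_mul

/-- An element of order 3 of `GL(2,3)`. -/
def glThree : GL (Fin 2) (ZMod 3) := ⟨!![1, 1; 0, 1], !![1, 2; 0, 1], by decide, by decide⟩

/-- An involution of `GL(2,3)`. -/
def glTwo : GL (Fin 2) (ZMod 3) := ⟨!![2, 0; 0, 1], !![2, 0; 0, 1], by decide, by decide⟩

set_option maxRecDepth 20000 in
theorem glThree_conj : ∀ p, glThree * q8Fun p * glThree⁻¹ = q8Fun (gamma0 p) := by decide +kernel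

set_option maxRecDepth 20000 in
theorem glTwo_conj : ∀ p, glTwo * q8Fun p * glTwo⁻¹ = q8Fun (tau0 p) := by decide +kernel

set_option maxRecDepth 20000 in
theorem q8_normal : ∀ (m : GL (Fin 2) (ZMod 3)) (p : QuaternionGroup 2),
    ∃ q, m * q8Fun p * m⁻¹ = q8Fun q := by decide +kernel

set_option maxRecDepth 20000 in
theorem q8_selfCentralizing : ∀ m : GL (Fin 2) (ZMod 3), (∀ p, q8Fun p * m = m * q8Fun p) →
    ∃ q, q8Fun q = m := by decide +kernel

set_option maxRecDepth 20000 in
theorem card_GL23 : Fintype.card (GL (Fin 2) (ZMod 3)) = 48 := by decide +kernel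

/-- `GL(2,3)` is isomorphic to the model. -/
theorem nonempty_gl23_equiv_model :
    Nonempty (GL (Fin 2) (ZMod 3) ≃* Subgroup.closure holGens) := by
  let R := q8Hom.range
  have hn : R.Normal := ⟨by
    rintro _ ⟨p, rfl⟩ m
    obtain ⟨q, hq⟩ := q8_normal m p
    exact ⟨q, hq.symm⟩⟩
  let e : R ≃* QuaternionGroup 2 := (MonoidHom.ofInjective (f := q8Hom) q8Fun_inj).symm
  have he : ∀ r : R, ∃ p, e r = p ∧ (r : GL (Fin 2) (ZMod 3)) = q8Fun p := fun r =>
    ⟨e r, rfl, congrArg Subtype.val ((MonoidHom.ofInjective (f := q8Hom) q8Fun_inj).apply_symm_apply r).symm⟩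
  have hconv : ∀ (m : GL (Fin 2) (ZMod 3)) (σ : QuaternionGroup 2 → QuaternionGroup 2),
      (∀ p, m * q8Fun p * m⁻¹ = q8Fun (σ p)) → ∀ r : R, e (MulAut.conjNormal m r) = σ (e r) := by
    intro m σ hσ r
    obtain ⟨p, hp, hp'⟩ := he r
    obtain ⟨q, hq, hq'⟩ := he (MulAut.conjNormal m r)
    rw [hp, hq]
    apply q8Fun_inj
    rw [← hσ, ← hp', ← hq', MulAut.conjNormal_apply]
  refine nonempty_equiv_model (R := R) (g := glThree) (t := glTwo) ?_ ?_ e ?_ ?_ ?_ ?_
    (hconv _ _ glThree_conj) (hconv _ _ glTwo_conj)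
  · rw [Nat.card_eq_fintype_card, card_GL23]
  · intro m hm
    obtain ⟨q, hq⟩ := q8_selfCentralizing m fun p => Subgroup.mem_centralizer_iff.mp hm _ ⟨p, rfl⟩
    exact ⟨q, hq⟩
  · exact orderOf_eq_prime (by decide) (by decide)
  · exact orderOf_eq_prime (by decide) (by decide)
  · decide
  · rintro ⟨p, hp⟩
    have key : ∀ p, q8Fun p ≠ glTwo := by decide +kernel
    exact key p hp

end CfsgLib.Inv54
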