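import Mathlib

/-!
# Integer vectors with the Gram matrix of a dihedral column system
-/

set_option autoImplicit false
set_option linter.unusedSectionVars false

namespace CfsgLib.Inv54.DihedralBlock

variable {I : Type*} [Fintype I] [DecidableEq I]

theorem small_squares (S : Finset I) (w : I → ℤ) (n : ℤ) (hn : n ≤ 3)
    (hne : ∀ x ∈ S, w x ≠ 0) (hsum : ∑ x ∈ S, w x * w x = n) :
    (∀ x ∈ S, w x = 1 ∨ w x = -1) ∧ (S.card : ℤ) = n := by
  have h1 : ∀ x ∈ S, w x = 1 ∨ w x = -1 := by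
    intro x hx
    have hle : w x * w x ≤ n :=
      hsum ▸ Finset.single_le_sum (f := fun y => w y * w y) (fun y _ => mul_self_nonneg _) hx
    have := hne x hx
    rcases lt_or_gt_of_ne this with h | h
    · right
      nlinarith
    · left
      nlinarith
  refine ⟨h1, ?_⟩
  rw [← hsum, Finset.sum_congr rfl (g := fun _ => (1 : ℤ)) fun x hx => by
    rcases h1 x hx with e | e <;> rw [e] <;> norm_num]
  simp

/-- A system of vectors with this Gram matrix is the standard one. -/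
theorem structure_of_gram {h : ℕ} (h2 : 2 ≤ h) (he : Even h) (v : ℕ → I → ℤ) (o : I) (d : I → ℤ)
    (hd : ∀ x, 0 < d x) (hdo : d o = 1) (ho : ∀ i, 1 ≤ i → i ≤ h → v i o = -1)
    (hgram : ∀ i k, 1 ≤ i → i ≤ h → 1 ≤ k → k ≤ h → ∑ x, v i x * v k x =
      2 + (if i = k then 1 else 0) + (if i = h ∧ k = h then 1 else 0))
    (hdeg : ∀ i, 1 ≤ i → i ≤ h → ∑ x, d x * v i x = 0) :
    ∃ (X A B : I) (Y : ℕ → I) (δ a b : ℤ), (δ = 1 ∨ δ = -1) ∧ (a = 1 ∨ a = -1) ∧
      (b = 1 ∨ b = -1) ∧ o ≠ X ∧ o ≠ A ∧ o ≠ B ∧ X ≠ A ∧ X ≠ B ∧ A ≠ B ∧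
      (∀ i, 1 ≤ i → i < h → o ≠ Y i ∧ X ≠ Y i ∧ A ≠ Y i ∧ B ≠ Y i) ∧
      (∀ i k, 1 ≤ i → i < h → 1 ≤ k → k < h → Y i = Y k → i = k) ∧
      (∀ i, 1 ≤ i → i < h → ∀ x, v i x = -(if x = o then 1 else 0) -
        δ * (if x = X then 1 else 0) + δ * (if x = Y i then 1 else 0)) ∧
      ∀ x, v h x = -(if x = o then 1 else 0) - δ * (if x = X then 1 else 0) -
        a * (if x = A then 1 else 0) - b * (if x = B then 1 else 0) := by
  classical
  set S : ℕ → Finset I := fun i => Finset.univ.filter fun x => x ≠ o ∧ v i x ≠ 0 with hS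
  have hmem : ∀ {i x}, x ∈ S i ↔ x ≠ o ∧ v i x ≠ 0 := by simp [hS]
  have hsplit : ∀ (i : ℕ) (f : I → ℤ), 1 ≤ i → i ≤ h →
      ∑ x, f x * v i x = -f o + ∑ x ∈ S i, f x * v i x := by
    intro i f h1 h3
    rw [← Finset.add_sum_erase _ _ (Finset.mem_univ o), ho i h1 h3]
    congr 1
    · ring
    · symm
      refine Finset.sum_subset (fun x hx => Finset.mem_erase.2 ⟨(hmem.1 hx).1, Finset.mem_univ x⟩)
        fun x hx hx' => ?_
      by_cases e : v i x = 0
      · rw [e, mul_zero]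
      · exact absurd (hmem.2 ⟨(Finset.mem_erase.1 hx).1, e⟩) hx'
  have hsq : ∀ i, 1 ≤ i → i ≤ h →
      (∀ x ∈ S i, v i x = 1 ∨ v i x = -1) ∧ ((S i).card : ℤ) = if i = h then 3 else 2 := by
    intro i h1 h3
    refine small_squares (S i) (v i) _ (by split_ifs <;> norm_num) (fun x hx => (hmem.1 hx).2) ?_
    have e := hsplit i (v i) h1 h3
    rw [hgram i i h1 h3 h1 h3, ho i h1 h3, if_pos rfl] at e
    split_ifs at e ⊢ with e1 e2 <;> first | linarith | (exfalso; tauto)
  have hh : 1 ≤ h := by omega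
  -- each vector below the top meets the top once
  have hcy : ∀ i, 1 ≤ i → i < h → ∃ c y, c ≠ y ∧ S i = {c, y} ∧ v h y = 0 ∧
      v h c = v i c ∧ v i y = -v i c := by
    intro i h1 h3
    obtain ⟨hs, hc⟩ := hsq i h1 h3.le
    rw [if_neg h3.ne] at hc
    obtain ⟨a, b, hab, hSi⟩ := Finset.card_eq_two.1 (Nat.cast_inj.1 hc)
    have e := hsplit i (v h) h1 h3.le
    rw [hgram h i hh le_rfl h1 h3.le, ho h hh le_rfl, if_neg h3.ne', if_neg (fun e => h3.ne e.2),
      hSi, Finset.sum_pair hab] at e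
    have d' := hsplit i d h1 h3.le
    rw [hdeg i h1 h3.le, hdo, hSi, Finset.sum_pair hab] at d'
    have haS : a ∈ S i := by rw [hSi]; simp
    have hbS : b ∈ S i := by rw [hSi]; simp
    have ha : a ≠ o ∧ (v i a = 1 ∨ v i a = -1) :=
      ⟨(hmem.1 haS).1, hs a haS⟩
    have hb : b ≠ o ∧ (v i b = 1 ∨ v i b = -1) :=
      ⟨(hmem.1 hbS).1, hs b hbS⟩
    have hopp : v i b = -v i a := by
      have := hd a
      have := hd b
      rcases ha.2 with e1 | e1 <;> rcases hb.2 with e2 | e2 <;> rw [e1, e2] at d' ⊢ <;> omega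
    have hval : ∀ x, x ≠ o → v h x = 0 ∨ v h x = 1 ∨ v h x = -1 := fun x hx => by
      by_cases e0 : v h x = 0
      · exact Or.inl e0
      · exact Or.inr ((hsq h hh le_rfl).1 x (hmem.2 ⟨hx, e0⟩))
    rw [hopp] at e
    rcases hval b hb.1 with e1 | e1
    · refine ⟨a, b, hab, hSi, e1, ?_, hopp⟩
      rcases ha.2 with e2 | e2 <;> rw [e1, e2] at e <;> rw [e2] <;> linarith
    · have hb0 : v h a = 0 := by
        rcases hval a ha.1 with e2 | e2
        · exact e2
        · exfalso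
          rcases ha.2 with e3 | e3 <;> rcases e1 with e1 | e1 <;> rcases e2 with e2 | e2 <;>
            rw [e1, e2, e3] at e <;> omega
      refine ⟨b, a, hab.symm, hSi.trans (Finset.pair_comm a b), hb0, ?_, by rw [hopp, neg_neg]⟩
      rw [hb0] at e
      rcases ha.2 with e2 | e2 <;> rw [e2] at e hopp <;> rw [hopp] <;> linarith
  haveI : Nonempty I := ⟨o⟩
  choose! c y hne hSi hy0 hc0 hop using hcy
  have hval : ∀ i, 1 ≤ i → i < h → (v i (c i) = 1 ∨ v i (c i) = -1) ∧ c i ≠ o ∧ y i ≠ o ∧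
      c i ∈ S h := by
    intro i h1 h3
    have hcS : c i ∈ S i := by rw [hSi i h1 h3]; simp
    have hyS : y i ∈ S i := by rw [hSi i h1 h3]; simp
    refine ⟨(hsq i h1 h3.le).1 _ hcS, (hmem.1 hcS).1, (hmem.1 hyS).1, hmem.2 ⟨(hmem.1 hcS).1, ?_⟩⟩
    rw [hc0 i h1 h3]
    exact (hmem.1 hcS).2
  have hvec : ∀ i, 1 ≤ i → i < h → ∀ x, v i x = -(if x = o then 1 else 0) +
      v i (c i) * (if x = c i then 1 else 0) - v i (c i) * (if x = y i then 1 else 0) := by
    intro i h1 h3 x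
    obtain ⟨-, hco, hyo, -⟩ := hval i h1 h3
    by_cases e1 : x = o
    · rw [e1, ho i h1 h3.le, if_pos rfl, if_neg hco.symm, if_neg hyo.symm]; ring
    · rw [if_neg e1]
      by_cases e2 : x = c i
      · rw [e2, if_pos rfl, if_neg (hne i h1 h3)]; ring
      · by_cases e3 : x = y i
        · rw [e3, if_neg (hne i h1 h3).symm, if_pos rfl, hop i h1 h3]; ring
        · rw [if_neg e2, if_neg e3]
          have : x ∉ S i := by rw [hSi i h1 h3]; simp [e2, e3]
          simp only [hmem, not_and, not_not] at this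
          rw [this e1]; ring
  have hcy' : ∀ i k, 1 ≤ i → i < h → 1 ≤ k → k < h → c i ≠ y k := fun i k a1 a2 b1 b2 e => by
    have := hy0 k b1 b2
    rw [← e, hc0 i a1 a2] at this
    rcases (hval i a1 a2).1 with e' | e' <;> omega
  have hpair : ∀ i k, 1 ≤ i → i < h → 1 ≤ k → k < h → i ≠ k →
      (c i = c k ∧ y i ≠ y k) ∨ (c i ≠ c k ∧ y i = y k ∧ v i (c i) = v k (c k)) := by
    intro i k a1 a2 b1 b2 hik
    obtain ⟨hsi, hcio, hyio, -⟩ := hval i a1 a2
    obtain ⟨hsk, -, -, -⟩ := hval k b1 b2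
    have e := hsplit i (v k) a1 a2.le
    rw [hgram k i b1 b2.le a1 a2.le, ho k b1 b2.le, if_neg hik.symm,
      if_neg (fun e => a2.ne e.2), hSi i a1 a2, Finset.sum_pair (hne i a1 a2), hop i a1 a2,
      hvec k b1 b2 (c i), hvec k b1 b2 (y i), if_neg hcio, if_neg hyio,
      if_neg (hcy' i k a1 a2 b1 b2), if_neg (hcy' k i b1 b2 a1 a2).symm] at e
    by_cases ec : c i = c k
    · refine Or.inl ⟨ec, fun ey => ?_⟩
      rw [if_pos ec, if_pos ey] at e
      have hs : v i (c i) = v k (c k) := by rw [← hc0 i a1 a2, ← hc0 k b1 b2, ec]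
      rw [hs] at e
      rcases hsk with s | s <;> rw [s] at e <;> omega
    · rw [if_neg ec] at e
      split_ifs at e with ey
      · refine Or.inr ⟨ec, ey, ?_⟩
        rcases hsi with s | s <;> rcases hsk with s' | s' <;> rw [s, s'] at e ⊢ <;> omega
      · omega
  have hconst : ∀ i k, 1 ≤ i → i < h → 1 ≤ k → k < h → c i = c k := by
    by_contra! hcon
    obtain ⟨i, k, a1, a2, b1, b2, hne'⟩ := hcon
    have hall : ∀ l, 1 ≤ l → l < h → y l = y i ∧ v l (c l) = v i (c i) := by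
      intro l l1 l2
      by_cases e1 : l = i
      · rw [e1]; exact ⟨rfl, rfl⟩
      · rcases hpair l i l1 l2 a1 a2 e1 with ⟨e2, -⟩ | ⟨-, e2, e3⟩
        · have hik : i ≠ k := fun e => hne' (e ▸ rfl)
          have hlk : l ≠ k := fun e => hne' (e ▸ e2).symm
          rcases hpair l k l1 l2 b1 b2 hlk with ⟨e4, -⟩ | ⟨-, e4, e5⟩
          · exact absurd (e2.symm.trans e4) hne'
          · rcases hpair i k a1 a2 b1 b2 hik with ⟨e6, -⟩ | ⟨-, e6, e7⟩
            · exact absurd e6 hne'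
            · exact ⟨e4.trans e6.symm, e5.trans e7.symm⟩
        · exact ⟨e2, e3⟩
    have hinj : ∀ l l', 1 ≤ l → l < h → 1 ≤ l' → l' < h → c l = c l' → l = l' := by
      intro l l' l1 l2 m1 m2 e
      by_contra hll
      rcases hpair l l' l1 l2 m1 m2 hll with ⟨-, e1⟩ | ⟨e1, -⟩
      · exact e1 ((hall l l1 l2).1.trans (hall l' m1 m2).1.symm)
      · exact e1 e
    have hinjOn : Set.InjOn c (Finset.Ico 1 h : Finset ℕ) := fun l hl l' hl' e => by
      simp only [Finset.coe_Ico, Set.mem_Ico] at hl hl'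
      exact hinj l l' hl.1 hl.2 hl'.1 hl'.2 e
    have hsub : (Finset.Ico 1 h).image c ⊆ S h := by
      intro x hx
      obtain ⟨l, hl, rfl⟩ := Finset.mem_image.1 hx
      rw [Finset.mem_Ico] at hl
      exact (hval l hl.1 hl.2).2.2.2
    have hcard : ((Finset.Ico 1 h).image c).card = h - 1 := by
      rw [Finset.card_image_of_injOn hinjOn, Nat.card_Ico]
    have h3 : (S h).card = 3 := by
      have := (hsq h hh le_rfl).2
      rw [if_pos rfl] at this
      exact_mod_cast this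
    have hle := Finset.card_le_card hsub
    have hik : i ≠ k := fun e => hne' (e ▸ rfl)
    have h4 : h = 4 := by obtain ⟨r, hr⟩ := he; omega
    have hSh : S h = (Finset.Ico 1 h).image c :=
      (Finset.eq_of_subset_of_card_le hsub (by omega)).symm
    have e := hsplit h d hh le_rfl
    rw [hdeg h hh le_rfl, hdo, hSh, Finset.sum_image hinjOn] at e
    have e' : ∀ l ∈ Finset.Ico 1 h, d (c l) * v h (c l) = 1 + d (y i) * v i (c i) := by
      intro l hl
      rw [Finset.mem_Ico] at hl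
      have e1 := hsplit l d hl.1 hl.2.le
      rw [hdeg l hl.1 hl.2.le, hdo, hSi l hl.1 hl.2, Finset.sum_pair (hne l hl.1 hl.2),
        hop l hl.1 hl.2, (hall l hl.1 hl.2).1] at e1
      rw [hc0 l hl.1 hl.2]
      rw [(hall l hl.1 hl.2).2] at e1 ⊢
      linarith
    rw [Finset.sum_congr rfl e', Finset.sum_const, Nat.card_Ico, h4] at e
    norm_num at e
    omega
  have h1h : 1 < h := by omega
  obtain ⟨hX, hXo, -, hXS⟩ := hval 1 le_rfl h1h
  obtain ⟨hsh, hch⟩ := hsq h hh le_rfl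
  rw [if_pos rfl] at hch
  obtain ⟨A, B, hAB, hAB'⟩ := Finset.card_eq_two.1
    (show ((S h).erase (c 1)).card = 2 by rw [Finset.card_erase_of_mem hXS]; omega)
  have hA : A ∈ (S h).erase (c 1) := by rw [hAB']; simp
  have hB : B ∈ (S h).erase (c 1) := by rw [hAB']; simp
  rw [Finset.mem_erase] at hA hB
  refine ⟨c 1, A, B, y, -v 1 (c 1), -v h A, -v h B, ?_, ?_, ?_, hXo.symm, (hmem.1 hA.2).1.symm,
    (hmem.1 hB.2).1.symm, hA.1.symm, hB.1.symm, hAB, ?_, ?_, ?_, ?_⟩
  · rcases hX with e | e <;> simp [e]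
  · rcases hsh A hA.2 with e | e <;> simp [e]
  · rcases hsh B hB.2 with e | e <;> simp [e]
  · intro i a1 a2
    refine ⟨(hval i a1 a2).2.2.1.symm, hcy' 1 i le_rfl h1h a1 a2, fun e => ?_, fun e => ?_⟩
    · exact (hmem.1 hA.2).2 (e ▸ hy0 i a1 a2)
    · exact (hmem.1 hB.2).2 (e ▸ hy0 i a1 a2)
  · intro i k a1 a2 b1 b2 e
    by_contra hik
    rcases hpair i k a1 a2 b1 b2 hik with ⟨-, e1⟩ | ⟨e1, -⟩
    · exact e1 e
    · exact e1 (hconst i k a1 a2 b1 b2)
  · intro i a1 a2 x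
    have hs : v i (c i) = v 1 (c 1) := by
      rw [← hc0 i a1 a2, ← hc0 1 le_rfl h1h, hconst i 1 a1 a2 le_rfl h1h]
    rw [hvec i a1 a2 x, hconst i 1 a1 a2 le_rfl h1h]
    have hs' : v i (c 1) = v 1 (c 1) := by rwa [hconst i 1 a1 a2 le_rfl h1h] at hs
    rw [hs']
    ring
  · intro x
    rw [← hc0 1 le_rfl h1h]
    by_cases e1 : x = o
    · rw [e1, ho h hh le_rfl, if_pos rfl, if_neg hXo.symm, if_neg (hmem.1 hA.2).1.symm,
        if_neg (hmem.1 hB.2).1.symm]
      ring
    · rw [if_neg e1]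
      by_cases e2 : x = c 1
      · rw [e2, if_pos rfl, if_neg hA.1.symm, if_neg hB.1.symm]; ring
      · by_cases e3 : x = A
        · rw [e3, if_neg hA.1, if_pos rfl, if_neg hAB]; ring
        · by_cases e4 : x = B
          · rw [e4, if_neg hB.1, if_neg hAB.symm, if_pos rfl]; ring
          · rw [if_neg e2, if_neg e3, if_neg e4]
            have : x ∉ (S h).erase (c 1) := by rw [hAB']; simp [e3, e4]
            simp only [Finset.mem_erase, hmem, not_and, not_not] at this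
            rw [this e2 e1]; ring

end CfsgLib.Inv54.DihedralBlock
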