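import Cfsg.Agent.Inv54.DihedralSetup
import Cfsg.Agent.Inv54.DihedralVectors
import Cfsg.Agent.BlocksFrobenius.KleinOrder
import Cfsg.Agent.Characters.Linear

/-!
# The principal 2-block of a group with dihedral Sylow 2-subgroups

`coef χ i` is the multiplicity of `λ ^ i - 1` in the restriction of `χ` to `⟨σ⟩`; on the principal
block these columns have the Gram matrix handled in `DihedralVectors`.
-/

set_option autoImplicit false
set_option linter.style.haveILetI false
set_option linter.unusedSectionVars false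

namespace CfsgLib.Inv54.DihedralBlock

open Cfsg CfsgLib.Blocks CfsgLib.PrincipalBlock CfsgLib.Characters
open scoped ComplexConjugate

universe u

variable {G : Type u} [Group G] [Fintype G] {M : Ideal AlgInt} [M.IsPrime]
  {P : Sylow 2 G} {σ τ : G} {h : ℕ}

/-- The power of `σ` with exponent in `ZMod m`. -/
def pw (σ : G) {m : ℕ} (a : ZMod m) : G := σ ^ a.val

/-- The multiplicity of `λ ^ i - 1` in a function restricted to the powers of `σ`. -/
noncomputable def coef (σ : G) {m : ℕ} [NeZero m] (ψ : AddChar (ZMod m) ℂ) (f : G → ℂ)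
    (i : ZMod m) : ℂ :=
  (m : ℂ)⁻¹ * ∑ a : ZMod m, f (pw σ a) * (ψ (-(i * a)) - 1)

namespace Setup

variable (S : Setup P σ τ h)
include S

theorem ne_zero : NeZero (2 * h) := ⟨by have := S.two_le; omega⟩

theorem pw_natCast (a : ℕ) : pw σ (a : ZMod (2 * h)) = σ ^ a := by
  rw [pw, ZMod.val_natCast]
  conv_rhs => rw [← pow_mod_orderOf, S.ordσ]

theorem pw_add (a b : ZMod (2 * h)) : pw σ (a + b) = pw σ a * pw σ b := by
  haveI := S.ne_zero
  rw [pw, pw, pw, ← pow_add, ZMod.val_add]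
  conv_rhs => rw [← pow_mod_orderOf, S.ordσ]

theorem pw_eq_one {a : ZMod (2 * h)} : pw σ a = 1 ↔ a = 0 := by
  haveI := S.ne_zero
  constructor
  · intro e
    have := Nat.eq_zero_of_dvd_of_lt (S.pow_eq_one.1 e) (ZMod.val_lt a)
    exact (ZMod.val_eq_zero a).1 this
  · rintro rfl; rw [pw, ZMod.val_zero, pow_zero]

theorem pw_neg (a : ZMod (2 * h)) : pw σ (-a) = (pw σ a)⁻¹ := by
  refine eq_inv_of_mul_eq_one_left ?_
  rw [← S.pw_add, neg_add_cancel, S.pw_eq_one]

theorem pw_inj {a b : ZMod (2 * h)} : pw σ a = pw σ b ↔ a = b := by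
  refine ⟨fun e => ?_, fun e => e ▸ rfl⟩
  have : pw σ (a + -b) = 1 := by rw [S.pw_add, S.pw_neg, e, mul_inv_cancel]
  exact add_neg_eq_zero.1 (S.pw_eq_one.1 this)

theorem pw_mul_eq_one {a b : ZMod (2 * h)} : pw σ a * pw σ b = 1 ↔ a + b = 0 := by
  rw [← S.pw_add, S.pw_eq_one]

theorem char_pw_neg (χ : IrrCharacter G) (a : ZMod (2 * h)) :
    (χ : G → ℂ) (pw σ (-a)) = (χ : G → ℂ) (pw σ a) := by
  rw [S.pw_neg]
  obtain ⟨c, hc⟩ := isConj_iff.1 (S.isConj_inv a.val)
  rw [show (pw σ a)⁻¹ = c * pw σ a * c⁻¹ from hc.symm]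
  exact isClassFunction_of_isIrr χ.2 _ c

open Classical in
/-- Orthogonality of the columns at the powers of `σ`. -/
theorem orth (hM : Cfsg.IsPModular 2 M) {a b : ℕ} (ha : σ ^ a ≠ 1) (hb : σ ^ b ≠ 1) :
    ∑ χ : IrrCharacter G, (if χ ∈ Cfsg.principalBlock M G then
        (χ : G → ℂ) (σ ^ a) * conj ((χ : G → ℂ) (σ ^ b)) else 0) =
      (2 * h : ℂ) * ((if σ ^ a = σ ^ b then 1 else 0) + if σ ^ a * σ ^ b = 1 then 1 else 0) := by
  haveI : Fact (Nat.Prime 2) := ⟨Nat.prime_two⟩
  obtain ⟨hLC, hLn, hLo, hLi⟩ := S.core_centralizer hb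
  set L := S.core ⊓ Subgroup.centralizer ({σ ^ b} : Set G) with hLdef
  haveI := Fintype.ofFinite L
  have hy : ∃ k, orderOf (σ ^ b) = 2 ^ k := by
    obtain ⟨k, hk⟩ := S.pow2
    have hd : orderOf (σ ^ b) ∣ 2 ^ (k + 1) := by
      rw [pow_succ', ← hk, ← S.ordσ]; exact orderOf_pow_dvd b
    obtain ⟨i, -, hi⟩ := (Nat.dvd_prime_pow Nat.prime_two).1 hd
    exact ⟨i, hi⟩
  have key := fun χ : IrrCharacter G => BlocksFrobenius.Klein.sum_translate_conj hM hy L hLC hLn
    hLo.not_two_dvd_nat hLi χ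
  apply mul_left_cancel₀ (show (Nat.card L : ℂ) ≠ 0 from Nat.cast_ne_zero.2 Nat.card_pos.ne')
  rw [Finset.mul_sum, Finset.sum_congr rfl (g := fun χ : IrrCharacter G =>
    ∑ l : L, (χ : G → ℂ) (σ ^ a) * conj ((χ : G → ℂ) (σ ^ b * (l : G)))) fun χ _ => by
      rw [← Finset.mul_sum, key χ]; split_ifs <;> ring]
  rw [Finset.sum_comm, Finset.sum_eq_single (⟨1, L.one_mem⟩ : L)]
  · simp only [mul_one]
    by_cases hconj : IsConj (σ ^ a) (σ ^ b)
    · rw [sum_irr_mul_conj_of_isConj hconj]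
      have hcases := S.conj_cases ha hconj
      have hcen : Subgroup.centralizer ({σ ^ a} : Set G) = Subgroup.centralizer ({σ ^ b} : Set G) := by
        rcases hcases with e | e
        · rw [e]
        · ext c
          rw [Subgroup.mem_centralizer_singleton_iff, Subgroup.mem_centralizer_singleton_iff,
            eq_inv_of_mul_eq_one_left e]
          exact ⟨fun hc => by simpa using (show Commute c (σ ^ b)⁻¹ from hc).inv_right.eq,
            fun hc => (show Commute c (σ ^ b) from hc).inv_right.eq⟩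
      rw [hcen, S.card_centralizer hb, S.card_P_centralizer hb, ← hLdef, Nat.cast_mul]
      congr 1
      rcases hcases with e | e
      · rw [e, if_pos rfl]
        split_ifs <;> push_cast <;> ring
      · rw [if_pos e]
        by_cases e' : σ ^ a = σ ^ b
        · rw [if_pos e', if_pos (e' ▸ e)]; push_cast; ring
        · have h2 : ¬ σ ^ b * σ ^ b = 1 := fun e2 => e' (mul_right_cancel (e.trans e2.symm))
          rw [if_neg e', if_neg h2]; push_cast; ring
    · rw [sum_irr_mul_conj_of_not_isConj hconj, if_neg, if_neg]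
      · simp
      · exact fun e => hconj (by rw [eq_inv_of_mul_eq_one_right e]; exact S.isConj_inv a)
      · exact fun e => hconj (e ▸ IsConj.refl _)
  · rintro ⟨l, hl⟩ - hne
    refine sum_irr_mul_conj_of_not_isConj fun hc => hne (Subtype.ext ?_)
    obtain ⟨g, hg⟩ := isConj_iff.1 hc
    have h1 : (σ ^ b * l) ^ (2 * h) = 1 := by
      show (σ ^ b * l) ^ (2 * h) = 1
      rw [← hg, conj_pow, ← pow_mul, S.pow_eq_one.2 (dvd_mul_left _ _), mul_one, mul_inv_cancel]
    have hcomm : Commute (σ ^ b) l :=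
      (show Commute l (σ ^ b) from Subgroup.mem_centralizer_singleton_iff.1 (hLC hl)).symm
    rw [hcomm.mul_pow, ← pow_mul, S.pow_eq_one.2 (dvd_mul_left _ _), one_mul] at h1
    obtain ⟨k, hk⟩ := S.pow2
    refine orderOf_eq_one_iff.1 (Nat.eq_one_of_dvd_coprimes
      ((Nat.coprime_two_right.2 hLo).pow_right (k + 1)) (L.orderOf_dvd_natCard hl) ?_)
    rw [pow_succ', ← hk]
    exact orderOf_dvd_of_pow_eq_one h1
  · simp

open Classical in
/-- Orthogonality to a column of a 2-regular element. -/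
theorem orth_regular (hM : Cfsg.IsPModular 2 M) {ρ : G} (hρ : Odd (orderOf ρ)) {a : ℕ}
    (ha : σ ^ a ≠ 1) :
    ∑ χ : IrrCharacter G, (if χ ∈ Cfsg.principalBlock M G then
        (χ : G → ℂ) ρ * conj ((χ : G → ℂ) (σ ^ a)) else 0) = 0 := by
  haveI : Fact (Nat.Prime 2) := ⟨Nat.prime_two⟩
  refine sum_union_mul_conj_eq_zero hM (isBlockUnion_of_isPBlock isPBlock_principalBlock)
    hρ.not_two_dvd_nat ?_
  obtain ⟨j, hj⟩ := S.exists_pow_J ha
  rw [show (2 : ℕ) = orderOf ((σ ^ a) ^ j) by rw [hj, S.J_order]]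
  exact orderOf_pow_dvd j

theorem apply_J_ne_zero (hM : Cfsg.IsPModular 2 M) {χ : IrrCharacter G}
    (hχ : χ ∈ Cfsg.principalBlock M G) : (χ : G → ℂ) (σ ^ h) ≠ 0 := by
  haveI : Fact (Nat.Prime 2) := ⟨Nat.prime_two⟩
  intro e
  have h1 := hχ (σ ^ h)
  simp only [Cfsg.centralChar, e, mul_zero, zero_div, sub_zero, mul_one, div_one] at h1
  rw [memLocalIdeal_natCast_iff hM] at h1
  exact P.not_dvd_index (h1.trans (Subgroup.index_dvd_of_le S.P_le_C))

variable [NeZero (2 * h)] {ψ : AddChar (ZMod (2 * h)) ℂ}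

omit S in
theorem conj_psi (ψ : AddChar (ZMod (2 * h)) ℂ) (x : ZMod (2 * h)) : conj (ψ x) = ψ (-x) :=
  (AddChar.map_neg_eq_conj ψ x).symm

omit S in
theorem sum_psi (hψ : ψ.IsPrimitive) (b : ZMod (2 * h)) :
    ∑ a : ZMod (2 * h), ψ (b * a) = if b = 0 then ((2 * h : ℕ) : ℂ) else 0 := by
  have e := AddChar.sum_mulShift b hψ
  rw [ZMod.card, Nat.cast_ite, Nat.cast_zero] at e
  rw [← e]
  exact Finset.sum_congr rfl fun a _ => by rw [mul_comm b a]

theorem coef_zero (f : G → ℂ) : coef σ ψ f (0 : ZMod (2 * h)) = 0 := by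
  simp [coef]

theorem coef_neg (χ : IrrCharacter G) (i : ZMod (2 * h)) :
    coef σ ψ (χ : G → ℂ) (-i) = coef σ ψ (χ : G → ℂ) i := by
  rw [coef, coef]
  congr 1
  refine Fintype.sum_equiv (Equiv.neg _) _ _ fun a => ?_
  simp only [Equiv.neg_apply, S.char_pw_neg, neg_mul, mul_neg]

theorem coef_trivChar (hψ : ψ.IsPrimitive) {i : ZMod (2 * h)} (hi : i ≠ 0) :
    coef σ ψ ((trivChar G : IrrCharacter G) : G → ℂ) i = -1 := by
  have hm : ((2 * h : ℕ) : ℂ) ≠ 0 := Nat.cast_ne_zero.2 (NeZero.ne _)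
  rw [coef]
  simp only [trivChar_apply, one_mul, Finset.sum_sub_distrib, Finset.sum_const, Finset.card_univ,
    ZMod.card, nsmul_eq_mul, mul_one, neg_mul_eq_neg_mul, sum_psi hψ, neg_eq_zero, if_neg hi]
  field_simp
  simp

theorem coef_int (χ : IrrCharacter G) {ζ : ℂ} (hζ : ζ ^ (2 * h) = 1) (i : ZMod (2 * h)) :
    ∃ k : ℤ, coef σ (AddChar.zmodChar (2 * h) hζ) (χ : G → ℂ) i = k := by
  set ψ := AddChar.zmodChar (2 * h) hζ with hψ
  haveI := Fintype.ofFinite (Subgroup.zpowers σ)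
  let g : Subgroup.zpowers σ := ⟨σ, Subgroup.mem_zpowers σ⟩
  have hgen : ∀ x : Subgroup.zpowers σ, x ∈ Subgroup.zpowers g := by
    rintro ⟨x, hx⟩
    obtain ⟨k, rfl⟩ := Subgroup.mem_zpowers_iff.1 hx
    exact Subgroup.mem_zpowers_iff.2 ⟨k, Subtype.ext (by simp [g])⟩
  have hz0 : ζ ≠ 0 := fun e => by rw [e, zero_pow (NeZero.ne _)] at hζ; exact zero_ne_one hζ
  let w : ℂˣ := (Units.mk0 ζ hz0) ^ i.val
  let f : Subgroup.zpowers σ →* ℂˣ := monoidHomOfForallMemZpowers hgen (g' := w) (by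
    rw [show orderOf g = 2 * h from (Subgroup.orderOf_coe g).symm.trans S.ordσ]
    refine orderOf_dvd_of_pow_eq_one (Units.ext ?_)
    simp only [w, Units.val_pow_eq_pow_val, Units.val_mk0, Units.val_one]
    rw [← pow_mul, mul_comm, pow_mul, hζ, one_pow])
  let e : ZMod (2 * h) → Subgroup.zpowers σ := fun a => g ^ a.val
  have hinj : Function.Injective e := fun a b hab =>
    S.pw_inj.1 (by simpa [e, g, pw] using congrArg Subtype.val hab)
  have hbij : Function.Bijective e := (Fintype.bijective_iff_injective_and_card e).2 ⟨hinj, by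
    rw [← Nat.card_eq_fintype_card, ← Nat.card_eq_fintype_card, Nat.card_zmod, Nat.card_zpowers,
      S.ordσ]⟩
  have hfe : ∀ a, (f (e a) : ℂ) = ψ (i * a) := by
    intro a
    have hz : f g = w := monoidHomOfForallMemZpowers_apply_gen _ _
    simp only [e, map_pow, hz, w, Units.val_pow_eq_pow_val, Units.val_mk0, hψ,
      AddChar.zmodChar_apply, ZMod.val_mul, ← pow_mul]
    exact pow_eq_pow_mod _ hζ
  obtain ⟨x, hx⟩ := classInner_characters
    (isCharacter_restrict (Subgroup.zpowers σ) (isCharacter_of_isIrr χ.2))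
    (isCharacter_of_isIrr (isIrr_linChar f))
  obtain ⟨y, hy⟩ := classInner_characters
    (isCharacter_restrict (Subgroup.zpowers σ) (isCharacter_of_isIrr χ.2))
    (Characters.isCharacter_one (G := Subgroup.zpowers σ))
  refine ⟨(x : ℤ) - y, ?_⟩
  push_cast
  rw [← hx, ← hy, Cfsg.classInner, Cfsg.classInner, ← mul_sub, ← Finset.sum_sub_distrib, coef,
    Nat.card_zpowers, S.ordσ]
  congr 1
  refine Fintype.sum_bijective e hbij _ _ fun a => ?_
  rw [hfe, map_one, conj_psi, ← mul_sub]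
  simp [e, g, pw]

open Classical in
/-- The Gram matrix of the columns. -/
theorem gram (hM : Cfsg.IsPModular 2 M) (hψ : ψ.IsPrimitive) (i k : ZMod (2 * h)) :
    ∑ χ : IrrCharacter G, (if χ ∈ Cfsg.principalBlock M G then
        coef σ ψ (χ : G → ℂ) i * conj (coef σ ψ (χ : G → ℂ) k) else 0) =
      (if i = k then 1 else 0) + (if i + k = 0 then 1 else 0) + 2 -
        2 * (if i = 0 then 1 else 0) - 2 * (if k = 0 then 1 else 0) := by
  have hm : ((2 * h : ℕ) : ℂ) ≠ 0 := Nat.cast_ne_zero.2 (NeZero.ne _)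
  set m : ℂ := ((2 * h : ℕ) : ℂ) with hmdef
  set g : ZMod (2 * h) → ZMod (2 * h) → ℂ := fun i a => ψ (-(i * a)) - 1 with hg
  have g0 : ∀ i, g i 0 = 0 := fun i => by simp [hg]
  have hS : ∀ a b : ZMod (2 * h), g i a * conj (g k b) *
      (∑ χ : IrrCharacter G, if χ ∈ Cfsg.principalBlock M G then
        (χ : G → ℂ) (pw σ a) * conj ((χ : G → ℂ) (pw σ b)) else 0) =
      g i a * conj (g k b) * (m * ((if a = b then 1 else 0) + if a + b = 0 then 1 else 0)) := by
    intro a b
    by_cases ha : a = 0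
    · rw [ha, g0]; simp
    by_cases hb : b = 0
    · rw [hb, g0]; simp
    have e := S.orth hM (a := a.val) (b := b.val) (fun e => ha (S.pw_eq_one.1 e))
      (fun e => hb (S.pw_eq_one.1 e))
    simp only [pw] at *
    rw [e, hmdef]
    congr 2
    · push_cast; ring
    · congr 1
      · exact if_congr S.pw_inj rfl rfl
      · exact if_congr S.pw_mul_eq_one rfl rfl
  have hone : ∀ (c : ZMod (2 * h)), (∑ a, g i a * conj (g c a)) =
      m * ((if c = i then 1 else 0) - (if i = 0 then 1 else 0) - (if c = 0 then 1 else 0) + 1) := by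
    intro c
    have e : ∀ a, g i a * conj (g c a) =
        ψ ((c - i) * a) - ψ (-i * a) - ψ (c * a) + 1 := fun a => by
      simp only [hg, map_sub, map_one, conj_psi, neg_neg]
      rw [show (c - i) * a = -(i * a) + c * a by ring, AddChar.map_add_eq_mul, neg_mul]
      ring
    simp only [e, Finset.sum_add_distrib, Finset.sum_sub_distrib, sum_psi hψ, Finset.sum_const,
      Finset.card_univ, ZMod.card, nsmul_eq_mul, mul_one, sub_eq_zero, neg_eq_zero, ← hmdef]
    split_ifs <;> ring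
  calc _ = ∑ χ : IrrCharacter G, ∑ a, ∑ b, m⁻¹ * m⁻¹ * (g i a * conj (g k b) *
        (if χ ∈ Cfsg.principalBlock M G then
          (χ : G → ℂ) (pw σ a) * conj ((χ : G → ℂ) (pw σ b)) else 0)) := by
        refine Finset.sum_congr rfl fun χ _ => ?_
        split_ifs
        · rw [coef, coef, map_mul, map_sum, map_inv₀, Complex.conj_natCast, ← hmdef,
            mul_mul_mul_comm, Finset.sum_mul_sum, Finset.mul_sum]
          refine Finset.sum_congr rfl fun a _ => ?_
          rw [Finset.mul_sum]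
          refine Finset.sum_congr rfl fun b _ => ?_
          simp only [hg, map_mul]
          ring
        · simp
    _ = ∑ a, ∑ b, m⁻¹ * m⁻¹ * (g i a * conj (g k b) *
          (m * ((if a = b then 1 else 0) + if a + b = 0 then 1 else 0))) := by
        rw [Finset.sum_comm]
        refine Finset.sum_congr rfl fun a _ => ?_
        rw [Finset.sum_comm]
        refine Finset.sum_congr rfl fun b _ => ?_
        rw [← hS a b, Finset.mul_sum, Finset.mul_sum]
    _ = m⁻¹ * ((∑ a, g i a * conj (g k a)) + ∑ a, g i a * conj (g (-k) a)) := by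
        rw [← Finset.sum_add_distrib, Finset.mul_sum]
        refine Finset.sum_congr rfl fun a _ => ?_
        have e : g (-k) a = g k (-a) := by simp [hg]
        rw [e]
        simp only [add_eq_zero_iff_eq_neg', mul_add, mul_ite, mul_one, mul_zero,
          Finset.sum_add_distrib, Finset.sum_ite_eq, Finset.sum_ite_eq', Finset.mem_univ, if_true]
        field_simp
    _ = _ := by
        rw [hone, hone, ← mul_add, ← mul_assoc, inv_mul_cancel₀ hm, one_mul]
        simp only [neg_eq_zero, eq_comm (a := k) (b := i), neg_eq_iff_add_eq_zero,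
          add_comm k i]
        ring

open Classical in
theorem coef_regular (hM : Cfsg.IsPModular 2 M) {ρ : G} (hρ : Odd (orderOf ρ))
    (i : ZMod (2 * h)) :
    ∑ χ : IrrCharacter G, (if χ ∈ Cfsg.principalBlock M G then
        (χ : G → ℂ) ρ * conj (coef σ ψ (χ : G → ℂ) i) else 0) = 0 := by
  calc _ = ∑ χ : IrrCharacter G, ∑ a : ZMod (2 * h), conj (((2 * h : ℕ) : ℂ)⁻¹ *
        (ψ (-(i * a)) - 1)) * (if χ ∈ Cfsg.principalBlock M G then
          (χ : G → ℂ) ρ * conj ((χ : G → ℂ) (pw σ a)) else 0) := by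
        refine Finset.sum_congr rfl fun χ _ => ?_
        split_ifs
        · rw [coef, Finset.mul_sum, map_sum, Finset.mul_sum]
          exact Finset.sum_congr rfl fun a _ => by simp only [map_mul]; ring
        · simp
    _ = 0 := by
        rw [Finset.sum_comm]
        refine Finset.sum_eq_zero fun a _ => ?_
        rw [← Finset.mul_sum]
        by_cases ha : a = 0
        · simp [ha]
        · rw [pw, S.orth_regular hM hρ fun e => ha (S.pw_eq_one.1 e), mul_zero]

theorem invert (hψ : ψ.IsPrimitive) (f : G → ℂ) {a : ZMod (2 * h)} (ha : a ≠ 0) :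
    ∑ i : ZMod (2 * h), coef σ ψ f i * ψ (i * a) = f (pw σ a) := by
  have hm : ((2 * h : ℕ) : ℂ) ≠ 0 := Nat.cast_ne_zero.2 (NeZero.ne _)
  calc _ = ((2 * h : ℕ) : ℂ)⁻¹ * ∑ b, f (pw σ b) *
        ((∑ i : ZMod (2 * h), ψ ((a - b) * i)) - ∑ i : ZMod (2 * h), ψ (a * i)) := by
        simp only [coef, Finset.mul_sum, Finset.sum_mul, ← Finset.sum_sub_distrib]
        rw [Finset.sum_comm]
        refine Finset.sum_congr rfl fun b _ => Finset.sum_congr rfl fun i _ => ?_
        rw [show (a - b) * i = -(i * b) + a * i by ring, AddChar.map_add_eq_mul, mul_comm i a]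
        ring
    _ = _ := by
        simp only [sum_psi hψ, if_neg ha, sub_zero, sub_eq_zero, mul_ite, mul_zero,
          Finset.sum_ite_eq, Finset.mem_univ, if_true]
        field_simp

theorem coef_ext (χ : IrrCharacter G) (w : ZMod (2 * h) → ℂ) (h0 : w 0 = 0)
    (hs : ∀ i, w (-i) = w i)
    (hw : ∀ j : ℕ, 1 ≤ j → j ≤ h → coef σ ψ (χ : G → ℂ) (j : ZMod (2 * h)) = w j)
    (i : ZMod (2 * h)) : coef σ ψ (χ : G → ℂ) i = w i := by
  by_cases hi : i = 0
  · rw [hi, h0, S.coef_zero]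
  have hv : i.val ≠ 0 := fun e => hi ((ZMod.val_eq_zero i).1 e)
  by_cases hle : i.val ≤ h
  · have := hw i.val (Nat.pos_of_ne_zero hv) hle
    rwa [ZMod.natCast_zmod_val] at this
  · have hlt := ZMod.val_lt i
    have := hw (2 * h - i.val) (by omega) (by omega)
    rwa [Nat.cast_sub hlt.le, ZMod.natCast_self, ZMod.natCast_zmod_val, zero_sub, hs,
      S.coef_neg] at this

/-- **The principal 2-block.** -/
theorem principal_block (hM : Cfsg.IsPModular 2 M) {ζ : ℂ} (hζ : IsPrimitiveRoot ζ (2 * h)) :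
    ∃ (X A B : IrrCharacter G) (Y : ℕ → IrrCharacter G) (δ a b : ℤ),
      (δ = 1 ∨ δ = -1) ∧ (a = 1 ∨ a = -1) ∧ (b = 1 ∨ b = -1) ∧
      trivChar G ≠ X ∧ trivChar G ≠ A ∧ trivChar G ≠ B ∧ X ≠ A ∧ X ≠ B ∧ A ≠ B ∧
      (∀ i, 1 ≤ i → i < h → trivChar G ≠ Y i ∧ X ≠ Y i ∧ A ≠ Y i ∧ B ≠ Y i) ∧
      (∀ i k, 1 ≤ i → i < h → 1 ≤ k → k < h → Y i = Y k → i = k) ∧
      (∀ χ, χ ∈ Cfsg.principalBlock M G ↔ χ = trivChar G ∨ χ = X ∨ χ = A ∨ χ = B ∨
        ∃ i, 1 ≤ i ∧ i < h ∧ χ = Y i) ∧
      (∀ l : ℕ, σ ^ l ≠ 1 → (X : G → ℂ) (σ ^ l) = δ ∧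
        (A : G → ℂ) (σ ^ l) = a * (-1) ^ (l + 1) ∧ (B : G → ℂ) (σ ^ l) = b * (-1) ^ (l + 1) ∧
        ∀ i, 1 ≤ i → i < h → (Y i : G → ℂ) (σ ^ l) = δ * (ζ ^ (i * l) + (ζ ^ (i * l))⁻¹)) ∧
      ∀ ρ : G, Odd (orderOf ρ) → ∀ i, 1 ≤ i → i < h →
        1 + δ * (X : G → ℂ) ρ = -a * (A : G → ℂ) ρ - b * (B : G → ℂ) ρ ∧
        1 + δ * (X : G → ℂ) ρ = δ * (Y i : G → ℂ) ρ := by
  classical
  have h2 := S.two_le
  set ψ : AddChar (ZMod (2 * h)) ℂ := AddChar.zmodChar (2 * h) hζ.pow_eq_one with hψdef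
  have hψ : ψ.IsPrimitive := AddChar.zmodChar_primitive_of_primitive_root _ hζ
  have hcast : ∀ {i k : ℕ}, i < 2 * h → k < 2 * h →
      ((i : ZMod (2 * h)) = (k : ZMod (2 * h)) ↔ i = k) := fun {i k} hi hk =>
    ⟨fun e => by
      have := congrArg ZMod.val e
      rwa [ZMod.val_natCast_of_lt hi, ZMod.val_natCast_of_lt hk] at this, fun e => e ▸ rfl⟩
  have hne0 : ∀ {i : ℕ}, 1 ≤ i → i ≤ h → (i : ZMod (2 * h)) ≠ 0 := fun {i} a1 a2 e => by
    rw [← Nat.cast_zero, hcast (by omega) (by omega)] at e; omega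
  have hsum0 : ∀ {i k : ℕ}, 1 ≤ i → i ≤ h → 1 ≤ k → k ≤ h →
      ((i : ZMod (2 * h)) + k = 0 ↔ i = h ∧ k = h) := fun {i k} a1 a2 b1 b2 => by
    rw [← Nat.cast_add, ZMod.natCast_eq_zero_iff]
    constructor
    · rintro ⟨c, hc⟩
      rcases c with - | - | c
      · omega
      · omega
      · exfalso; nlinarith
    · rintro ⟨rfl, rfl⟩; exact ⟨1, by omega⟩
  let I := {χ : IrrCharacter G // χ ∈ Cfsg.principalBlock M G}
  have hsumI : ∀ f : IrrCharacter G → ℂ,
      ∑ χ, (if χ ∈ Cfsg.principalBlock M G then f χ else 0) = ∑ x : I, f x := fun f => by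
    rw [← Finset.sum_filter]
    exact Finset.sum_subtype _ (by simp) f
  choose v hv using fun (i : ℕ) (x : I) => S.coef_int x.1 hζ.pow_eq_one (i : ZMod (2 * h))
  have hv' : ∀ (i : ℕ) (x : I), coef σ ψ (x.1 : G → ℂ) (i : ZMod (2 * h)) = (v i x : ℂ) :=
    fun i x => hv i x
  let d : I → ℤ := fun x => (Cfsg.charDegree (x.1 : G → ℂ) : ℤ)
  have hd : ∀ x : I, ((d x : ℤ) : ℂ) = (x.1 : G → ℂ) 1 := fun x => by
    simp only [d, Int.cast_natCast, charDegree_cast]
  have hreg : ∀ ρ : G, Odd (orderOf ρ) → ∀ i, ∑ x : I, (x.1 : G → ℂ) ρ * (v i x : ℂ) = 0 :=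
    fun ρ hρ i => by
      have e := S.coef_regular (ψ := ψ) hM hρ (i : ZMod (2 * h))
      rw [hsumI] at e
      rw [← e]
      exact Finset.sum_congr rfl fun x _ => by rw [hv', map_intCast]
  let o : I := ⟨trivChar G, trivChar_mem⟩
  obtain ⟨X, A, B, Y, δ, a, b, hδ, ha, hb, n1, n2, n3, n4, n5, n6, hY, hYinj, hlow, htop⟩ :=
    structure_of_gram h2 (by obtain ⟨k, hk⟩ := S.pow2; rcases k with - | k
                             · omega
                             · exact ⟨2 ^ k, by rw [hk, pow_succ]; ring⟩) v o d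
      (fun x => by
        have := charDegree_ne_zero x.1
        simp only [d]; omega)
      (by
        have : ((d o : ℤ) : ℂ) = ((1 : ℤ) : ℂ) := by rw [hd]; simp [o]
        exact_mod_cast this)
      (fun i a1 a2 => by
        have e := hv' i o
        rw [S.coef_trivChar hψ (hne0 a1 a2)] at e
        exact_mod_cast e.symm)
      (fun i k a1 a2 b1 b2 => by
        have e := S.gram hM hψ (i : ZMod (2 * h)) (k : ZMod (2 * h))
        rw [hsumI] at e
        simp only [hv', map_intCast, if_neg (hne0 a1 a2), if_neg (hne0 b1 b2),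
          hcast (show i < 2 * h by omega) (show k < 2 * h by omega), hsum0 a1 a2 b1 b2] at e
        apply Int.cast_injective (α := ℂ)
        push_cast
        rw [e]
        ring)
      (fun i _ _ => by
        apply Int.cast_injective (α := ℂ)
        push_cast
        simp only [hd]
        exact hreg 1 (by rw [orderOf_one]; exact odd_one) i)
  -- the columns of each character
  have hcX : ∀ i, coef σ ψ (X.1 : G → ℂ) i =
      -(δ : ℂ) * (if i = (0 : ZMod (2 * h)) then 0 else 1) :=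
    S.coef_ext X.1 _ (by simp) (fun i => by simp) fun j j1 j2 => by
      rw [hv', if_neg (hne0 j1 j2)]
      rcases eq_or_lt_of_le j2 with rfl | j3
      · rw [htop X, if_neg n1.symm, if_pos rfl, if_neg n4, if_neg n5]; push_cast; ring
      · rw [hlow j j1 j3 X, if_neg n1.symm, if_pos rfl, if_neg (hY j j1 j3).2.1]; push_cast; ring
  have hneg : ∀ i : ZMod (2 * h), (-i = (h : ZMod (2 * h))) ↔ i = (h : ZMod (2 * h)) := by
    intro i
    have : (-(h : ZMod (2 * h))) = h := by
      rw [neg_eq_iff_add_eq_zero, ← Nat.cast_add, ← two_mul, ZMod.natCast_self]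
    constructor <;> intro e
    · rw [← neg_neg i, e, this]
    · rw [e, this]
  have hcAB : ∀ (x : I) (c : ℤ), o ≠ x → X ≠ x → v h x = -c →
      (∀ j, 1 ≤ j → j < h → v j x = 0) → ∀ i, coef σ ψ (x.1 : G → ℂ) i =
      -(c : ℂ) * (if i = (h : ZMod (2 * h)) then 1 else 0) := fun x c _ _ e1 e2 =>
    S.coef_ext x.1 _ (by rw [if_neg (Ne.symm (hne0 (by omega) le_rfl)), mul_zero])
      (fun i => by simp only [hneg]) fun j j1 j2 => by
        rw [hv', if_congr (hcast (show j < 2 * h by omega) (show h < 2 * h by omega)) rfl rfl]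
        rcases eq_or_lt_of_le j2 with rfl | j3
        · rw [e1, if_pos rfl]; push_cast; ring
        · rw [e2 j j1 j3, if_neg j3.ne]; simp
  have hcA := hcAB A a n2 n4 (by
      rw [htop A, if_neg n2.symm, if_neg n4.symm, if_pos rfl, if_neg n6]; ring)
    (fun j j1 j3 => by
      rw [hlow j j1 j3 A, if_neg n2.symm, if_neg n4.symm, if_neg (hY j j1 j3).2.2.1]; ring)
  have hcB := hcAB B b n3 n5 (by
      rw [htop B, if_neg n3.symm, if_neg n5.symm, if_neg n6.symm, if_pos rfl]; ring)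
    (fun j j1 j3 => by
      rw [hlow j j1 j3 B, if_neg n3.symm, if_neg n5.symm, if_neg (hY j j1 j3).2.2.2]; ring)
  have hcY : ∀ k, 1 ≤ k → k < h → ∀ i : ZMod (2 * h), coef σ ψ ((Y k).1 : G → ℂ) i =
      (δ : ℂ) * ((if i = (k : ZMod (2 * h)) then 1 else 0) +
        if i + (k : ZMod (2 * h)) = 0 then 1 else 0) := by
    intro k k1 k3
    obtain ⟨q1, q2, q3, q4⟩ := hY k k1 k3
    refine S.coef_ext _ _ ?_ (fun i => ?_) fun j j1 j2 => ?_
    · rw [if_neg (Ne.symm (hne0 k1 k3.le)), zero_add, if_neg (by simpa using hne0 k1 k3.le)]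
      simp
    · rw [if_congr (neg_eq_iff_add_eq_zero (a := i)) rfl rfl,
        if_congr (neg_add_eq_zero (a := i)) rfl rfl, add_comm]
    · rw [hv', if_congr (hcast (show j < 2 * h by omega) (show k < 2 * h by omega)) rfl rfl,
        if_neg (show ¬ ((j : ZMod (2 * h)) + k = 0) from fun e => by
          have := (hsum0 j1 j2 k1 k3.le).1 e; omega)]
      rcases eq_or_lt_of_le j2 with rfl | j3
      · rw [htop, if_neg q1.symm, if_neg q2.symm, if_neg q3.symm, if_neg q4.symm, if_neg k3.ne']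
        simp
      · rw [hlow j j1 j3, if_neg q1.symm, if_neg q2.symm]
        by_cases e : j = k
        · subst e; simp
        · rw [if_neg e, if_neg fun e' => e (hYinj j k j1 j3 k1 k3 e'.symm)]; simp
  have hsum1 : ∀ l : ZMod (2 * h), l ≠ 0 →
      (∑ i : ZMod (2 * h), (if i = (0 : ZMod (2 * h)) then (0 : ℂ) else 1) * ψ (i * l)) = -1 := by
    intro l hl
    have e := sum_psi hψ l
    rw [if_neg hl, ← Finset.add_sum_erase _ _ (Finset.mem_univ (0 : ZMod (2 * h)))] at e
    rw [← Finset.add_sum_erase _ _ (Finset.mem_univ (0 : ZMod (2 * h))), if_pos rfl, zero_mul,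
      zero_add, Finset.sum_congr rfl (g := fun i => ψ (l * i)) fun i hi => by
        rw [if_neg (Finset.ne_of_mem_erase hi), one_mul, mul_comm i l]]
    rw [mul_zero, AddChar.map_zero_eq_one] at e
    linear_combination e
  have hhalf : ζ ^ h = -1 := by
    have h1 : ζ ^ h * ζ ^ h = 1 := by rw [← pow_add, ← two_mul, hζ.pow_eq_one]
    exact (mul_self_eq_one_iff.1 h1).resolve_left
      (hζ.pow_ne_one_of_pos_of_lt (by omega) (by omega))
  refine ⟨X.1, A.1, B.1, fun i => (Y i).1, δ, a, b, hδ, ha, hb, fun e => n1 (Subtype.ext e),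
    fun e => n2 (Subtype.ext e), fun e => n3 (Subtype.ext e), fun e => n4 (Subtype.ext e),
    fun e => n5 (Subtype.ext e), fun e => n6 (Subtype.ext e), fun i i1 i3 => ?_,
    fun i k i1 i3 k1 k3 e => hYinj i k i1 i3 k1 k3 (Subtype.ext e), fun χ => ?_,
    fun l hl => ?_, fun ρ hρ k k1 k3 => ?_⟩
  · obtain ⟨q1, q2, q3, q4⟩ := hY i i1 i3
    exact ⟨fun e => q1 (Subtype.ext e), fun e => q2 (Subtype.ext e), fun e => q3 (Subtype.ext e),
      fun e => q4 (Subtype.ext e)⟩
  · constructor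
    · intro hχ
      by_contra hno
      push Not at hno
      obtain ⟨m1, m2, m3, m4, m5⟩ := hno
      let x : I := ⟨χ, hχ⟩
      have hx : ∀ {y : I}, χ ≠ y.1 → x ≠ y := fun hne e => hne (congrArg Subtype.val e)
      have hz : ∀ i : ZMod (2 * h), coef σ ψ (χ : G → ℂ) i = 0 :=
        S.coef_ext χ (fun _ => 0) rfl (fun _ => rfl) fun j j1 j2 => by
          rw [hv' j x]
          rcases eq_or_lt_of_le j2 with rfl | j3
          · rw [htop, if_neg (hx (y := o) m1), if_neg (hx m2), if_neg (hx m3), if_neg (hx m4)]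
            simp
          · rw [hlow j j1 j3, if_neg (hx (y := o) m1), if_neg (hx m2),
              if_neg (hx (m5 j j1 j3))]
            simp
      apply S.apply_J_ne_zero hM hχ
      rw [← S.pw_natCast, ← S.invert hψ (χ : G → ℂ) (hne0 (by omega) le_rfl)]
      simp [hz]
    · rintro (rfl | rfl | rfl | rfl | ⟨i, -, -, rfl⟩)
      exacts [trivChar_mem, X.2, A.2, B.2, (Y i).2]
  · have hl0 : (l : ZMod (2 * h)) ≠ 0 := fun e => hl (by rw [← S.pw_natCast, e, S.pw_eq_one])
    have hψl : ∀ i : ℕ, ψ ((i : ZMod (2 * h)) * l) = ζ ^ (i * l) := fun i => by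
      rw [← Nat.cast_mul, hψdef, AddChar.zmodChar_apply']
    have hI : ∀ x : IrrCharacter G, (x : G → ℂ) (σ ^ l) =
        ∑ i : ZMod (2 * h), coef σ ψ (x : G → ℂ) i * ψ (i * l) := fun x => by
      rw [← S.pw_natCast, S.invert hψ (x : G → ℂ) hl0]
    refine ⟨?_, ?_, ?_, fun k k1 k3 => ?_⟩ <;> rw [hI]
    · simp only [hcX, mul_assoc, ← Finset.mul_sum, hsum1 _ hl0]
      ring
    · simp only [hcA, mul_assoc, ← Finset.mul_sum, ite_mul, one_mul, zero_mul, Finset.sum_ite_eq',
        Finset.mem_univ, if_true, hψl, pow_mul, hhalf]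
      ring
    · simp only [hcB, mul_assoc, ← Finset.mul_sum, ite_mul, one_mul, zero_mul, Finset.sum_ite_eq',
        Finset.mem_univ, if_true, hψl, pow_mul, hhalf]
      ring
    · simp only [hcY k k1 k3, mul_assoc, ← Finset.mul_sum, add_mul, Finset.sum_add_distrib,
        ite_mul, one_mul, zero_mul, add_eq_zero_iff_eq_neg, Finset.sum_ite_eq',
        Finset.mem_univ, if_true, hψl, neg_mul, AddChar.map_neg_eq_inv]
  · obtain ⟨q1, q2, q3, q4⟩ := hY k k1 k3
    have top := hreg ρ hρ h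
    rw [← Finset.sum_subset (Finset.subset_univ ({o, X, A, B} : Finset I)) (fun x _ hx => by
      simp only [Finset.mem_insert, Finset.mem_singleton, not_or] at hx
      simp [htop x, hx.1, hx.2.1, hx.2.2.1, hx.2.2.2]),
      Finset.sum_insert (by simp [n1, n2, n3]), Finset.sum_insert (by simp [n4, n5]),
      Finset.sum_pair n6] at top
    simp [htop, n1, n2, n3, n4, n5, n6, n1.symm, n2.symm, n3.symm, n4.symm, n5.symm, n6.symm]
      at top
    have low := hreg ρ hρ k
    rw [← Finset.sum_subset (Finset.subset_univ ({o, X, Y k} : Finset I)) (fun x _ hx => by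
      simp only [Finset.mem_insert, Finset.mem_singleton, not_or] at hx
      simp [hlow k k1 k3 x, hx.1, hx.2.1, hx.2.2]),
      Finset.sum_insert (by simp [n1, q1]), Finset.sum_pair q2] at low
    simp [hlow k k1 k3, n1, q1, q2, n1.symm, q1.symm, q2.symm] at low
    simp only [o, trivChar_apply] at top low
    constructor
    · linear_combination -top
    · linear_combination -low

end Setup

end CfsgLib.Inv54.DihedralBlock
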