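import Cfsg.Agent.Inv54.DihedralColumns
import Cfsg.Agent.ClassPairs.Basic

/-!
# An order formula for dihedral Sylow 2-subgroups and one class of involutions

Pairs of involutions with product in the section `σ ^ a K` of `C(σ ^ h)` are pairs of involutions
over reflections of `P`; summing against the column of `λ - 1` gives the formula.
-/

set_option autoImplicit false
set_option linter.style.haveILetI false
set_option linter.unusedSectionVars false

namespace CfsgLib.Inv54.DihedralBlock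

open Cfsg CfsgLib.Blocks CfsgLib.PrincipalBlock CfsgLib.Characters
open scoped ComplexConjugate

universe u

variable {G : Type u} [Group G] [Fintype G] {M : Ideal AlgInt} [M.IsPrime]
  {P : Sylow 2 G} {σ τ : G} {h : ℕ}

namespace Setup

variable (S : Setup P σ τ h)
include S

open Classical in
/-- A principal block sum over a coset of the core. -/
theorem sum_core_coset (hM : Cfsg.IsPModular 2 M) {a : ℕ} (ha : σ ^ a ≠ 1) [Fintype S.core]
    (χ : IrrCharacter G) :
    ∑ k : S.core, conj ((χ : G → ℂ) (σ ^ a * (k : G))) =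
      (Nat.card S.core : ℂ) *
        if χ ∈ Cfsg.principalBlock M G then conj ((χ : G → ℂ) (σ ^ a)) else 0 := by
  haveI : Fact (Nat.Prime 2) := ⟨Nat.prime_two⟩
  obtain ⟨hLC, hLn, hLo, hLi⟩ := S.core_centralizer ha
  set L := S.core ⊓ Subgroup.centralizer ({σ ^ a} : Set G) with hLdef
  haveI := Fintype.ofFinite L
  have hy : ∃ k, orderOf (σ ^ a) = 2 ^ k := by
    obtain ⟨k, hk⟩ := S.pow2
    have hd : orderOf (σ ^ a) ∣ 2 ^ (k + 1) := by
      rw [pow_succ', ← hk, ← S.ordσ]; exact orderOf_pow_dvd a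
    obtain ⟨i, -, hi⟩ := (Nat.dvd_prime_pow Nat.prime_two).1 hd
    exact ⟨i, hi⟩
  have hL := BlocksFrobenius.Klein.sum_translate_conj hM hy L hLC hLn hLo.not_two_dvd_nat hLi χ
  have hyC : σ ^ a ∈ Subgroup.centralizer ({σ ^ h} : Set G) := S.P_le_C (pow_mem S.memσ a)
  have hcomm : ∀ l : L, Commute (σ ^ a) (l : G) := fun l =>
    (Subgroup.mem_centralizer_singleton_iff.1 (hLC l.2)).symm
  let φ : S.core × L → S.core := fun x =>
    ⟨(σ ^ a)⁻¹ * ((x.1 : G) * (σ ^ a * x.2) * (x.1 : G)⁻¹), by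
      have e : (σ ^ a)⁻¹ * ((x.1 : G) * (σ ^ a * x.2) * (x.1 : G)⁻¹) =
          (σ ^ a)⁻¹ * (x.1 : G) * (σ ^ a)⁻¹⁻¹ * ((x.2 : G) * (x.1 : G)⁻¹) := by group
      rw [e]
      exact mul_mem (S.core_conj (inv_mem hyC) x.1.2)
        (mul_mem (Subgroup.mem_inf.1 x.2.2).1 (inv_mem x.1.2))⟩
  have hfib : ∀ m : S.core,
      (Finset.univ.filter fun x => φ x = m).card ≤ Fintype.card L := by
    intro m
    rcases (Finset.univ.filter fun x => φ x = m).eq_empty_or_nonempty with e | ⟨x₀, hx₀⟩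
    · rw [e]; exact Nat.zero_le _
    rw [← Finset.card_univ]
    have hkey : ∀ x, φ x = m → (x₀.1 : G)⁻¹ * (x.1 : G) ∈ L ∧
        (x.1 : G) * (σ ^ a * x.2) * (x.1 : G)⁻¹ = (x₀.1 : G) * (σ ^ a * x₀.2) * (x₀.1 : G)⁻¹ := by
      intro x hx
      have e : φ x = φ x₀ := hx.trans (Finset.mem_filter.1 hx₀).2.symm
      have e' : (x.1 : G) * (σ ^ a * x.2) * (x.1 : G)⁻¹ =
          (x₀.1 : G) * (σ ^ a * x₀.2) * (x₀.1 : G)⁻¹ :=
        mul_left_cancel (congrArg Subtype.val e)
      have hodd : ∀ l : L, ¬ 2 ∣ orderOf (l : G) := fun l => by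
        rw [Subgroup.orderOf_coe]
        exact (hLo.of_dvd_nat (orderOf_dvd_natCard l)).not_two_dvd_nat
      have h1 := isPPart_conj (isPPart_of_mul (p := 2) (hcomm x.2) hy (hodd x.2)) (x.1 : G)
      have h2 := isPPart_conj (isPPart_of_mul (p := 2) (hcomm x₀.2) hy (hodd x₀.2)) (x₀.1 : G)
      rw [e'] at h1
      have h3 := isPPart_unique Nat.prime_two h1 h2
      refine ⟨⟨Subgroup.mul_mem _ (Subgroup.inv_mem _ x₀.1.2) x.1.2, ?_⟩, e'⟩
      refine Subgroup.mem_centralizer_singleton_iff.2 ?_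
      calc (x₀.1 : G)⁻¹ * x.1 * σ ^ a
          = (x₀.1 : G)⁻¹ * ((x.1 : G) * σ ^ a * (x.1 : G)⁻¹) * x.1 := by group
        _ = σ ^ a * ((x₀.1 : G)⁻¹ * x.1) := by rw [h3]; group
    refine Finset.card_le_card_of_injOn
      (fun x => if hx : φ x = m then (⟨_, (hkey x hx).1⟩ : L) else 1)
      (fun x _ => Finset.mem_univ _) ?_
    intro x hx x' hx' e
    simp only [Finset.coe_filter, Finset.mem_univ, true_and, Set.mem_setOf_eq] at hx hx'
    simp only [dif_pos hx, dif_pos hx'] at e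
    have h1 : x.1 = x'.1 := Subtype.ext (mul_left_cancel (congrArg Subtype.val e))
    refine Prod.ext h1 (Subtype.ext ?_)
    have e' := (hkey x hx).2.trans (hkey x' hx').2.symm
    rw [h1] at e'
    exact mul_left_cancel (mul_left_cancel (mul_right_cancel e'))
  have htot : ∑ m : S.core, (Finset.univ.filter fun x => φ x = m).card =
      ∑ _m : S.core, Fintype.card L := by
    rw [← Finset.card_eq_sum_card_fiberwise (fun x _ => Finset.mem_univ (φ x)), Finset.sum_const,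
      Finset.card_univ, Finset.card_univ, Fintype.card_prod, smul_eq_mul]
  have heq := (Finset.sum_eq_sum_iff_of_le fun m _ => hfib m).1 htot
  apply mul_left_cancel₀ (show (Nat.card L : ℂ) ≠ 0 from Nat.cast_ne_zero.2 Nat.card_pos.ne')
  calc (Nat.card L : ℂ) * ∑ k : S.core, conj ((χ : G → ℂ) (σ ^ a * (k : G)))
      = ∑ x : S.core × L, conj ((χ : G → ℂ) (σ ^ a * (φ x : G))) := by
        rw [← Finset.sum_fiberwise_of_maps_to (g := φ) (fun x _ => Finset.mem_univ (φ x)),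
          Finset.mul_sum]
        refine Finset.sum_congr rfl fun m _ => ?_
        rw [Finset.sum_congr rfl fun x hx => by rw [(Finset.mem_filter.1 hx).2], Finset.sum_const,
          heq m (Finset.mem_univ m), Nat.card_eq_fintype_card, nsmul_eq_mul]
    _ = ∑ x : S.core × L, conj ((χ : G → ℂ) (σ ^ a * x.2)) := by
        refine Finset.sum_congr rfl fun x _ => ?_
        show conj ((χ : G → ℂ) (σ ^ a * ((σ ^ a)⁻¹ * _))) = _
        rw [mul_inv_cancel_left, isClassFunction_of_isIrr χ.2 _ (x.1 : G)]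
    _ = _ := by
        rw [Fintype.sum_prod_type]
        simp only [hL, Finset.sum_const, Finset.card_univ, nsmul_eq_mul, ← Nat.card_eq_fintype_card]
        ring

/-- An involution of `C` over a reflection is conjugate to it under the core. -/
theorem conj_of_pr {u t : G} (hu : u ∈ Subgroup.centralizer ({σ ^ h} : Set G)) (hu2 : u * u = 1)
    (ht : t * t = 1) (hpr : S.pr u = t) : ∃ k ∈ S.core, u = k * t * k⁻¹ := by
  obtain ⟨hp, hk⟩ := S.pr_spec hu
  rw [hpr] at hp hk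
  have hti : t⁻¹ = t := inv_eq_of_mul_eq_one_right ht
  have hui : u⁻¹ = u := inv_eq_of_mul_eq_one_right hu2
  have hutt : u * t⁻¹ * t = u := inv_mul_cancel_right u t
  generalize u * t⁻¹ = k₀ at hk hutt
  subst hutt
  have hinv : t * k₀ * t⁻¹ = k₀⁻¹ := by
    rw [hti]
    refine eq_inv_of_mul_eq_one_right ?_
    rw [← hu2]
    group
  obtain ⟨j, hj⟩ : ∃ j, orderOf k₀ = 2 * j + 1 := by
    obtain ⟨j, hj⟩ := S.core_odd.of_dvd_nat (S.core.orderOf_dvd_natCard hk)
    exact ⟨j, hj⟩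
  have hs : k₀ ^ (j + 1) * k₀ ^ (j + 1) = k₀ := by
    rw [← pow_add, show j + 1 + (j + 1) = 2 * j + 1 + 1 by ring, pow_succ, ← hj,
      pow_orderOf_eq_one, one_mul]
  refine ⟨k₀ ^ (j + 1), pow_mem hk _, ?_⟩
  have h1 := Small.invol_conj_pow hinv (j + 1)
  generalize k₀ ^ (j + 1) = s at hs h1
  have h2 : t * s⁻¹ = s * t := by
    rw [← h1, hti]
    simp [mul_assoc, ← mul_assoc t t, ht]
  rw [← hs, mul_assoc s t, h2, mul_assoc]

open Classical in
/-- The involutions of `C` over an element of `P`. -/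
noncomputable def above (t : G) : Finset G :=
  Finset.univ.filter fun u => u ∈ Subgroup.centralizer ({σ ^ h} : Set G) ∧ u * u = 1 ∧ S.pr u = t

theorem mem_above {t u : G} :
    u ∈ S.above t ↔ u ∈ Subgroup.centralizer ({σ ^ h} : Set G) ∧ u * u = 1 ∧ S.pr u = t := by
  simp [above]

theorem card_above_mul {t : G} (htP : t ∈ (P : Subgroup G)) (ht : t * t = 1) :
    (S.above t).card *
        Nat.card (S.core ⊓ Subgroup.centralizer ({t} : Set G) : Subgroup G) =
      Nat.card S.core := by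
  classical
  have hs : ∀ u : S.above t, ∃ k ∈ S.core, (u : G) = k * t * k⁻¹ := fun u => by
    obtain ⟨h1, h2, h3⟩ := S.mem_above.1 u.2
    exact S.conj_of_pr h1 h2 ht h3
  choose s hsK hse using hs
  have hab : ∀ k : S.core, (k : G) * t * (k : G)⁻¹ ∈ S.above t := fun k => by
    have hkC := S.core_le k.2
    have htC := S.P_le_C htP
    refine S.mem_above.2 ⟨mul_mem (mul_mem hkC htC) (inv_mem hkC), ?_, ?_⟩
    · rw [conj_mul, ht, mul_one, mul_inv_cancel]
    · rw [S.pr_mul (mul_mem hkC htC) (inv_mem hkC), S.pr_eq k.2 htP,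
        S.pr_of_core (inv_mem k.2), mul_one]
  rw [← Nat.card_eq_finsetCard, ← Nat.card_prod]
  refine (Nat.card_congr (Equiv.ofBijective (fun k : S.core =>
    ((⟨_, hab k⟩ : S.above t),
      (⟨(s ⟨_, hab k⟩)⁻¹ * k, ⟨Subgroup.mul_mem _ (Subgroup.inv_mem _ (hsK _)) k.2, ?_⟩⟩ :
        (S.core ⊓ Subgroup.centralizer ({t} : Set G) : Subgroup G)))) ⟨?_, ?_⟩)).symm
  · refine Subgroup.mem_centralizer_singleton_iff.2 ?_
    have e := hse ⟨_, hab k⟩
    simp only at e
    generalize hq : s ⟨_, hab k⟩ = q at e ⊢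
    calc q⁻¹ * k * t = q⁻¹ * ((k : G) * t * (k : G)⁻¹) * k := by group
      _ = t * (q⁻¹ * k) := by rw [e]; group
  · intro k k' e
    have e1 := congrArg Prod.fst e
    have e2 : (s ⟨_, hab k⟩)⁻¹ * (k : G) = (s ⟨_, hab k'⟩)⁻¹ * (k' : G) :=
      congrArg Subtype.val (congrArg Prod.snd e)
    simp only at e1
    rw [e1] at e2
    exact Subtype.ext (mul_left_cancel e2)
  · rintro ⟨u, ⟨c, hcK, hct⟩⟩
    refine ⟨⟨s u * c, mul_mem (hsK u) hcK⟩, ?_⟩
    have e1 : (s u * c) * t * (s u * c)⁻¹ = u := by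
      rw [hse u, show s u * c * t * (s u * c)⁻¹ = s u * (c * t) * c⁻¹ * (s u)⁻¹ by group,
        Subgroup.mem_centralizer_singleton_iff.1 hct]
      group
    have e2 : (⟨_, hab ⟨s u * c, mul_mem (hsK u) hcK⟩⟩ : S.above t) = u := Subtype.ext e1
    refine Prod.ext e2 (Subtype.ext ?_)
    show (s _)⁻¹ * (s u * c) = c
    rw [e2, inv_mul_cancel_left]

theorem card_pair_centralizer {t : G} (htP : t ∈ (P : Subgroup G)) :
    Nat.card (Subgroup.centralizer ({σ ^ h, t} : Set G)) =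
      Nat.card (S.core ⊓ Subgroup.centralizer ({t} : Set G) : Subgroup G) *
        Nat.card ((P : Subgroup G) ⊓ Subgroup.centralizer ({t} : Set G) : Subgroup G) := by
  have hiff : ∀ {c : G}, c ∈ Subgroup.centralizer ({σ ^ h, t} : Set G) ↔
      c ∈ Subgroup.centralizer ({σ ^ h} : Set G) ∧ c ∈ Subgroup.centralizer ({t} : Set G) := by
    intro c
    simp [Subgroup.mem_centralizer_iff]
  have hmain : ∀ c ∈ Subgroup.centralizer ({σ ^ h, t} : Set G),
      S.pr c ∈ ((P : Subgroup G) ⊓ Subgroup.centralizer ({t} : Set G) : Subgroup G) ∧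
      c * (S.pr c)⁻¹ ∈ S.core ⊓ Subgroup.centralizer ({t} : Set G) := by
    intro c hc
    obtain ⟨hcC, hct⟩ := hiff.1 hc
    obtain ⟨h1, h2⟩ := S.pr_spec hcC
    have h3 : S.pr c ∈ Subgroup.centralizer ({t} : Set G) := by
      rw [Subgroup.mem_centralizer_singleton_iff] at hct ⊢
      have e := congrArg S.pr hct
      rwa [S.pr_mul hcC (S.P_le_C htP), S.pr_mul (S.P_le_C htP) hcC, S.pr_of_mem htP] at e
    exact ⟨⟨h1, h3⟩, ⟨h2, Subgroup.mul_mem _ hct (Subgroup.inv_mem _ h3)⟩⟩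
  rw [← Nat.card_prod]
  refine Nat.card_congr
    { toFun := fun c => (⟨_, (hmain c c.2).2⟩, ⟨_, (hmain c c.2).1⟩)
      invFun := fun x => ⟨x.1.1 * x.2.1, hiff.2 ⟨mul_mem (S.core_le x.1.2.1) (S.P_le_C x.2.2.1),
        mul_mem x.1.2.2 x.2.2.2⟩⟩
      left_inv := fun c => Subtype.ext (inv_mul_cancel_right _ _)
      right_inv := fun x => ?_ }
  have e := S.pr_eq x.1.2.1 x.2.2.1
  refine Prod.ext (Subtype.ext ?_) (Subtype.ext e)
  show x.1.1 * x.2.1 * (S.pr (x.1.1 * x.2.1))⁻¹ = x.1.1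
  rw [e, mul_inv_cancel_right]

variable [NeZero (2 * h)]

theorem refl_sq (i : ZMod (2 * h)) : τ * pw σ i * (τ * pw σ i) = 1 := by
  have e := S.inverts i.val
  rw [Small.inv_eq_self_of_orderOf_two S.ordτ] at e
  rw [← mul_assoc]
  show τ * σ ^ i.val * τ * σ ^ i.val = 1
  rw [e, inv_mul_cancel]

theorem refl_mul (i j : ZMod (2 * h)) : τ * pw σ i * (τ * pw σ j) = pw σ (j - i) := by
  have e := S.inverts i.val
  rw [Small.inv_eq_self_of_orderOf_two S.ordτ] at e
  rw [← mul_assoc]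
  show τ * σ ^ i.val * τ * _ = _
  rw [e, show j - i = -i + j by ring, S.pw_add, S.pw_neg]
  rfl

theorem pw_mem (i : ZMod (2 * h)) : pw σ i ∈ (P : Subgroup G) := pow_mem S.memσ _

theorem refl_mem (i : ZMod (2 * h)) : τ * pw σ i ∈ (P : Subgroup G) :=
  mul_mem S.memτ (S.pw_mem i)

theorem refl_ne_pw (i j : ZMod (2 * h)) : τ * pw σ i ≠ pw σ j := fun e => S.notMem (by
  rw [eq_mul_inv_of_mul_eq e]
  exact mul_mem (pow_mem (Subgroup.mem_zpowers σ) _)
    (inv_mem (pow_mem (Subgroup.mem_zpowers σ) _)))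

theorem elems_pw {x : G} (hx : x ∈ (P : Subgroup G)) :
    ∃ a : ZMod (2 * h), x = pw σ a ∨ x = τ * pw σ a := by
  obtain ⟨i, hi⟩ := S.elems x hx
  exact ⟨i, by rwa [S.pw_natCast]⟩

theorem conj_refl (i c : ZMod (2 * h)) :
    pw σ (-c) * (τ * pw σ i) * (pw σ (-c))⁻¹ = τ * pw σ (i + 2 * c) := by
  have e := S.inverts (-c).val
  rw [Small.inv_eq_self_of_orderOf_two S.ordτ] at e
  have e' : pw σ (-c) * τ = τ * (pw σ (-c))⁻¹ := by
    show σ ^ (-c).val * τ = τ * (σ ^ (-c).val)⁻¹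
    rw [← e, ← mul_assoc, ← mul_assoc, Small.mul_self_of_orderOf_two S.ordτ, one_mul]
  rw [← mul_assoc, e', ← S.pw_neg, neg_neg, mul_assoc τ, ← S.pw_add, mul_assoc τ, ← S.pw_add]
  congr 2
  ring

theorem isConj_refl_J (hτ : IsConj (σ ^ h) τ) (hστ : IsConj (σ ^ h) (σ * τ))
    (i : ZMod (2 * h)) : IsConj (σ ^ h) (τ * pw σ i) := by
  have hσ : σ * τ = τ * pw σ (-1 : ZMod (2 * h)) := by
    rw [S.pw_neg, ← Nat.cast_one, S.pw_natCast, pow_one, ← S.rel,
      Small.inv_eq_self_of_orderOf_two S.ordτ]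
    simp [← mul_assoc, Small.mul_self_of_orderOf_two S.ordτ]
  have hstep : ∀ i c : ZMod (2 * h), IsConj (τ * pw σ i) (τ * pw σ (i + 2 * c)) := fun i c =>
    isConj_iff.2 ⟨_, S.conj_refl i c⟩
  rw [← ZMod.natCast_zmod_val i]
  obtain ⟨c, hc | hc⟩ := Nat.even_or_odd' i.val
  · refine hτ.trans ?_
    rw [hc, Nat.cast_mul, Nat.cast_ofNat]
    have := hstep 0 c
    rwa [S.pw_eq_one.2 rfl, mul_one, zero_add] at this
  · refine hστ.trans ?_
    rw [hc, hσ]
    have := hstep (-1) (c + 1)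
    rwa [show (-1 : ZMod (2 * h)) + 2 * ((c : ZMod (2 * h)) + 1) = ((2 * c + 1 : ℕ) : ZMod (2 * h)) by
      push_cast; ring] at this

theorem card_P_refl (i : ZMod (2 * h)) :
    Nat.card ((P : Subgroup G) ⊓ Subgroup.centralizer ({τ * pw σ i} : Set G) : Subgroup G) = 4 := by
  set H := (P : Subgroup G) ⊓ Subgroup.centralizer ({τ * pw σ i} : Set G)
  set b : ZMod (2 * h) := (h : ZMod (2 * h)) with hb
  have hb2 : b + b = 0 := by rw [hb, ← Nat.cast_add, ← two_mul, ZMod.natCast_self]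
  have hb0 : b ≠ 0 := fun e => S.J_ne (by rw [← S.pw_natCast, ← hb, e, S.pw_eq_one.2 rfl])
  have hset : (H : Set G) = {pw σ (0 : ZMod (2 * h)), pw σ b, τ * pw σ i, τ * pw σ (i + b)} := by
    ext x
    simp only [H, SetLike.mem_coe, Subgroup.mem_inf, Subgroup.mem_centralizer_singleton_iff,
      Set.mem_insert_iff, Set.mem_singleton_iff]
    have hdbl : ∀ c : ZMod (2 * h), c + c = 0 → c = 0 ∨ c = b := by
      intro c hc
      by_cases h0 : c = 0
      · exact Or.inl h0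
      · refine Or.inr (S.pw_inj.1 ?_)
        rw [hb, S.pw_natCast]
        refine S.J_unique ?_ fun e => h0 (S.pw_eq_one.1 e)
        show pw σ c * pw σ c = 1
        rw [S.pw_mul_eq_one, hc]
    have h1 : ∀ c : ZMod (2 * h), pw σ c * (τ * pw σ i) = τ * pw σ i * pw σ c ↔ c + c = 0 := by
      intro c
      have e := S.inverts c.val
      rw [Small.inv_eq_self_of_orderOf_two S.ordτ] at e
      have e' : pw σ c * τ = τ * pw σ (-c) := by
        rw [S.pw_neg]
        show σ ^ c.val * τ = τ * (σ ^ c.val)⁻¹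
        rw [← e, ← mul_assoc, ← mul_assoc, Small.mul_self_of_orderOf_two S.ordτ, one_mul]
      rw [← mul_assoc, e', mul_assoc, mul_assoc, ← S.pw_add, ← S.pw_add, mul_right_inj,
        S.pw_inj, neg_add_eq_iff_eq_add, add_left_comm, left_eq_add]
    constructor
    · rintro ⟨hx, hc⟩
      obtain ⟨c, rfl | rfl⟩ := S.elems_pw hx
      · rcases hdbl c ((h1 c).1 hc) with e | e <;> simp [e]
      · rw [S.refl_mul, S.refl_mul, S.pw_inj] at hc
        rcases hdbl (c - i) (by linear_combination (-1 : ZMod (2 * h)) * hc) with e | e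
        · rw [show c = i from sub_eq_zero.1 e]; simp
        · rw [show c = i + b by linear_combination e]; simp
    · rintro (rfl | rfl | rfl | rfl)
      · exact ⟨S.pw_mem _, (h1 _).2 (add_zero 0)⟩
      · exact ⟨S.pw_mem _, (h1 _).2 hb2⟩
      · exact ⟨S.refl_mem _, rfl⟩
      · refine ⟨S.refl_mem _, ?_⟩
        rw [S.refl_mul, S.refl_mul, S.pw_inj]
        linear_combination (-1 : ZMod (2 * h)) * hb2
  show Nat.card (H : Set G) = 4
  rw [hset, Nat.card_coe_set_eq, Set.ncard_insert_of_notMem, Set.ncard_insert_of_notMem,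
    Set.ncard_pair]
  · exact fun e => hb0 (by simpa using (S.pw_inj.1 (mul_left_cancel e)).symm)
  · simp only [Set.mem_insert_iff, Set.mem_singleton_iff, not_or]
    exact ⟨(S.refl_ne_pw _ _).symm, (S.refl_ne_pw _ _).symm⟩
  · simp only [Set.mem_insert_iff, Set.mem_singleton_iff, not_or]
    exact ⟨fun e => hb0 (S.pw_inj.1 e).symm, (S.refl_ne_pw _ _).symm, (S.refl_ne_pw _ _).symm⟩

/-- A power of an element over `σ ^ a ≠ 1` is `σ ^ h`. -/
theorem exists_pow_eq {z : G} (hz : z ∈ Subgroup.centralizer ({σ ^ h} : Set G)) {a : ℕ}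
    (ha : σ ^ a ≠ 1) (hpr : S.pr z = σ ^ a) : ∃ j : ℕ, z ^ j = σ ^ h := by
  obtain ⟨j, hj⟩ := S.exists_pow_J ha
  refine ⟨j * Nat.card S.core, ?_⟩
  have hpow : ∀ i : ℕ, S.pr (z ^ i) = (σ ^ a) ^ i := fun i => by
    induction i with
    | zero => rw [pow_zero, pow_zero, S.pr_of_core S.core.one_mem]
    | succ i ih => rw [pow_succ, S.pr_mul (pow_mem hz i) hz, ih, hpr, pow_succ]
  have hk := (S.pr_spec (pow_mem hz j)).2
  rw [hpow, hj] at hk
  have hc : Commute (z ^ j * (σ ^ h)⁻¹) (σ ^ h) :=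
    Subgroup.mem_centralizer_singleton_iff.1 (S.core_le hk)
  obtain ⟨r, hr⟩ := S.core_odd
  rw [pow_mul, show z ^ j = z ^ j * (σ ^ h)⁻¹ * σ ^ h from (inv_mul_cancel_right _ _).symm,
    hc.mul_pow]
  have h1 : (z ^ j * (σ ^ h)⁻¹) ^ Nat.card S.core = 1 := by
    rw [← orderOf_dvd_iff_pow_eq_one]
    exact S.core.orderOf_dvd_natCard hk
  rw [h1, one_mul, hr, pow_succ, pow_mul, pow_two, S.J_sq, one_pow, one_mul]

theorem pr_cases {u : G} (hu : u ∈ Subgroup.centralizer ({σ ^ h} : Set G)) (hu2 : u * u = 1)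
    (hu1 : u ≠ 1) : u = σ ^ h ∨ ∃ i : ZMod (2 * h), S.pr u = τ * pw σ i := by
  obtain ⟨hp, hk⟩ := S.pr_spec hu
  obtain ⟨c, hc | hc⟩ := S.elems_pw hp
  · have h2 : σ ^ c.val * σ ^ c.val = 1 := by
      have e := congrArg S.pr hu2
      rwa [S.pr_mul hu hu, S.pr_of_core S.core.one_mem, hc] at e
    by_cases h1 : σ ^ c.val = 1
    · exfalso
      rw [hc, show pw σ c = 1 from h1, inv_one, mul_one] at hk
      exact hu1 (orderOf_eq_one_iff.1 (Nat.eq_one_of_dvd_coprimes
        (Nat.coprime_two_right.2 S.core_odd) (S.core.orderOf_dvd_natCard hk)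
        (orderOf_dvd_of_pow_eq_one (by rw [pow_two]; exact hu2))))
    · left
      rw [hc, show pw σ c = σ ^ h from S.J_unique h2 h1] at hk
      have hcm : Commute (u * (σ ^ h)⁻¹) (σ ^ h) :=
        Subgroup.mem_centralizer_singleton_iff.1 (S.core_le hk)
      have hu' : u * (σ ^ h)⁻¹ * σ ^ h = u := inv_mul_cancel_right _ _
      have hk2 : (u * (σ ^ h)⁻¹) ^ 2 = 1 := by
        rw [inv_eq_of_mul_eq_one_right S.J_sq] at hk hcm ⊢
        have hcm' : Commute u (σ ^ h) := Subgroup.mem_centralizer_singleton_iff.1 hu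
        rw [hcm'.mul_pow, pow_two, pow_two, hu2, S.J_sq, one_mul]
      have := orderOf_eq_one_iff.1 (Nat.eq_one_of_dvd_coprimes
        (Nat.coprime_two_right.2 S.core_odd) (S.core.orderOf_dvd_natCard hk)
        (orderOf_dvd_of_pow_eq_one hk2))
      exact mul_inv_eq_one.1 this
  · exact Or.inr ⟨c, hc⟩

open Classical in
/-- The pairs of conjugates of `σ ^ h` with product in the coset of `pw σ a`. -/
theorem pair_count (hτ : IsConj (σ ^ h) τ) (hστ : IsConj (σ ^ h) (σ * τ))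
    {a : ZMod (2 * h)} (ha : a ≠ 0) :
    ((Finset.univ.filter fun x : G × G => IsConj (σ ^ h) x.1 ∧ IsConj (σ ^ h) x.2 ∧
        (pw σ a)⁻¹ * (x.1 * x.2) ∈ S.core).card) =
      ∑ i : ZMod (2 * h), (S.above (τ * pw σ i)).card * (S.above (τ * pw σ (i + a))).card := by
  have hdisj : ∀ i ∈ (Finset.univ : Finset (ZMod (2 * h))), ∀ j ∈ (Finset.univ : Finset (ZMod (2 * h))),
      i ≠ j → Disjoint (S.above (τ * pw σ i) ×ˢ S.above (τ * pw σ (i + a)))
        (S.above (τ * pw σ j) ×ˢ S.above (τ * pw σ (j + a))) := by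
    intro i _ j _ hij
    rw [Finset.disjoint_left]
    intro x hx hx'
    rw [Finset.mem_product, S.mem_above] at hx hx'
    exact hij (S.pw_inj.1 (mul_left_cancel (hx.1.2.2.symm.trans hx'.1.2.2)))
  rw [show (∑ i : ZMod (2 * h), (S.above (τ * pw σ i)).card *
      (S.above (τ * pw σ (i + a))).card) = ∑ i : ZMod (2 * h),
      (S.above (τ * pw σ i) ×ˢ S.above (τ * pw σ (i + a))).card from
    Finset.sum_congr rfl fun i _ => (Finset.card_product _ _).symm, ← Finset.card_biUnion hdisj]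
  congr 1
  ext ⟨u, w⟩
  simp only [Finset.mem_filter, Finset.mem_univ, true_and, Finset.mem_biUnion, Finset.mem_product]
  constructor
  · rintro ⟨hu, hw, hk⟩
    have hinv : ∀ {v : G}, IsConj (σ ^ h) v → v * v = 1 ∧ v ≠ 1 := by
      intro v hv
      obtain ⟨g, rfl⟩ := isConj_iff.1 hv
      refine ⟨by rw [conj_mul, S.J_sq, mul_one, mul_inv_cancel], ?_⟩
      rw [ne_eq, conj_eq_one_iff]; exact S.J_ne
    obtain ⟨hu2, hu1⟩ := hinv hu
    obtain ⟨hw2, hw1⟩ := hinv hw
    have haC := S.P_le_C (S.pw_mem a)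
    have hzC : u * w ∈ Subgroup.centralizer ({σ ^ h} : Set G) := by
      have := mul_mem haC (S.core_le hk)
      rwa [mul_inv_cancel_left] at this
    have hzpr : S.pr (u * w) = pw σ a := by
      have e := S.pr_mul haC (S.core_le hk)
      rwa [mul_inv_cancel_left, S.pr_of_mem (S.pw_mem a), S.pr_of_core hk, mul_one] at e
    have hane : σ ^ a.val ≠ 1 := fun e => ha (S.pw_eq_one.1 e)
    obtain ⟨j, hj⟩ := S.exists_pow_eq hzC hane hzpr
    have huC : u ∈ Subgroup.centralizer ({σ ^ h} : Set G) := by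
      have h1 : u * (u * w) * u⁻¹ = (u * w)⁻¹ := by
        rw [mul_inv_rev, inv_eq_of_mul_eq_one_right hu2, inv_eq_of_mul_eq_one_right hw2,
          ← mul_assoc, hu2, one_mul]
      have h2 : u * σ ^ h * u⁻¹ = σ ^ h := by
        rw [← hj, ← conj_pow, h1, inv_pow, hj, inv_eq_of_mul_eq_one_right S.J_sq]
      exact Subgroup.mem_centralizer_singleton_iff.2 (mul_inv_eq_iff_eq_mul.1 h2)
    have hwC : w ∈ Subgroup.centralizer ({σ ^ h} : Set G) := by
      have := mul_mem (inv_mem huC) hzC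
      rwa [inv_mul_cancel_left] at this
    have hprod : S.pr u * S.pr w = pw σ a := by rw [← S.pr_mul huC hwC, hzpr]
    have hJpr : S.pr (σ ^ h) = pw σ (h : ZMod (2 * h)) := by
      rw [S.pr_of_mem S.J_mem, S.pw_natCast]
    rcases S.pr_cases huC hu2 hu1 with e | ⟨i, hi⟩
    · exfalso
      rw [e, hJpr] at hprod
      rcases S.pr_cases hwC hw2 hw1 with e' | ⟨i', hi'⟩
      · rw [e', hJpr, ← S.pw_add, ← Nat.cast_add, ← two_mul, ZMod.natCast_self] at hprod
        exact ha (S.pw_inj.1 hprod).symm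
      · refine S.refl_ne_pw i' (a - (h : ZMod (2 * h))) ?_
        rw [hi'] at hprod
        rw [sub_eq_add_neg, add_comm, S.pw_add, S.pw_neg, ← hprod, inv_mul_cancel_left]
    · refine ⟨i, S.mem_above.2 ⟨huC, hu2, hi⟩, S.mem_above.2 ⟨hwC, hw2, ?_⟩⟩
      rw [hi] at hprod
      apply mul_left_cancel (a := τ * pw σ i)
      rw [hprod, S.refl_mul, add_sub_cancel_left]
  · rintro ⟨i, hu, hw⟩
    rw [S.mem_above] at hu hw
    have hJ : ∀ {v : G} {j : ZMod (2 * h)}, v ∈ Subgroup.centralizer ({σ ^ h} : Set G) ∧ v * v = 1 ∧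
        S.pr v = τ * pw σ j → IsConj (σ ^ h) v := by
      rintro v j ⟨h1, h2, h3⟩
      obtain ⟨k, -, rfl⟩ := S.conj_of_pr h1 h2 (S.refl_sq j) h3
      exact (S.isConj_refl_J hτ hστ j).trans (isConj_iff.2 ⟨k, rfl⟩)
    refine ⟨hJ hu, hJ hw, ?_⟩
    obtain ⟨h1, h2⟩ := S.pr_spec (mul_mem hu.1 hw.1)
    rw [S.pr_mul hu.1 hw.1, hu.2.2, hw.2.2, S.refl_mul, add_sub_cancel_left] at h2
    have h3 := S.core_conj (inv_mem (S.P_le_C (S.pw_mem a))) h2
    rwa [inv_inv, mul_assoc, inv_mul_cancel_right] at h3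

open Classical in
/-- The class sum over a coset of the core, through the principal block. -/
theorem section_count (hM : Cfsg.IsPModular 2 M) (hτ : IsConj (σ ^ h) τ)
    (hστ : IsConj (σ ^ h) (σ * τ)) {a : ZMod (2 * h)} (ha : a ≠ 0) :
    (Nat.card G : ℂ) * (Nat.card S.core : ℂ) *
        (∑ χ : IrrCharacter G, if χ ∈ Cfsg.principalBlock M G then
          conj ((χ : G → ℂ) (pw σ a)) *
            ((χ : G → ℂ) (σ ^ h) * (χ : G → ℂ) (σ ^ h) / (χ : G → ℂ) 1) else 0) =
      (Nat.card (Subgroup.centralizer ({σ ^ h} : Set G)) : ℂ) ^ 2 *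
        ((∑ i : ZMod (2 * h), (S.above (τ * pw σ i)).card *
          (S.above (τ * pw σ (i + a))).card : ℕ) : ℂ) := by
  haveI := Fintype.ofFinite S.core
  set I := Finset.univ.filter fun u => IsConj (σ ^ h) u with hIdef
  have hI : ∀ u, u ∈ I ↔ IsConj (σ ^ h) u := fun u => by simp [hIdef]
  set T := (Finset.univ : Finset S.core).image fun k : S.core => pw σ a * (k : G) with hTdef
  have hT : ∀ z, z ∈ T ↔ (pw σ a)⁻¹ * z ∈ S.core := fun z => by
    simp only [hTdef, Finset.mem_image, Finset.mem_univ, true_and]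
    exact ⟨fun ⟨k, hk⟩ => by rw [← hk, inv_mul_cancel_left]; exact k.2,
      fun e => ⟨⟨_, e⟩, mul_inv_cancel_left _ _⟩⟩
  have key := ClassPairs.card_pairs (σ ^ h) (σ ^ h) T
  rw [Finset.sum_congr rfl fun x _ => BlocksFrobenius.Klein.sum_conj_eq (σ ^ h) I hI
      (fun v => if x * σ ^ h * x⁻¹ * v ∈ T then (1 : ℂ) else 0),
    ← Finset.smul_sum, BlocksFrobenius.Klein.sum_conj_eq (σ ^ h) I hI
      (fun u => ∑ v ∈ I, if u * v ∈ T then (1 : ℂ) else 0), smul_smul, nsmul_eq_mul, Nat.cast_mul]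
    at key
  have hcount : (∑ u ∈ I, ∑ v ∈ I, if u * v ∈ T then (1 : ℂ) else 0) =
      ((Finset.univ.filter fun x : G × G => IsConj (σ ^ h) x.1 ∧ IsConj (σ ^ h) x.2 ∧
        (pw σ a)⁻¹ * (x.1 * x.2) ∈ S.core).card : ℂ) := by
    rw [← Finset.sum_product' I I fun u v => if u * v ∈ T then (1 : ℂ) else 0, Finset.sum_boole]
    congr 2
    ext ⟨u, v⟩
    simp [hI, hT, and_assoc]
  rw [hcount, S.pair_count hτ hστ ha] at key
  rw [pow_two, key, mul_assoc]
  congr 1
  rw [Finset.mul_sum]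
  refine Finset.sum_congr rfl fun χ _ => ?_
  rw [hTdef, Finset.sum_image (fun k _ k' _ e => Subtype.ext (mul_left_cancel e))]
  have e := S.sum_core_coset (M := M) hM (a := a.val) (fun e => ha (S.pw_eq_one.1 e)) χ
  rw [show pw σ a = σ ^ a.val from rfl, e]
  split_ifs <;> ring

/-- **The order formula.** -/
theorem order_formula (hM : Cfsg.IsPModular 2 M) (hτ : IsConj (σ ^ h) τ)
    (hστ : IsConj (σ ^ h) (σ * τ)) (χ₁ : IrrCharacter G)
    (hχ₁ : χ₁ ∈ Cfsg.principalBlock M G) (h1 : χ₁ ≠ trivChar G) (δ₁ : ℤ)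
    (hδ₁ : δ₁ = 1 ∨ δ₁ = -1)
    (hval : ∀ l : ℕ, σ ^ l ≠ 1 → (χ₁ : G → ℂ) (σ ^ l) = δ₁) :
    let x : ℂ := (χ₁ : G → ℂ) 1
    x ≠ δ₁ ∧ (Nat.card G : ℂ) * (x - δ₁) ^ 2 =
      2 * x * (x + δ₁) * (Nat.card (Subgroup.centralizer ({σ ^ h} : Set G)) : ℂ) ^ 3 *
        (1 / (Nat.card (Subgroup.centralizer ({σ ^ h, τ} : Set G)) : ℂ) +
          1 / (Nat.card (Subgroup.centralizer ({σ ^ h, σ * τ} : Set G)) : ℂ)) ^ 2 := by
  classical
  intro x
  have h2 := S.two_le
  obtain ⟨ζ, hζ⟩ : ∃ ζ : ℂ, IsPrimitiveRoot ζ (2 * h) :=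
    ⟨_, Complex.isPrimitiveRoot_exp (2 * h) (NeZero.ne _)⟩
  obtain ⟨X, A, B, Y, δ, a, b, hδ, ha, hb, n1, n2, n3, n4, n5, n6, hY, hYinj, hmem, hv, hrel⟩ :=
    S.principal_block hM hζ
  have hl : ∀ l : ℕ, 0 < l → l < 2 * h → σ ^ l ≠ 1 := fun l l0 l1 e => by
    have := Nat.le_of_dvd l0 (S.pow_eq_one.1 e); omega
  have hζh : ζ ^ h = -1 := by
    have h1 : ζ ^ h * ζ ^ h = 1 := by rw [← pow_add, ← two_mul, hζ.pow_eq_one]
    exact (mul_self_eq_one_iff.1 h1).resolve_left
      (hζ.pow_ne_one_of_pos_of_lt (by omega) (by omega))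
  have hχX : χ₁ = X := by
    rcases (hmem χ₁).1 hχ₁ with e | e | e | e | ⟨i, i1, i2, e⟩
    · exact absurd e h1
    · exact e
    · exfalso
      have e1 := (hv 1 (hl 1 one_pos (by omega))).2.1
      have e2 := (hv 2 (hl 2 two_pos (by omega))).2.1
      rw [← e, hval _ (hl 1 one_pos (by omega))] at e1
      rw [← e, hval _ (hl 2 two_pos (by omega))] at e2
      have e3 : (a : ℂ) = 0 := by linear_combination (e2 - e1) / 2
      rcases ha with rfl | rfl <;> simp at e3
    · exfalso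
      have e1 := (hv 1 (hl 1 one_pos (by omega))).2.2.1
      have e2 := (hv 2 (hl 2 two_pos (by omega))).2.2.1
      rw [← e, hval _ (hl 1 one_pos (by omega))] at e1
      rw [← e, hval _ (hl 2 two_pos (by omega))] at e2
      have e3 : (b : ℂ) = 0 := by linear_combination (e2 - e1) / 2
      rcases hb with rfl | rfl <;> simp at e3
    · exfalso
      have e1 := (hv h S.J_ne).2.2.2 i i1 i2
      rw [← e, hval _ S.J_ne, mul_comm i h, pow_mul, hζh, ← inv_pow] at e1
      rcases Nat.even_or_odd i with hi | hi <;> rcases hδ with rfl | rfl <;>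
        rcases hδ₁ with rfl | rfl <;> norm_num [hi.neg_one_pow] at e1
  subst hχX
  have hδe : (δ₁ : ℂ) = δ := by rw [← hval h S.J_ne]; exact (hv h S.J_ne).1
  have hδc : (δ : ℂ) * δ = 1 := by rcases hδ with rfl | rfl <;> norm_num
  set y : ℂ := (Y 1 : G → ℂ) 1 with hy
  have hxy : 1 + (δ : ℂ) * x = δ * y :=
    (hrel 1 (by rw [orderOf_one]; exact odd_one) 1 le_rfl (by omega)).2
  have hx0 : x ≠ 0 := irr_one_ne_zero χ₁.2
  have hy0 : y ≠ 0 := irr_one_ne_zero (Y 1).2
  have hyx : y = x + δ := by linear_combination (δ : ℂ) * hxy.symm - (y - x) * hδc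
  set ψ : AddChar (ZMod (2 * h)) ℂ := AddChar.zmodChar (2 * h) hζ.pow_eq_one with hψdef
  have hψ : ψ.IsPrimitive := AddChar.zmodChar_primitive_of_primitive_root _ hζ
  -- the column of `λ - 1`
  set W : IrrCharacter G → ℂ := fun χ =>
    (χ : G → ℂ) (σ ^ h) * (χ : G → ℂ) (σ ^ h) / (χ : G → ℂ) 1 with hW
  set E : IrrCharacter G → ℂ := fun χ =>
    ∑ c : ZMod (2 * h), (ψ c - 1) * conj ((χ : G → ℂ) (pw σ c)) with hE
  set m : ℂ := ((2 * h : ℕ) : ℂ) with hm
  have hone : ∀ d : ZMod (2 * h), (∑ c : ZMod (2 * h), (ψ c - 1) * ψ (d * c)) =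
      m * ((if d + 1 = 0 then 1 else 0) - if d = 0 then 1 else 0) := by
    intro d
    simp only [sub_mul, one_mul, Finset.sum_sub_distrib, sum_psi hψ,
      ← AddChar.map_add_eq_mul, ← add_one_mul, add_comm _ (d * _)]
    rw [hm]
    split_ifs <;> ring
  have hval' : ∀ {F : ZMod (2 * h) → ℂ} (χ : IrrCharacter G),
      (∀ c : ZMod (2 * h), σ ^ c.val ≠ 1 → (χ : G → ℂ) (pw σ c) = F c) →
      E χ = ∑ c : ZMod (2 * h), (ψ c - 1) * conj (F c) := by
    intro F χ hF
    refine Finset.sum_congr rfl fun c _ => ?_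
    by_cases hc : σ ^ c.val = 1
    · rw [S.pw_eq_one.1 hc]; simp
    · rw [hF c hc]
  have h10 : (1 : ZMod (2 * h)) ≠ 0 := fun e => by
    have := (ZMod.natCast_eq_zero_iff 1 (2 * h)).1 (by exact_mod_cast e)
    have := Nat.le_of_dvd one_pos this
    omega
  have hE0 : ∀ e : ℂ, ∀ χ : IrrCharacter G,
      (∀ l : ℕ, σ ^ l ≠ 1 → (χ : G → ℂ) (σ ^ l) = e) → E χ = -(m * conj e) := by
    intro e χ he
    rw [hval' (F := fun _ => e) χ (fun c hc => he _ hc), ← Finset.sum_mul]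
    have := hone 0
    simp only [zero_mul, AddChar.map_zero_eq_one, mul_one, zero_add, if_neg h10, if_pos rfl,
      zero_sub, if_true] at this
    rw [this]; ring
  have hψh : ∀ c : ZMod (2 * h), ψ ((h : ZMod (2 * h)) * c) = (-1) ^ c.val := by
    intro c
    conv_lhs => rw [← ZMod.natCast_zmod_val c]
    rw [← Nat.cast_mul, hψdef, AddChar.zmodChar_apply', pow_mul, hζh]
  have hEh : ∀ (e : ℤ) (χ : IrrCharacter G),
      (∀ l : ℕ, σ ^ l ≠ 1 → (χ : G → ℂ) (σ ^ l) = e * (-1) ^ (l + 1)) → E χ = 0 := by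
    intro e χ he
    rw [hval' (F := fun c => -(e : ℂ) * ψ ((h : ZMod (2 * h)) * c)) χ
      (fun c hc => by rw [show pw σ c = σ ^ c.val from rfl, he _ hc, hψh, pow_succ]; ring)]
    rw [Finset.sum_congr rfl (g := fun c => -(e : ℂ) * ((ψ c - 1) * ψ ((-(h : ZMod (2 * h))) * c)))
      fun c _ => by rw [map_mul, map_neg, map_intCast, conj_psi, neg_mul, neg_mul, neg_mul]; ring,
      ← Finset.mul_sum, hone, if_neg, if_neg]
    · ring
    · rw [neg_eq_zero, ZMod.natCast_eq_zero_iff]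
      exact fun e' => by have := Nat.le_of_dvd (by omega) e'; omega
    · intro e'
      rw [neg_add_eq_zero, ← Nat.cast_one] at e'
      have := congrArg ZMod.val e'
      rw [ZMod.val_natCast_of_lt (by omega), ZMod.val_natCast_of_lt (by omega)] at this
      omega
  have hEY : ∀ i, 1 ≤ i → i < h → E (Y i) = (δ : ℂ) * (m * if i = 1 then 1 else 0) := by
    intro i i1 i2
    rw [hval' (F := fun c => (δ : ℂ) * (ψ ((i : ZMod (2 * h)) * c) + ψ (-(i : ZMod (2 * h)) * c)))
      (Y i) (fun c hc => by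
        rw [show pw σ c = σ ^ c.val from rfl, (hv _ hc).2.2.2 i i1 i2]
        conv_rhs => rw [neg_mul, AddChar.map_neg_eq_inv, ← ZMod.natCast_zmod_val c, ← Nat.cast_mul,
          hψdef, AddChar.zmodChar_apply'])]
    rw [Finset.sum_congr rfl (g := fun c => (δ : ℂ) * ((ψ c - 1) * ψ (-(i : ZMod (2 * h)) * c)) +
      (δ : ℂ) * ((ψ c - 1) * ψ ((i : ZMod (2 * h)) * c))) fun c _ => by
        rw [map_mul, map_add, map_intCast, conj_psi, conj_psi, neg_mul, neg_neg]; ring,
      Finset.sum_add_distrib, ← Finset.mul_sum, ← Finset.mul_sum, hone, hone, ← mul_add]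
    have hi0 : (i : ZMod (2 * h)) ≠ 0 := by
      rw [ne_eq, ZMod.natCast_eq_zero_iff]
      exact fun e' => by have := Nat.le_of_dvd (by omega) e'; omega
    have hip : (i : ZMod (2 * h)) + 1 ≠ 0 := by
      rw [← Nat.cast_one, ← Nat.cast_add, ne_eq, ZMod.natCast_eq_zero_iff]
      exact fun e' => by have := Nat.le_of_dvd (by omega) e'; omega
    have him : -(i : ZMod (2 * h)) + 1 = 0 ↔ i = 1 := by
      rw [neg_add_eq_zero, ← Nat.cast_one]
      refine ⟨fun e' => ?_, fun e' => by rw [e']⟩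
      have := congrArg ZMod.val e'
      rwa [ZMod.val_natCast_of_lt (by omega), ZMod.val_natCast_of_lt (by omega)] at this
    rw [if_neg hi0, if_neg hip, if_neg (neg_ne_zero.2 hi0), if_congr him rfl rfl]
    ring
  have hWY : W (Y 1) = 4 / y := by
    rw [hW]
    simp only []
    rw [(hv h S.J_ne).2.2.2 1 le_rfl (by omega), one_mul, hζh, hy]
    congr 1
    linear_combination (4 : ℂ) * hδc
  have hlhs : (∑ χ : IrrCharacter G, if χ ∈ Cfsg.principalBlock M G then E χ * W χ else 0) =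
      m * (-1 - (δ : ℂ) / x + (δ : ℂ) * (4 / y)) := by
    rw [← Finset.sum_filter, ← Finset.sum_subset
      (s₁ := ({trivChar G, χ₁, Y 1} : Finset (IrrCharacter G))) (fun χ hχ => ?_) (fun χ hχ hne => ?_),
      Finset.sum_insert, Finset.sum_pair (hY 1 le_rfl (by omega)).2.1,
      hE0 1 (trivChar G) (fun _ _ => rfl), hE0 (δ : ℂ) χ₁ (fun l hl' => (hv l hl').1),
      hEY 1 le_rfl (by omega), hWY, if_pos rfl, map_one, map_intCast]
    · simp only [hW, trivChar_apply, (hv h S.J_ne).1]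
      show _ + (_ * ((δ : ℂ) * δ / x) + _) = _
      rw [hδc]
      ring
    · simp only [Finset.mem_insert, Finset.mem_singleton, not_or]
      exact ⟨n1, (hY 1 le_rfl (by omega)).1⟩
    · simp only [Finset.mem_insert, Finset.mem_singleton] at hχ
      refine Finset.mem_filter.2 ⟨Finset.mem_univ _, (hmem χ).2 ?_⟩
      rcases hχ with e | e | e
      exacts [Or.inl e, Or.inr (Or.inl e),
        Or.inr (Or.inr (Or.inr (Or.inr ⟨1, le_rfl, by omega, e⟩)))]
    · simp only [Finset.mem_insert, Finset.mem_singleton, not_or] at hne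
      rcases (hmem χ).1 (Finset.mem_filter.1 hχ).2 with e | e | e | e | ⟨i, i1, i2, e⟩
      · exact absurd e hne.1
      · exact absurd e hne.2.1
      · rw [hEh a χ (fun l hl' => e ▸ (hv l hl').2.1), zero_mul]
      · rw [hEh b χ (fun l hl' => e ▸ (hv l hl').2.2.1), zero_mul]
      · rw [e, hEY i i1 i2, if_neg (fun h' => hne.2.2 (by rw [e, h']))]
        simp
  -- the other side
  set c : ℂ := (Nat.card (Subgroup.centralizer ({σ ^ h} : Set G)) : ℂ) with hc
  set n : ZMod (2 * h) → ℂ := fun i => ((S.above (τ * pw σ i)).card : ℂ) with hn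
  set K : ℂ := (Nat.card S.core : ℂ) with hK
  have hrhs : (Nat.card G : ℂ) * K *
      (∑ χ : IrrCharacter G, if χ ∈ Cfsg.principalBlock M G then E χ * W χ else 0) =
      c ^ 2 * ∑ d : ZMod (2 * h), (ψ d - 1) * ∑ i, n i * n (i + d) := by
    have e1 : ∀ χ : IrrCharacter G, (if χ ∈ Cfsg.principalBlock M G then E χ * W χ else 0) =
        ∑ d : ZMod (2 * h), (ψ d - 1) * (if χ ∈ Cfsg.principalBlock M G then
          conj ((χ : G → ℂ) (pw σ d)) * W χ else 0) := fun χ => by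
      split_ifs
      · simp only [hE, Finset.sum_mul, mul_assoc]
      · simp
    rw [Finset.sum_congr rfl fun χ _ => e1 χ, Finset.sum_comm, Finset.mul_sum, Finset.mul_sum]
    refine Finset.sum_congr rfl fun d _ => ?_
    rw [← Finset.mul_sum]
    by_cases hd : d = 0
    · simp [hd]
    · have e2 := S.section_count hM hτ hστ hd
      rw [show (((∑ i : ZMod (2 * h), (S.above (τ * pw σ i)).card *
        (S.above (τ * pw σ (i + d))).card : ℕ) : ℂ)) = ∑ i, n i * n (i + d) by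
          push_cast; rfl] at e2
      linear_combination (ψ d - 1) * e2
  have hper : ∀ i, n (i + 2) = n i := by
    intro i
    simp only [hn]
    congr 1
    refine (Finset.card_bij' (fun u _ => pw σ (-1 : ZMod (2 * h)) * u * (pw σ (-1 : ZMod (2 * h)))⁻¹)
      (fun u _ => (pw σ (-1 : ZMod (2 * h)))⁻¹ * u * pw σ (-1 : ZMod (2 * h))) ?_ ?_ ?_ ?_).symm
    · intro u hu
      rw [S.mem_above] at hu ⊢
      have hpC := S.P_le_C (S.pw_mem (-1))
      refine ⟨mul_mem (mul_mem hpC hu.1) (inv_mem hpC), by rw [conj_mul, hu.2.1]; group, ?_⟩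
      rw [S.pr_mul (mul_mem hpC hu.1) (inv_mem hpC), S.pr_mul hpC hu.1, S.pr_inv hpC,
        S.pr_of_mem (S.pw_mem _), hu.2.2, S.conj_refl, mul_one]
    · intro u hu
      rw [S.mem_above] at hu ⊢
      have hpC := S.P_le_C (S.pw_mem (-1))
      refine ⟨mul_mem (mul_mem (inv_mem hpC) hu.1) hpC, ?_, ?_⟩
      · rw [show (pw σ (-1 : ZMod (2 * h)))⁻¹ * u * pw σ (-1 : ZMod (2 * h)) * ((pw σ (-1 : ZMod (2 * h)))⁻¹ * u * pw σ (-1 : ZMod (2 * h))) =
          (pw σ (-1 : ZMod (2 * h)))⁻¹ * (u * u) * pw σ (-1 : ZMod (2 * h)) by group, hu.2.1]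
        group
      · rw [S.pr_mul (mul_mem (inv_mem hpC) hu.1) hpC, S.pr_mul (inv_mem hpC) hu.1, S.pr_inv hpC,
          S.pr_of_mem (S.pw_mem _), hu.2.2]
        have e := S.conj_refl i 1
        rw [mul_one] at e
        rw [← e]
        group
    · intro u _; group
    · intro u _; group
  set N := ∑ i, n i with hN
  have hψ2 : ψ 2 ≠ 1 := by
    rw [show (2 : ZMod (2 * h)) = ((2 : ℕ) : ZMod (2 * h)) by norm_num, hψdef,
      AddChar.zmodChar_apply']
    exact hζ.pow_ne_one_of_pos_of_lt two_ne_zero (by omega)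
  have hR : (∑ d : ZMod (2 * h), (ψ d - 1) * ∑ i, n i * n (i + d)) = -N ^ 2 := by
    simp only [Finset.mul_sum]
    rw [Finset.sum_comm]
    have e1 : ∀ i : ZMod (2 * h), ∑ d, (ψ d - 1) * (n i * n (i + d)) = -(n i * N) := by
      intro i
      set T := ∑ d, ψ d * n (i + d) with hT
      have hT0 : T = 0 := by
        have e : T = ψ 2 * T := by
          rw [hT, Finset.mul_sum]
          refine (Fintype.sum_equiv (Equiv.addRight (2 : ZMod (2 * h))) _ _ fun d => ?_).symm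
          simp only [Equiv.coe_addRight, AddChar.map_add_eq_mul, ← add_assoc, hper]
          ring
        have : (ψ 2 - 1) * T = 0 := by linear_combination -e
        exact (mul_eq_zero.1 this).resolve_left (sub_ne_zero.2 hψ2)
      have hN' : ∑ d, n (i + d) = N := Fintype.sum_equiv (Equiv.addLeft i) _ _ fun d => rfl
      calc ∑ d, (ψ d - 1) * (n i * n (i + d)) = n i * T - n i * ∑ d, n (i + d) := by
            rw [hT, Finset.mul_sum, Finset.mul_sum, ← Finset.sum_sub_distrib]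
            exact Finset.sum_congr rfl fun d _ => by ring
        _ = _ := by rw [hT0, hN']; ring
    simp only [e1, Finset.sum_neg_distrib, ← Finset.sum_mul, ← hN]
    ring
  -- `N = h (n 0 + n (-1))`
  have hNeq : N = h * (n 0 + n (-1)) := by
    have hper1 : ∀ i, n i + n (i + 1) = n 0 + n 1 := by
      intro i
      rw [← ZMod.natCast_zmod_val i]
      induction i.val with
      | zero => simp
      | succ k ih =>
        rw [← ih]
        push_cast
        rw [add_assoc (k : ZMod (2 * h)) 1 1, one_add_one_eq_two, hper]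
        ring
    have e : ∑ i, (n i + n (i + 1)) = N + N := by
      rw [Finset.sum_add_distrib]
      congr 1
      exact Fintype.sum_equiv (Equiv.addRight (1 : ZMod (2 * h))) _ _ fun d => rfl
    simp only [hper1, Finset.sum_const, Finset.card_univ, ZMod.card, nsmul_eq_mul] at e
    have : n (-1) = n 1 := by
      rw [← hper (-1)]
      congr 1
      ring
    rw [this]
    push_cast at e
    linear_combination -e / 2
  have hcard : ∀ i : ZMod (2 * h),
      (Nat.card (Subgroup.centralizer ({σ ^ h, τ * pw σ i} : Set G)) : ℂ) * n i = 4 * K := by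
    intro i
    rw [hn, hK, S.card_pair_centralizer (S.refl_mem i), S.card_P_refl i,
      ← S.card_above_mul (S.refl_mem i) (S.refl_sq i)]
    push_cast
    ring
  have ht0 := hcard 0
  rw [S.pw_eq_one.2 rfl, mul_one] at ht0
  have hσ : σ * τ = τ * pw σ (-1 : ZMod (2 * h)) := by
    rw [S.pw_neg, ← Nat.cast_one, S.pw_natCast, pow_one, ← S.rel,
      Small.inv_eq_self_of_orderOf_two S.ordτ]
    simp [← mul_assoc, Small.mul_self_of_orderOf_two S.ordτ]
  have ht1 := hcard (-1)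
  rw [← hσ] at ht1
  set cτ : ℂ := (Nat.card (Subgroup.centralizer ({σ ^ h, τ} : Set G)) : ℂ) with hcτ
  set cστ : ℂ := (Nat.card (Subgroup.centralizer ({σ ^ h, σ * τ} : Set G)) : ℂ) with hcστ
  have hcτ0 : cτ ≠ 0 := Nat.cast_ne_zero.2 Nat.card_pos.ne'
  have hcστ0 : cστ ≠ 0 := Nat.cast_ne_zero.2 Nat.card_pos.ne'
  have hK0 : K ≠ 0 := Nat.cast_ne_zero.2 Nat.card_pos.ne'
  have hcK : c = 4 * h * K := by
    have e := S.card_centralizer S.J_ne
    rw [S.card_P_centralizer S.J_ne, if_pos S.J_sq, inf_eq_left.2 S.core_le] at e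
    rw [hc, e, hK]
    push_cast
    ring
  rw [hlhs, hR, hNeq] at hrhs
  have hn0 : n 0 = 4 * K / cτ := by rw [eq_div_iff hcτ0, ← ht0]; ring
  have hn1 : n (-1) = 4 * K / cστ := by rw [eq_div_iff hcστ0, ← ht1]; ring
  rw [hn0, hn1, hm] at hrhs
  push_cast at hrhs
  have hh0 : (h : ℂ) ≠ 0 := Nat.cast_ne_zero.2 (by omega)
  have key : (Nat.card G : ℂ) * (x - δ) ^ 2 =
      2 * x * y * c ^ 3 * (1 / cτ + 1 / cστ) ^ 2 := by
    have e : (-1 - (δ : ℂ) / x + (δ : ℂ) * (4 / y)) * (x * y) = -(x - δ) ^ 2 := by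
      field_simp
      rw [hyx]
      ring
    apply mul_left_cancel₀ (mul_ne_zero (mul_ne_zero two_ne_zero hh0) hK0)
    calc 2 * (h : ℂ) * K * ((Nat.card G : ℂ) * (x - δ) ^ 2)
        = -((Nat.card G : ℂ) * K * (2 * h * (-1 - (δ : ℂ) / x + (δ : ℂ) * (4 / y)))) * (x * y) := by
          linear_combination (2 * (h : ℂ) * K * (Nat.card G : ℂ)) * e
      _ = c ^ 2 * (h * (4 * K / cτ + 4 * K / cστ)) ^ 2 * (x * y) := by rw [hrhs]; ring
      _ = _ := by rw [hcK]; ring
  rw [hδe]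
  refine ⟨fun e => ?_, by rw [← hyx]; exact key⟩
  rw [e, sub_self, zero_pow two_ne_zero, mul_zero] at key
  have hsum : (1 / cτ + 1 / cστ) ≠ 0 := by
    have e1 : 1 / cτ + 1 / cστ =
        ((Nat.card (Subgroup.centralizer ({σ ^ h, σ * τ} : Set G)) +
          Nat.card (Subgroup.centralizer ({σ ^ h, τ} : Set G)) : ℕ) : ℂ) / (cτ * cστ) := by
      push_cast
      field_simp
      rw [hcτ, hcστ]
    rw [e1]
    exact div_ne_zero (Nat.cast_ne_zero.2 (Nat.add_pos_left Nat.card_pos _).ne')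
      (mul_ne_zero hcτ0 hcστ0)
  have hc0 : c ≠ 0 := Nat.cast_ne_zero.2 Nat.card_pos.ne'
  rw [← e] at key
  exact (mul_ne_zero (mul_ne_zero (mul_ne_zero (mul_ne_zero two_ne_zero hx0) hy0)
    (pow_ne_zero 3 hc0)) (pow_ne_zero 2 hsum)) key.symm

end Setup

end CfsgLib.Inv54.DihedralBlock
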