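import Cfsg.Agent.Inv54.CocycleTransfer
import Cfsg.Agent.Inv54.Core
import Cfsg.Agent.ExtraspecialBasic.DoubleCentralizer
import Cfsg.Agent.PLocal.Cores
import Cfsg.Prelude.Def_Solvable

/-!
# Transfer from the centralizer of an involution with a large extraspecial 2-core
-/

set_option autoImplicit false

namespace CfsgLib.Inv54

variable {G : Type*} [Group G]

/-- `E = O₂(C(z))` is extraspecial and contains its centralizer. -/
structure LargeSetup (z : G) (E : Subgroup G) : Prop where
  ord : orderOf z = 2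
  le : E ≤ Subgroup.centralizer ({z} : Set G)
  memE : z ∈ E
  pgroup : IsPGroup 2 E
  extra : Cfsg.IsExtraspecial 2 E
  normal : ∀ h ∈ Subgroup.centralizer ({z} : Set G), h ∈ Subgroup.normalizer (E : Set G)
  center : ∀ c : G, (∀ e ∈ E, c * e = e * c) → c = 1 ∨ c = z
  max : ∀ N : Subgroup (Subgroup.centralizer ({z} : Set G)), N.Normal → IsPGroup 2 N →
    N.map (Subgroup.centralizer ({z} : Set G)).subtype ≤ E
  cent : Subgroup.centralizer (E : Set G) ≤ E

variable {z : G} {E : Subgroup G}

theorem LargeSetup.of_pCore [Finite G] (hz : orderOf z = 2)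
    (hE : E = (Cfsg.pCore 2 ↥(Subgroup.centralizer ({z} : Set G))).map
      (Subgroup.centralizer ({z} : Set G)).subtype)
    (hext : Cfsg.IsExtraspecial 2 ↥E) (hcent : Subgroup.centralizer (E : Set G) ≤ E) :
    LargeSetup z E := by
  have := Fact.mk Nat.prime_two
  have hle : E ≤ Subgroup.centralizer ({z} : Set G) := hE ▸ Subgroup.map_subtype_le _
  have hzE : z ∈ E := hcent (Subgroup.mem_centralizer_iff.mpr fun e he =>
    (Subgroup.mem_centralizer_singleton_iff.mp (hle he)))
  refine ⟨hz, hle, hzE, hext.1.1, hext, fun h hh => ?_, fun c hc => ?_,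
    fun N hN hN2 => hE ▸ Subgroup.map_mono (le_sSup ⟨hN, hN2⟩), hcent⟩
  · rw [Subgroup.mem_normalizer_iff]
    intro y
    rw [hE]
    constructor
    · rintro ⟨n, hn, rfl⟩
      exact ⟨⟨h, hh⟩ * n * ⟨h, hh⟩⁻¹,
        (inferInstance : (Cfsg.pCore 2 ↥(Subgroup.centralizer ({z} : Set G))).Normal).conj_mem n hn _, rfl⟩
    · rintro ⟨n, hn, hny⟩
      refine ⟨⟨h, hh⟩⁻¹ * n * ⟨h, hh⟩, ?_, ?_⟩
      · simpa using
          (inferInstance : (Cfsg.pCore 2 ↥(Subgroup.centralizer ({z} : Set G))).Normal).conj_mem n hn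
            (⟨h, hh⟩⁻¹ : Subgroup.centralizer ({z} : Set G))
      · rw [map_mul, map_mul, map_inv, hny]
        simp only [Subgroup.coe_subtype]
        group
  · have hcE : c ∈ E := hcent (Subgroup.mem_centralizer_iff.mpr fun e he => (hc e he).symm)
    have hcZ : (⟨c, hcE⟩ : E) ∈ Subgroup.center E :=
      Subgroup.mem_center_iff.mpr fun e => Subtype.ext (hc e e.2).symm
    have hzZ : (⟨z, hzE⟩ : E) ∈ Subgroup.center E :=
      Subgroup.mem_center_iff.mpr fun e => Subtype.ext
        (Subgroup.mem_centralizer_singleton_iff.mp (hle e.2))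
    obtain ⟨y, hy, huniq⟩ := (Nat.card_eq_two_iff' (1 : Subgroup.center E)).mp hext.2
    rcases eq_or_ne c 1 with h | h
    · exact Or.inl h
    have h1 := huniq ⟨_, hcZ⟩ (fun e => h (congrArg (fun w : Subgroup.center E => ((w : E) : G)) e))
    have h2 := huniq ⟨_, hzZ⟩ (fun e => by
      have : z = 1 := congrArg (fun w : Subgroup.center E => ((w : E) : G)) e
      rw [this, orderOf_one] at hz
      omega)
    exact Or.inr (congrArg (fun w : Subgroup.center E => ((w : E) : G)) (h1.trans h2.symm))

theorem LargeSetup.mul_self (hs : LargeSetup z E) : z * z = 1 := by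
  rw [← sq, ← hs.ord, pow_orderOf_eq_one]

theorem LargeSetup.ne_one (hs : LargeSetup z E) : z ≠ 1 := fun h => by
  have := hs.ord
  rw [h, orderOf_one] at this
  omega

theorem LargeSetup.comm (hs : LargeSetup z E) : ∀ a ∈ E, z * a = a * z := fun _ ha =>
  (Subgroup.mem_centralizer_singleton_iff.mp (hs.le ha)).symm

theorem LargeSetup.eq_of_mem_center (hs : LargeSetup z E) {c : E} (hc : c ∈ Subgroup.center E) :
    (c : G) = 1 ∨ (c : G) = z :=
  hs.center c fun e he => (congrArg Subtype.val (Subgroup.mem_center_iff.mp hc ⟨e, he⟩)).symm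

theorem LargeSetup.sq [Finite G] (hs : LargeSetup z E) : ∀ a ∈ E, a * a = 1 ∨ a * a = z := by
  intro a ha
  have := Fact.mk Nat.prime_two
  have h := hs.eq_of_mem_center (CfsgLib.ExtraspecialBasic.pow_mem_center hs.extra ⟨a, ha⟩)
  simpa [pow_two] using h

open scoped commutatorElement in
theorem LargeSetup.commutator (hs : LargeSetup z E) :
    ∀ a ∈ E, ∀ b ∈ E, a * b * a⁻¹ * b⁻¹ = 1 ∨ a * b * a⁻¹ * b⁻¹ = z := by
  intro a ha b hb
  have h := hs.eq_of_mem_center
    (CfsgLib.ExtraspecialBasic.commutator_mem_center hs.extra ⟨a, ha⟩ ⟨b, hb⟩)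
  simpa [commutatorElement_def] using h

/-- An abelian subgroup of `E` is small. -/
theorem LargeSetup.card_sq_le [Finite G] (hs : LargeSetup z E) {D : Subgroup G} (hD : D ≤ E)
    (hc : ∀ a ∈ D, ∀ b ∈ D, a * b = b * a) : Nat.card D * Nat.card D ≤ 2 * Nat.card E := by
  have := Fact.mk Nat.prime_two
  set D' := D.subgroupOf E with hD'
  set K := Subgroup.center E ⊔ D' with hK
  have hDD : D' ≤ Subgroup.centralizer (D' : Set E) := fun a ha =>
    Subgroup.mem_centralizer_iff.mpr fun b hb => Subtype.ext (hc _ hb _ ha)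
  have hKD : K ≤ Subgroup.centralizer (D' : Set E) :=
    sup_le (Subgroup.center_le_centralizer _) hDD
  have hKK : K ≤ Subgroup.centralizer (K : Set E) :=
    sup_le (Subgroup.center_le_centralizer _) (Subgroup.le_centralizer_iff.mp hKD)
  have h1 := CfsgLib.ExtraspecialBasic.card_centralizer_mul_card hs.extra
    (le_sup_left : Subgroup.center E ≤ K)
  have h2 : Nat.card D ≤ Nat.card K := by
    rw [← Nat.card_congr (Subgroup.subgroupOfEquivOfLe hD).toEquiv]
    exact Subgroup.card_le_of_le le_sup_right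
  have h3 := Subgroup.card_le_of_le hKK
  calc Nat.card D * Nat.card D ≤ Nat.card K * Nat.card K := Nat.mul_le_mul h2 h2
    _ ≤ Nat.card (Subgroup.centralizer (K : Set E)) * Nat.card K := Nat.mul_le_mul_right _ h3
    _ = 2 * Nat.card E := by rw [h1, mul_comm]

section Orbits

variable {Ω : Type*} [MulAction G Ω] [Fintype Ω]

theorem card_orb_mul_card [Finite G] (E : Subgroup G) (q : Ω) :
    (orb E q).card * Nat.card (E ⊓ MulAction.stabilizer G q : Subgroup G) = Nat.card E := by
  have h1 : (MulAction.stabilizer E q).index = (orb E q).card := by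
    rw [MulAction.index_stabilizer, card_orb]
    rfl
  have h2 : Nat.card (E ⊓ MulAction.stabilizer G q : Subgroup G) =
      Nat.card (MulAction.stabilizer E q) :=
    Nat.card_congr
      { toFun := fun a => ⟨⟨a, a.2.1⟩, a.2.2⟩
        invFun := fun a => ⟨a.1, a.1.2, a.2⟩
        left_inv := fun _ => rfl
        right_inv := fun _ => rfl }
  rw [← h1, h2, mul_comm, Subgroup.card_mul_index]

/-- A small orbit has a nonabelian stabiliser. -/
theorem LargeSetup.exists_not_commute [Finite G] (hs : LargeSetup z E) {q : Ω}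
    (h : 2 * ((orb E q).card * (orb E q).card) < Nat.card E) :
    ∃ a ∈ E, ∃ b ∈ E, a • q = q ∧ b • q = q ∧ a * b ≠ b * a := by
  by_contra! hno
  have h1 := hs.card_sq_le (D := E ⊓ MulAction.stabilizer G q) inf_le_left
    fun a ha b hb => hno a ha.1 b hb.1 ha.2 hb.2
  have h2 := card_orb_mul_card E q
  have hpos : 0 < Nat.card E := Nat.card_pos
  generalize Nat.card (E ⊓ MulAction.stabilizer G q : Subgroup G) = d at h1 h2
  generalize (orb E q).card = k at h h2
  generalize Nat.card E = N at h h1 h2 hpos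
  nlinarith [Nat.mul_le_mul_left (k * k) h1]

/-- The value at `z` of a cocycle at a point with nonabelian stabiliser. -/
theorem LargeSetup.smul_and_cocycle {A : Type*} [CommGroup A] (hs : LargeSetup z E) {q : Ω}
    {a b : G} (ha : a ∈ E) (hb : b ∈ E) (haq : a • q = q) (hbq : b • q = q)
    (hab : a * b ≠ b * a) :
    z • q = q ∧ ∀ c : G → Ω → A, IsCocycle c → c z q = 1 := by
  have h : a * b = z * (b * a) := by
    rcases hs.commutator a ha b hb with h | h
    · exact absurd (by
        rw [mul_inv_eq_one, mul_inv_eq_iff_eq_mul] at h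
        exact h) hab
    · rw [← h]; group
  have hba : (b * a) • q = q := by rw [mul_smul, haq, hbq]
  have hzq : z • q = q := by
    have h1 : (a * b) • q = q := by rw [mul_smul, hbq, haq]
    rw [h, mul_smul, hba] at h1
    exact h1
  refine ⟨hzq, fun c hc => ?_⟩
  have h1 : c (a * b) q = c z q * c (b * a) q := by rw [h, hc, hba]
  rw [hc a b q, hc b a q, haq, hbq, mul_comm (c b q)] at h1
  exact right_eq_mul.mp h1

end Orbits

/-- An element of `C(z)` centralising `E / ⟨z⟩` lies in `E`. -/
theorem LargeSetup.mem_of_centralizes_quotient [Finite G] (hs : LargeSetup z E) {h : G}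
    (hh : h ∈ Subgroup.centralizer ({z} : Set G))
    (hc : ∀ e ∈ E, e⁻¹ * (h * e * h⁻¹) = 1 ∨ e⁻¹ * (h * e * h⁻¹) = z) : h ∈ E := by
  let N : Subgroup (Subgroup.centralizer ({z} : Set G)) :=
    { carrier := {g | ∀ e ∈ E, e⁻¹ * ((g : G) * e * (g : G)⁻¹) ∈ Subgroup.zpowers z}
      one_mem' := fun e _ => by simp [one_mem]
      mul_mem' := fun {a b} ha hb e he => by
        have hbe : (b : G) * e * (b : G)⁻¹ ∈ E :=
          (Subgroup.mem_normalizer_iff.mp (hs.normal b b.2) e).mp he
        have h1 := mul_mem (hb e he) (ha _ hbe)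
        simpa [mul_assoc] using h1
      inv_mem' := fun {a} ha e he => by
        have hae : (a : G)⁻¹ * e * (a : G) ∈ E := by
          have := (Subgroup.mem_normalizer_iff.mp (hs.normal _ (a⁻¹).2) e).mp he
          simpa using this
        have h1 := inv_mem (ha _ hae)
        simpa [mul_assoc] using h1 }
  have hz2 := hs.mul_self
  have hpow : ∀ w ∈ Subgroup.zpowers z, ∀ g ∈ Subgroup.centralizer ({z} : Set G),
      g * w * g⁻¹ = w := by
    intro w hw g hg
    obtain ⟨i, rfl⟩ := Subgroup.mem_zpowers_iff.mp hw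
    have h1 : Commute g z := Subgroup.mem_centralizer_singleton_iff.mp hg
    rw [(h1.zpow_right i).eq, mul_inv_cancel_right]
  have hNn : N.Normal := ⟨fun n hn g e he => by
    have hge : (g : G)⁻¹ * e * (g : G) ∈ E := by
      have := (Subgroup.mem_normalizer_iff.mp (hs.normal _ (g⁻¹).2) e).mp he
      simpa using this
    have h1 := hn _ hge
    have h2 := hpow _ h1 (g : G) g.2
    rw [← h2] at h1
    simpa [mul_assoc] using h1⟩
  have hN2 : IsPGroup 2 N := by
    refine isPGroup_two_of_forall_odd fun d hd => ?_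
    rw [← Subgroup.orderOf_coe, ← Subgroup.orderOf_coe] at hd
    have hzp : IsPGroup 2 (Subgroup.zpowers z) :=
      IsPGroup.of_card (n := 1) (by rw [Nat.card_zpowers, hs.ord, pow_one])
    have hdE : ((d : Subgroup.centralizer ({z} : Set G)) : G) ∈ E :=
      hs.cent (Subgroup.mem_centralizer_iff.mpr fun e he =>
        (commute_of_stabilizes_chain hzp hd (fun w hw => by
          have h3 := hpow w hw _ (d : Subgroup.centralizer ({z} : Set G)).2
          rwa [mul_inv_eq_iff_eq_mul] at h3) (d.2 e he)).symm)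
    obtain ⟨k, hk⟩ := hs.pgroup ⟨_, hdE⟩
    exact Subtype.ext (Subtype.ext (orderOf_eq_one_iff.mp (Nat.eq_one_of_dvd_coprimes
      ((Nat.coprime_two_left.mpr hd).pow_left k)
      (orderOf_dvd_of_pow_eq_one (congrArg Subtype.val hk)) dvd_rfl)))
  refine hs.max N hNn hN2 ⟨⟨h, hh⟩, fun e he => ?_, rfl⟩
  show e⁻¹ * (h * e * h⁻¹) ∈ Subgroup.zpowers z
  rcases hc e he with h1 | h1 <;> rw [h1]
  · exact one_mem _
  · exact Subgroup.mem_zpowers z

variable [Finite G] [Fintype (G ⧸ Subgroup.centralizer ({z} : Set G))] {A : Type*} [CommGroup A]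

theorem smul_base {g : G} (hg : g ∈ Subgroup.centralizer ({z} : Set G)) :
    g • ((1 : G) : G ⧸ Subgroup.centralizer ({z} : Set G)) = ((1 : G) : G ⧸ _) := by
  rw [MulAction.Quotient.smul_mk, QuotientGroup.eq]
  simpa using inv_mem hg

theorem transferCocycle_base (φ : Subgroup.centralizer ({z} : Set G) →* A)
    (g : Subgroup.centralizer ({z} : Set G)) :
    transferCocycle φ (g : G) ((1 : G) : G ⧸ Subgroup.centralizer ({z} : Set G)) = φ g := by
  have ha : ((1 : G) : G ⧸ Subgroup.centralizer ({z} : Set G)).out ∈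
      Subgroup.centralizer ({z} : Set G) := by
    have := QuotientGroup.eq.mp (QuotientGroup.out_eq'
      ((1 : G) : G ⧸ Subgroup.centralizer ({z} : Set G))).symm
    simpa using this
  rw [transferCocycle_of_fix φ (smul_base g.2) (mul_mem (mul_mem (inv_mem ha) g.2) ha)]
  show φ (⟨_, ha⟩⁻¹ * g * ⟨_, ha⟩) = φ g
  rw [map_mul, map_mul, map_inv, mul_comm (φ ⟨_, ha⟩)⁻¹, inv_mul_cancel_right]

/-- The only point fixed by `E` is the base point. -/
theorem LargeSetup.eq_base_of_fix (hs : LargeSetup z E)
    {q : G ⧸ Subgroup.centralizer ({z} : Set G)} (h : ∀ e ∈ E, e • q = q) :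
    q = ((1 : G) : G ⧸ Subgroup.centralizer ({z} : Set G)) := by
  set g := q.out with hg
  have h1 : ∀ e ∈ E, g * z * g⁻¹ * e = e * (g * z * g⁻¹) := by
    intro e he
    have h2 := Subgroup.mem_centralizer_singleton_iff.mp (out_conj_mem_of_fix (h e he))
    calc g * z * g⁻¹ * e = g * (z * (g⁻¹ * e * g)) * g⁻¹ := by group
      _ = g * ((g⁻¹ * e * g) * z) * g⁻¹ := by rw [h2]
      _ = e * (g * z * g⁻¹) := by group
  rcases hs.center _ h1 with h3 | h3
  · exact absurd (conj_eq_one_iff.mp h3) hs.ne_one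
  · rw [← QuotientGroup.out_eq' q, QuotientGroup.eq]
    simp only [mul_one, inv_mem_iff]
    exact Subgroup.mem_centralizer_singleton_iff.mpr (mul_inv_eq_iff_eq_mul.mp h3)

open Classical in
theorem setStab_others :
    ∀ g ∈ Subgroup.centralizer ({z} : Set G), g ∈ setStab (Finset.univ.erase
      ((1 : G) : G ⧸ Subgroup.centralizer ({z} : Set G))) := by
  intro g hg p
  simp only [Finset.mem_erase, Finset.mem_univ, and_true, ne_eq, not_iff_not]
  constructor
  · intro h
    exact MulAction.injective g (h.trans (smul_base hg).symm)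
  · intro h
    rw [h, smul_base hg]

/-- A homomorphism into a group of exponent 2 kills the 2-elements of `C(z)` when the small orbits
are harmless. -/
theorem LargeSetup.apply_eq_one (hs : LargeSetup z E) (hres : Cfsg.pResidual 2 G = ⊤)
    (φ : Subgroup.centralizer ({z} : Set G) →* A) (hA : ∀ a : A, a * a = 1)
    (x : Subgroup.centralizer ({z} : Set G)) (hx : IsPGroup 2 (Subgroup.zpowers (x : G)))
    (h8 : ∀ q : G ⧸ Subgroup.centralizer ({z} : Set G), z • q = q →
      transferCocycle φ z q ≠ 1 → 8 ≤ (orb E q).card)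
    (h2 : ∀ q : G ⧸ Subgroup.centralizer ({z} : Set G),
      q ≠ ((1 : G) : G ⧸ Subgroup.centralizer ({z} : Set G)) → (orb E q).card = 2 →
      ∀ e ∈ E, e • q = q → transferCocycle φ e q = 1) : φ x = 1 := by
  classical
  have h1 := prod_transferCocycle_eq_one φ hA hres (x : G)
  rw [← Finset.mul_prod_erase _ _ (Finset.mem_univ ((1 : G) : G ⧸ Subgroup.centralizer ({z} : Set G))),
    transferCocycle_base φ x] at h1
  rwa [prod_eq_one_of_normalizing (isCocycle_transferCocycle φ) hA hs.mul_self hs.pgroup hs.comm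
    hs.sq hs.commutator _ _ hx (hs.normal _ x.2) (fun e he => setStab_others e (hs.le he))
    (setStab_others _ x.2) (fun q hq => by
      by_contra! h
      exact (Finset.mem_erase.mp hq).1 (hs.eq_base_of_fix h))
    (fun q _ => h8 q) (fun q hq => h2 q (Finset.mem_erase.mp hq).1), mul_one] at h1

/-- A homomorphism into a group of exponent 2 kills `E` when the small orbits are harmless. -/
theorem LargeSetup.apply_eq_one_of_mem (hs : LargeSetup z E) (hres : Cfsg.pResidual 2 G = ⊤)
    (φ : Subgroup.centralizer ({z} : Set G) →* A) (hA : ∀ a : A, a * a = 1)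
    (x : Subgroup.centralizer ({z} : Set G)) (hx : (x : G) ∈ E)
    (h4 : ∀ q : G ⧸ Subgroup.centralizer ({z} : Set G), z • q = q →
      transferCocycle φ z q ≠ 1 → 4 ≤ (orb E q).card) : φ x = 1 := by
  classical
  have h1 := prod_transferCocycle_eq_one φ hA hres (x : G)
  rw [← Finset.mul_prod_erase _ _ (Finset.mem_univ ((1 : G) : G ⧸ Subgroup.centralizer ({z} : Set G))),
    transferCocycle_base φ x] at h1
  rwa [prod_eq_one_of_mem (isCocycle_transferCocycle φ) hA hs.mul_self hs.pgroup hs.comm
    hs.sq hs.commutator (fun e he => setStab_others e (hs.le he)) (fun q hq => by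
      by_contra! h
      exact (Finset.mem_erase.mp hq).1 (hs.eq_base_of_fix h))
    (fun q _ => h4 q) _ hx, mul_one] at h1

end CfsgLib.Inv54
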