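import Mathlib.GroupTheory.SpecificGroups.Dihedral
import Cfsg.Agent.Inv54.CentralizerFour
import Cfsg.Agent.ZStar.Theorem
import Cfsg.Agent.BSW.Theorem
import Cfsg.Agent.Small.Dihedral
import Cfsg.Agent.PLocal.Cores
import Cfsg.Agent.S3278
import Cfsg.Agent.S0497
import Cfsg.Agent.GLFourTwo.Iso168

/-!
# An involution with centraliser dihedral of order 8

* `four`: a group in which an involution has a four-group as centraliser and is conjugate to the
  other involutions is `A₄` or `A₅`.
* `trichotomy`: if `C(z)` is dihedral of order 8 then `G = C(z) O(G)`, or `G` is `S₄` or `S₅`, or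
  `G` is simple of order 168 or 360.
-/

set_option autoImplicit false
set_option linter.style.haveILetI false
set_option linter.unusedSectionVars false

namespace CfsgLib.Inv54.DihedralEight

universe u

variable {G : Type u} [Group G] [Finite G]

theorem mul_self_of {u : G} (hu : orderOf u = 2) : u * u = 1 := by
  rw [← pow_two, ← hu, pow_orderOf_eq_one]

/-- An involution fixing no nontrivial element of a normal subgroup of odd order inverts it. -/
theorem inverts_of_fpf (N : Subgroup G) [N.Normal] (hN : Odd (Nat.card N)) {u : G}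
    (hu : u * u = 1) (hfix : ∀ n ∈ N, u * n = n * u → n = 1) :
    ∀ n ∈ N, u * n * u = n⁻¹ := by
  have hui : u⁻¹ = u := inv_eq_of_mul_eq_one_left hu
  have hmem : ∀ n ∈ N, u * n * u ∈ N := fun n hn => by
    have := (inferInstance : N.Normal).conj_mem n hn u
    rwa [hui] at this
  let f : N → N := fun n => ⟨(n : G)⁻¹ * (u * n * u), N.mul_mem (N.inv_mem n.2) (hmem n n.2)⟩
  have hinj : Function.Injective f := by
    intro a b h
    have h' : (a : G)⁻¹ * (u * a * u) = (b : G)⁻¹ * (u * b * u) := congrArg Subtype.val h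
    have hc : u * ((b : G) * (a : G)⁻¹) = (b : G) * (a : G)⁻¹ * u := by
      have e : (b : G) * (a : G)⁻¹ * (u * a * u) = u * b * u := by
        rw [mul_assoc, h', ← mul_assoc (b : G), mul_inv_cancel, one_mul]
      calc u * ((b : G) * (a : G)⁻¹) = u * b * u * (u⁻¹ * (a : G)⁻¹) := by group
        _ = (b : G) * (a : G)⁻¹ * (u * a * u) * (u⁻¹ * (a : G)⁻¹) := by rw [e]
        _ = (b : G) * (a : G)⁻¹ * u := by group
    exact Subtype.ext (inv_mul_eq_one.1 (by
      have := hfix _ (N.mul_mem b.2 (N.inv_mem a.2)) hc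
      rw [mul_inv_eq_one] at this
      rw [this, inv_mul_cancel]))
  intro n hn
  obtain ⟨⟨m, hm⟩, hmn⟩ := (Finite.surjective_of_injective hinj) ⟨n, hn⟩
  have e : m⁻¹ * (u * m * u) = n := congrArg Subtype.val hmn
  rw [← e, mul_inv_rev, inv_inv, mul_inv_rev, mul_inv_rev, hui]
  calc u * (m⁻¹ * (u * m * u)) * u = u * m⁻¹ * u * m * (u * u) := by group
    _ = u * (m⁻¹ * u) * m := by rw [hu, mul_one]; group

/-- Two commuting involutions and their product cannot all act fixed-point-freely on a nontrivial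
group of odd order. -/
theorem eq_bot_of_fpf (N : Subgroup G) [N.Normal] (hN : Odd (Nat.card N)) {a b : G}
    (ha : a * a = 1) (hb : b * b = 1) (hab : a * b = b * a)
    (h1 : ∀ n ∈ N, a * n = n * a → n = 1) (h2 : ∀ n ∈ N, b * n = n * b → n = 1)
    (h3 : ∀ n ∈ N, a * b * n = n * (a * b) → n = 1) : N = ⊥ := by
  refine (Subgroup.eq_bot_iff_forall N).2 fun n hn => h3 n hn ?_
  have hb' := inverts_of_fpf N hN hb h2 n hn
  have ha' := inverts_of_fpf N hN ha h1 n⁻¹ (N.inv_mem hn)
  rw [inv_inv] at ha'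
  calc a * b * n = a * (b * n * b) * b := by
        rw [show a * (b * n * b) * b = a * b * n * (b * b) by group, hb, mul_one]
    _ = a * n⁻¹ * a * (a * b) := by
        rw [hb', show a * n⁻¹ * a * (a * b) = a * n⁻¹ * (a * a) * b by group, ha, mul_one]
    _ = n * (a * b) := by rw [ha']

theorem two_dvd_of_not_odd {n : ℕ} (h : ¬ Odd n) : 2 ∣ n :=
  even_iff_two_dvd.1 (Nat.not_odd_iff_even.1 h)

/-- A Klein four self-centralising centraliser of an involution whose involutions are fused. -/
theorem four (x : G) (hx : orderOf x = 2)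
    (hV4 : Nat.card (Subgroup.centralizer ({x} : Set G)) = 4)
    (hexp : ∀ v ∈ Subgroup.centralizer ({x} : Set G), v * v = 1)
    (hone : ∀ y : G, orderOf y = 2 → IsConj x y) :
    (∀ N : Subgroup G, N.Normal → Odd (Nat.card N) → N = ⊥) ∧
    Nat.card (Subgroup.normalizer (Subgroup.centralizer ({x} : Set G) : Set G)) = 12 ∧
    (((Subgroup.centralizer ({x} : Set G)).Normal ∧ Nat.card G = 12) ∨
      (IsSimpleGroup G ∧ Nonempty (G ≃* ↥(alternatingGroup (Fin 5))))) := by
  classical
  haveI : Fact (Nat.Prime 2) := ⟨Nat.prime_two⟩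
  set V := Subgroup.centralizer ({x} : Set G) with hVdef
  have hmem : ∀ {g : G}, g ∈ V ↔ g * x = x * g := Subgroup.mem_centralizer_singleton_iff
  have hcomm : ∀ a ∈ V, ∀ b ∈ V, a * b = b * a := fun a ha b hb => by
    calc a * b = a * ((a * b) * (a * b)) * b := by rw [hexp _ (V.mul_mem ha hb), mul_one]
      _ = a * a * (b * a) * (b * b) := by group
      _ = b * a := by rw [hexp a ha, hexp b hb, one_mul, mul_one]
  have hcentv : ∀ v ∈ V, v ≠ 1 → Subgroup.centralizer ({v} : Set G) = V := by
    intro v hv hv1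
    have hvo : orderOf v = 2 := orderOf_eq_prime (by rw [pow_two]; exact hexp v hv) hv1
    obtain ⟨g, hg⟩ := isConj_iff.1 (hone v hvo)
    have hmap : Subgroup.centralizer ({v} : Set G) = V.map (MulAut.conj g).toMonoidHom := by
      ext w
      rw [Subgroup.mem_centralizer_singleton_iff]
      constructor
      · intro hw
        refine ⟨g⁻¹ * w * g, hmem.2 ?_, by simp [mul_assoc]⟩
        calc g⁻¹ * w * g * x = g⁻¹ * (w * (g * x * g⁻¹)) * g := by group
          _ = g⁻¹ * (v * w) * g := by rw [hg, hw]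
          _ = x * (g⁻¹ * w * g) := by rw [← hg]; group
      · rintro ⟨u, hu, rfl⟩
        have hu' := hmem.1 hu
        simp only [MulEquiv.coe_toMonoidHom, MulAut.conj_apply]
        rw [← hg]
        calc g * u * g⁻¹ * (g * x * g⁻¹) = g * (u * x) * g⁻¹ := by group
          _ = g * x * g⁻¹ * (g * u * g⁻¹) := by rw [hu']; group
    refine (Subgroup.eq_of_le_of_card_ge
      (fun w hw => Subgroup.mem_centralizer_singleton_iff.2 (hcomm w hw v hv)) ?_).symm
    rw [hmap, Subgroup.card_map_of_injective (MulAut.conj g).injective]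
  have hxV : x ∈ V := hmem.2 rfl
  have hx1 : x ≠ 1 := CfsgLib.Small.ne_one_of_orderOf_two hx
  -- a second involution
  obtain ⟨y, hyV, hy1, hyx⟩ : ∃ y ∈ V, y ≠ 1 ∧ y ≠ x := by
    by_contra! h
    have h' : (V : Set G) ⊆ {1, x} := fun w hw => by
      by_cases e : w = 1
      · exact Or.inl e
      · exact Or.inr (h w hw e)
    have := (Set.ncard_le_ncard h' (Set.toFinite _)).trans (Set.ncard_insert_le _ _)
    rw [← Nat.card_coe_set_eq, SetLike.coe_sort_coe, hV4, Set.ncard_singleton] at this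
    omega
  have hxy1 : x * y ≠ 1 := fun h => hyx (by
    rw [eq_inv_of_mul_eq_one_right h, inv_eq_of_mul_eq_one_left (hexp x hxV)])
  have hfix : ∀ v ∈ V, v ≠ 1 → ∀ N : Subgroup G, Odd (Nat.card N) → ∀ n ∈ N,
      v * n = n * v → n = 1 := by
    intro v hv hv1 N hN n hn hvn
    have hnV : n ∈ V := hcentv v hv hv1 ▸ Subgroup.mem_centralizer_singleton_iff.2 hvn.symm
    by_contra hn1
    have h2 : orderOf n = 2 := orderOf_eq_prime (by rw [pow_two]; exact hexp n hnV) hn1
    exact hN.not_two_dvd_nat (h2 ▸ N.orderOf_dvd_natCard hn)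
  have hodd : ∀ N : Subgroup G, N.Normal → Odd (Nat.card N) → N = ⊥ := fun N hN hNodd =>
    eq_bot_of_fpf N hNodd (hexp x hxV) (hexp y hyV) (hcomm x hxV y hyV)
      (hfix x hxV hx1 N hNodd) (hfix y hyV hy1 N hNodd)
      (hfix _ (V.mul_mem hxV hyV) hxy1 N hNodd)
  -- the normalizer
  set J := Subgroup.normalizer (V : Set G) with hJdef
  have hVJ : V ≤ J := Subgroup.le_normalizer
  have hJ : Nat.card J = 12 := by
    have h1 := CfsgLib.Small.card_conjugates_mul_card_centralizer (⟨x, hVJ hxV⟩ : J)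
    have hcl : Nat.card {g : J // IsConj (⟨x, hVJ hxV⟩ : J) g} = 3 := by
      have hsub : Nat.card {v : V // v ≠ 1} = 3 := by
        haveI := Fintype.ofFinite V
        have h := Nat.card_eq_fintype_card (α := {v : V // v ≠ 1})
        rw [Fintype.card_subtype_compl, Fintype.card_subtype_eq, ← Nat.card_eq_fintype_card, hV4] at h
        exact h
      rw [← hsub]
      symm
      have hcj : ∀ v : {v : V // v ≠ 1}, IsConj (⟨x, hVJ hxV⟩ : J) ⟨_, hVJ v.1.2⟩ := by
        intro v
        have hv1 : (v.1 : G) ≠ 1 := fun h => v.2 (Subtype.ext h)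
        obtain ⟨g, hg⟩ := isConj_iff.1 (hone (v.1 : G)
          (orderOf_eq_prime (by rw [pow_two]; exact hexp _ v.1.2) hv1))
        refine isConj_iff.2 ⟨⟨g, ?_⟩, Subtype.ext hg⟩
        rw [hJdef, Subgroup.mem_normalizer_iff]
        intro w
        constructor
        · intro hw
          rw [← hcentv _ v.1.2 hv1, Subgroup.mem_centralizer_singleton_iff, ← hg, conj_mul,
            conj_mul, hmem.1 hw]
        · intro hw
          rw [← hcentv _ v.1.2 hv1, Subgroup.mem_centralizer_singleton_iff, ← hg, conj_mul,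
            conj_mul] at hw
          exact hmem.2 (mul_left_cancel (mul_right_cancel hw))
      refine Nat.card_congr (Equiv.ofBijective (fun v => ⟨_, hcj v⟩) ⟨?_, ?_⟩)
      · intro v w h
        exact Subtype.ext (Subtype.ext
          (congrArg (fun t : {g : J // IsConj (⟨x, hVJ hxV⟩ : J) g} => (t.1 : G)) h))
      · rintro ⟨g, hg⟩
        obtain ⟨c, rfl⟩ := isConj_iff.1 hg
        have hmem' : (c : G) * x * (c : G)⁻¹ ∈ V := (Subgroup.mem_normalizer_iff.1 c.2 x).1 hxV
        exact ⟨⟨⟨_, hmem'⟩, fun h => hx1 (conj_eq_one_iff.1 (congrArg Subtype.val h))⟩, rfl⟩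
    have h3' : Nat.card (Subgroup.centralizer ({(⟨x, hVJ hxV⟩ : J)} : Set J)) = Nat.card V :=
      Nat.card_congr
        ⟨fun c => ⟨(c.1 : G), hmem.2
            (congrArg Subtype.val (Subgroup.mem_centralizer_singleton_iff.1 c.2))⟩,
          fun c => ⟨⟨c.1, hVJ c.2⟩,
            Subgroup.mem_centralizer_singleton_iff.2 (Subtype.ext (hmem.1 c.2))⟩,
          fun c => rfl, fun c => rfl⟩
    rw [hcl, h3', hV4] at h1
    exact h1.symm
  -- `V` is a Sylow 2-subgroup
  obtain ⟨P, hP⟩ := (IsPGroup.of_card (n := 2)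
    (show Nat.card V = 2 ^ 2 by rw [hV4]; norm_num)).exists_le_sylow
  have hPV : (P : Subgroup G) = V := by
    by_contra hne
    have hlt : V.subgroupOf P < ⊤ := lt_top_iff_ne_top.2 fun h =>
      hne (le_antisymm (Subgroup.subgroupOf_eq_top.1 h) hP)
    haveI : Group.IsNilpotent (P : Subgroup G) := P.isPGroup'.isNilpotent
    obtain ⟨n, hn, hnV⟩ := SetLike.exists_of_lt (Group.normalizerCondition_of_isNilpotent _ hlt)
    have hnJ : (n : G) ∈ J := by
      rw [hJdef, Subgroup.mem_normalizer_iff]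
      intro w
      rw [Subgroup.mem_normalizer_iff] at hn
      constructor
      · intro hw
        exact (hn ⟨w, hP hw⟩).1 hw
      · intro hw
        have hwP : w ∈ (P : Subgroup G) := by
          have := (P : Subgroup G).mul_mem ((P : Subgroup G).mul_mem
            ((P : Subgroup G).inv_mem n.2) (hP hw)) n.2
          simpa [mul_assoc] using this
        exact (hn ⟨w, hwP⟩).2 hw
    have hle : (V.subgroupOf P ⊔ Subgroup.zpowers n).map (P : Subgroup G).subtype ≤ J := by
      rw [Subgroup.map_sup, sup_le_iff]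
      refine ⟨(Subgroup.map_subgroupOf_eq_of_le hP).le.trans hVJ, ?_⟩
      rw [MonoidHom.map_zpowers, Subgroup.zpowers_le]
      exact hnJ
    have hd := Subgroup.card_dvd_of_le hle
    rw [hJ, Subgroup.card_map_of_injective (P : Subgroup G).subtype_injective] at hd
    obtain ⟨j, hj⟩ := (P.isPGroup'.to_subgroup (V.subgroupOf P ⊔ Subgroup.zpowers n)).exists_card_eq
    have hsub : V.subgroupOf P < V.subgroupOf P ⊔ Subgroup.zpowers n :=
      lt_of_le_of_ne le_sup_left fun h => hnV (h ▸ Subgroup.mem_sup_right (Subgroup.mem_zpowers n))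
    have hlt4 : 4 < 2 ^ j := by
      rw [← hj]
      by_contra hle4
      refine hsub.ne (Subgroup.eq_of_le_of_card_ge hsub.le ?_)
      rw [Nat.card_congr (Subgroup.subgroupOfEquivOfLe hP).toEquiv, hV4]
      omega
    have hj3 : 2 ^ 3 ∣ 2 ^ j := pow_dvd_pow 2 (by
      by_contra hj3
      have := Nat.pow_le_pow_right (show 0 < 2 by norm_num) (show j ≤ 2 by omega)
      omega)
    rw [hj] at hd
    have := hj3.trans hd
    norm_num at this
  refine ⟨hodd, hJ, ?_⟩
  by_cases hn : V.Normal
  · left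
    refine ⟨hn, ?_⟩
    have : J = ⊤ := Subgroup.normalizer_eq_top_iff.2 hn
    rw [this, Subgroup.card_top] at hJ
    exact hJ
  · right
    haveI : Nontrivial G := ⟨⟨x, 1, hx1⟩⟩
    have hsimple : IsSimpleGroup G := by
      refine ⟨fun N hN => ?_⟩
      by_contra hNn
      rw [not_or] at hNn
      obtain ⟨hNbot, hNtop⟩ := hNn
      have heven : 2 ∣ Nat.card N := two_dvd_of_not_odd fun h => hNbot (hodd N hN h)
      obtain ⟨u, hu⟩ := exists_prime_orderOf_dvd_card' 2 heven
      have hVN : V ≤ N := by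
        have hall : ∀ w : G, orderOf w = 2 → w ∈ N := by
          intro w hw
          have huo : orderOf (u : G) = 2 := by rw [Subgroup.orderOf_coe, hu]
          obtain ⟨c, hc⟩ := isConj_iff.1 ((hone (u : G) huo).symm.trans (hone w hw))
          exact hc ▸ hN.conj_mem _ u.2 c
        intro v hv
        by_cases hv1 : v = 1
        · exact hv1 ▸ N.one_mem
        · exact hall v (orderOf_eq_prime (by rw [pow_two]; exact hexp v hv) hv1)
      have hPN : (P : Subgroup G) ≤ N := hPV ▸ hVN
      have hfr : Subgroup.normalizer ((P : Subgroup G) : Set G) ⊔ N = ⊤ :=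
        Sylow.normalizer_sup_eq_top' P hPN
      rw [hPV, ← hJdef] at hfr
      have hVJN : V ≤ J ⊓ N := le_inf hVJ hVN
      have hJN : J ⊓ N = V := by
        refine (Subgroup.eq_of_le_of_card_ge hVJN ?_).symm
        have hd : Nat.card (J ⊓ N : Subgroup G) ∣ 12 := hJ ▸ Subgroup.card_dvd_of_le inf_le_left
        have h4 : 4 ∣ Nat.card (J ⊓ N : Subgroup G) := hV4 ▸ Subgroup.card_dvd_of_le hVJN
        rw [hV4]
        by_contra hlt
        have h12 : Nat.card (J ⊓ N : Subgroup G) = 12 := by
          have := Nat.le_of_dvd (by norm_num) hd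
          obtain ⟨c, hc⟩ := h4
          rw [hc] at hd this hlt ⊢
          have : c ≤ 3 := by omega
          interval_cases c <;> first | omega | (norm_num at hd)
        have hJleN : J ≤ N := by
          have := Subgroup.eq_of_le_of_card_ge (inf_le_left : J ⊓ N ≤ J) (by rw [h12, hJ])
          rw [← this]
          exact inf_le_right
        exact hNtop (by rw [← hfr]; exact sup_eq_right.2 hJleN |>.symm)
      -- Burnside inside `N`
      let PN : Sylow 2 N := P.subtype hPN
      have hPNc : ((PN : Subgroup N)) = V.subgroupOf N := by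
        rw [Sylow.coe_subtype, hPV]
      have hburn : Subgroup.normalizer ((PN : Subgroup N) : Set N) ≤
          Subgroup.centralizer ((PN : Subgroup N) : Set N) := by
        intro w hw
        rw [hPNc] at hw ⊢
        have hwV : (w : G) ∈ V := by
          rw [← hJN]
          refine ⟨?_, w.2⟩
          show (w : G) ∈ J; rw [hJdef, Subgroup.mem_normalizer_iff]
          intro v
          rw [Subgroup.mem_normalizer_iff] at hw
          constructor
          · intro hv
            exact (hw ⟨v, hVN hv⟩).1 hv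
          · intro hv
            have hvN : v ∈ N := by
              have := N.mul_mem (N.mul_mem (N.inv_mem w.2) (hVN hv)) w.2
              simpa [mul_assoc] using this
            exact (hw ⟨v, hvN⟩).2 hv
        rw [Subgroup.mem_centralizer_iff]
        intro v hv
        exact Subtype.ext (hcomm v hv w hwV)
      have hcompl := MonoidHom.ker_transferSylow_isComplement' PN hburn
      set Kt := (MonoidHom.transferSylow PN hburn).ker with hKt
      have hKodd : Odd (Nat.card Kt) := by
        rw [← Nat.not_even_iff_odd, even_iff_two_dvd]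
        exact MonoidHom.not_dvd_card_ker_transferSylow PN hburn
      have hKchar : (Kt.map N.subtype).Normal := by
        refine ⟨?_⟩
        rintro _ ⟨k, hk, rfl⟩ g
        refine ⟨⟨g * k * g⁻¹, hN.conj_mem _ k.2 g⟩, ?_, rfl⟩
        -- elements of odd order lie in the complement
        have hord : Odd (orderOf (⟨g * k * g⁻¹, hN.conj_mem _ k.2 g⟩ : N)) := by
          rw [← Subgroup.orderOf_coe, Subgroup.coe_mk, CfsgLib.Small.orderOf_conj_eq,
            Subgroup.orderOf_coe]
          exact hKodd.of_dvd_nat (Kt.orderOf_dvd_natCard hk)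
        rw [hKt, SetLike.mem_coe, MonoidHom.mem_ker]
        set w := (⟨g * k * g⁻¹, hN.conj_mem _ k.2 g⟩ : N)
        obtain ⟨j, hj⟩ := PN.isPGroup' ((MonoidHom.transferSylow PN hburn) w)
        have h1 : orderOf ((MonoidHom.transferSylow PN hburn) w) ∣ 1 := by
          have hc : Nat.Coprime (orderOf w) (2 ^ j) :=
            (Nat.coprime_two_right.2 hord).pow_right j
          rw [← hc.gcd_eq_one]
          exact Nat.dvd_gcd (orderOf_map_dvd _ w) (orderOf_dvd_of_pow_eq_one hj)
        exact orderOf_eq_one_iff.1 (Nat.dvd_one.1 h1)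
      have hKbot : Kt.map N.subtype = ⊥ := hodd _ hKchar (by
        rw [Subgroup.card_map_of_injective N.subtype_injective]; exact hKodd)
      rw [Subgroup.map_eq_bot_iff_of_injective _ N.subtype_injective] at hKbot
      have hNV : N = V := by
        refine (Subgroup.eq_of_le_of_card_ge hVN ?_).symm
        have := hcompl.card_mul_card
        rw [hKbot, Subgroup.card_bot, one_mul, hPNc,
          Nat.card_congr (Subgroup.subgroupOfEquivOfLe hVN).toEquiv] at this
        rw [this]
      exact hn (hNV ▸ hN)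
    haveI := hsimple
    refine ⟨hsimple, Cfsg.Agent.S3278.result x hx V le_rfl ?_ ?_ ?_⟩
    · refine ⟨hV4, ?_⟩
      haveI : Nontrivial V := ⟨⟨⟨x, hxV⟩, 1, fun e => hx1 (congrArg Subtype.val e)⟩⟩
      rw [Monoid.exponent_eq_prime_iff Nat.prime_two]
      intro v hv
      refine orderOf_eq_prime ?_ hv
      rw [pow_two]
      exact Subtype.ext (hexp v v.2)
    · rw [Subgroup.relIndex_self]; norm_num
    · rw [Subgroup.subgroupOf_self]; infer_instance

theorem dihedral_facts : ∀ g : DihedralGroup 4,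
    g = 1 ∨ g = .r 2 ∨ g = .r 1 ∨ g = .r 3 ∨ g = .sr 0 ∨ g = .sr 2 ∨ g = .sr 1 ∨ g = .sr 3 := by
  decide

theorem dihedral_center : ∀ g : DihedralGroup 4, g * g = 1 → g ≠ 1 →
    (∀ h : DihedralGroup 4, g * h = h * g) → g = .r 2 := by decide

theorem dihedral_rels : (DihedralGroup.r 1 : DihedralGroup 4) * .r 1 = .r 2 ∧
    (DihedralGroup.sr 0 : DihedralGroup 4) * .sr 0 = 1 ∧
    (DihedralGroup.sr 0 : DihedralGroup 4) * .r 1 * .sr 0 = .r 3 ∧
    (DihedralGroup.r 3 : DihedralGroup 4) = (.r 1)⁻¹ ∧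
    (DihedralGroup.sr 2 : DihedralGroup 4) = .sr 0 * .r 2 ∧
    (DihedralGroup.sr 1 : DihedralGroup 4) = .sr 0 * .r 1 ∧
    (DihedralGroup.sr 3 : DihedralGroup 4) = .sr 0 * .r 1 * .r 2 ∧
    (DihedralGroup.r 2 : DihedralGroup 4) ≠ 1 ∧ (DihedralGroup.sr 0 : DihedralGroup 4) ≠ 1 ∧
    (DihedralGroup.sr 0 : DihedralGroup 4) ≠ .r 2 ∧ (DihedralGroup.sr 0 : DihedralGroup 4) ≠ .r 1 ∧
    (DihedralGroup.sr 0 : DihedralGroup 4) ≠ .r 3 := by
  decide

/-- Generators of a dihedral centraliser of order 8. -/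
structure Gens (z r s : G) : Prop where
  hz : orderOf z = 2
  hr : r * r = z
  hs : s * s = 1
  hs1 : s ≠ 1
  hsz : s ≠ z
  hsr : s ≠ r ∧ s ≠ r⁻¹
  hsrs : s * r * s = r⁻¹
  hrC : r * z = z * r
  hsC : s * z = z * s
  hall : ∀ c : G, c * z = z * c → c = 1 ∨ c = z ∨ c = r ∨ c = r⁻¹ ∨ c = s ∨ c = s * z ∨
    c = s * r ∨ c = s * r * z
  hcard : Nat.card (Subgroup.centralizer ({z} : Set G)) = 8

theorem exists_gens (z : G) (hz : orderOf z = 2)
    (hC : Nonempty (↥(Subgroup.centralizer ({z} : Set G)) ≃* DihedralGroup 4)) :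
    ∃ r s : G, Gens z r s := by
  obtain ⟨e⟩ := hC
  set C := Subgroup.centralizer ({z} : Set G)
  have hmem : ∀ {g : G}, g ∈ C ↔ g * z = z * g := Subgroup.mem_centralizer_singleton_iff
  let φ : DihedralGroup 4 → G := fun g => ((e.symm g : C) : G)
  have hφm : ∀ a b, φ (a * b) = φ a * φ b := fun a b => by simp [φ]
  have hφ1 : φ 1 = 1 := by simp [φ]
  have hφi : ∀ a, φ a⁻¹ = (φ a)⁻¹ := fun a => by simp [φ]
  have hφinj : Function.Injective φ := fun a b h => e.symm.injective (Subtype.ext h)
  have hez : e ⟨z, hmem.2 rfl⟩ = .r 2 := by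
    refine dihedral_center _ ?_ ?_ fun h => ?_
    · rw [← map_mul, ← map_one e]
      exact congrArg e (Subtype.ext (mul_self_of hz))
    · rw [ne_eq, e.map_eq_one_iff]
      exact fun h => CfsgLib.Small.ne_one_of_orderOf_two hz (congrArg Subtype.val h)
    · obtain ⟨c, rfl⟩ := e.surjective h
      rw [← map_mul, ← map_mul]
      exact congrArg e (Subtype.ext (hmem.1 c.2).symm)
  have hφz : φ (.r 2) = z := by
    show ((e.symm (.r 2) : C) : G) = z
    rw [← hez, MulEquiv.symm_apply_apply]
  obtain ⟨h1, h2, h3, h4, h5, h6, h7, -, h9, h10, h11, h12⟩ := dihedral_rels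
  have hr3 : φ (.r 3) = (φ (.r 1))⁻¹ := by rw [h4, hφi]
  refine ⟨φ (.r 1), φ (.sr 0), ⟨hz, ?_, ?_, ?_, ?_, ⟨?_, ?_⟩, ?_, ?_, ?_, ?_, ?_⟩⟩
  · rw [← hφm, h1, hφz]
  · rw [← hφm, h2, hφ1]
  · exact fun h => h9 (hφinj (h.trans hφ1.symm))
  · exact fun h => h10 (hφinj (h.trans hφz.symm))
  · exact fun h => h11 (hφinj h)
  · exact fun h => h12 (hφinj (h.trans hr3.symm))
  · rw [← hφm, ← hφm, h3, hr3]
  · exact hmem.1 (e.symm _).2
  · exact hmem.1 (e.symm _).2
  · intro c hc
    have hcφ : c = φ (e ⟨c, hmem.2 hc⟩) := by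
      show c = ((e.symm (e ⟨c, hmem.2 hc⟩) : C) : G)
      rw [MulEquiv.symm_apply_apply]
    rcases dihedral_facts (e ⟨c, hmem.2 hc⟩) with h | h | h | h | h | h | h | h <;>
      rw [h] at hcφ
    · exact Or.inl (hcφ.trans hφ1)
    · exact Or.inr (Or.inl (hcφ.trans hφz))
    · exact Or.inr (Or.inr (Or.inl hcφ))
    · exact Or.inr (Or.inr (Or.inr (Or.inl (hcφ.trans hr3))))
    · exact Or.inr (Or.inr (Or.inr (Or.inr (Or.inl hcφ))))
    · refine Or.inr (Or.inr (Or.inr (Or.inr (Or.inr (Or.inl ?_)))))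
      rw [hcφ, h5, hφm, hφz]
    · refine Or.inr (Or.inr (Or.inr (Or.inr (Or.inr (Or.inr (Or.inl ?_))))))
      rw [hcφ, h6, hφm]
    · refine Or.inr (Or.inr (Or.inr (Or.inr (Or.inr (Or.inr (Or.inr ?_))))))
      rw [hcφ, h7, hφm, hφm, hφz]
  · rw [Nat.card_congr e.toEquiv, DihedralGroup.nat_card]

namespace Gens

variable {z r s : G} (h : Gens z r s)
include h

theorem zz : z * z = 1 := mul_self_of h.hz

theorem rs : r * s = s * r * z := by
  calc r * s = s * (s * r * s) := by rw [← mul_assoc, ← mul_assoc, h.hs, one_mul]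
    _ = s * r⁻¹ := by rw [h.hsrs]
    _ = s * r * z := by
      rw [mul_assoc]
      congr 1
      refine inv_eq_of_mul_eq_one_right ?_
      rw [← mul_assoc, h.hr, h.zz]

/-- The other choice of reflection. -/
theorem swap : Gens z r (s * r) := by
  have hzz := h.zz
  have hzc : ∀ c, c * z = z * c → c * z * z = c := fun c _ => by rw [mul_assoc, hzz, mul_one]
  have hsrr : s * r * r = s * z := by rw [mul_assoc, h.hr]
  refine ⟨h.hz, h.hr, ?_, ?_, ?_, ⟨?_, ?_⟩, ?_, h.hrC, ?_, ?_, h.hcard⟩
  · rw [← mul_assoc, h.hsrs, inv_mul_cancel]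
  · exact fun e => h.hsr.2 (eq_inv_of_mul_eq_one_left e)
  · intro e
    rw [← h.hr] at e
    exact h.hsr.1 (mul_right_cancel e)
  · exact fun e => h.hs1 (mul_eq_right.1 e)
  · intro e
    have : s * r * r = 1 := by rw [e, inv_mul_cancel]
    rw [hsrr] at this
    exact h.hsz (by rw [eq_inv_of_mul_eq_one_left this, inv_eq_of_mul_eq_one_left hzz])
  · calc s * r * r * (s * r) = s * (z * s) * r := by rw [hsrr]; group
      _ = z * r := by rw [← h.hsC, ← mul_assoc, h.hs, one_mul]
      _ = r⁻¹ := by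
        refine (inv_eq_of_mul_eq_one_left ?_).symm
        rw [mul_assoc, h.hr, hzz]
  · rw [mul_assoc, h.hrC, ← mul_assoc, h.hsC, mul_assoc]
  · intro c hc
    rcases h.hall c hc with e | e | e | e | e | e | e | e
    · exact Or.inl e
    · exact Or.inr (Or.inl e)
    · exact Or.inr (Or.inr (Or.inl e))
    · exact Or.inr (Or.inr (Or.inr (Or.inl e)))
    · refine Or.inr (Or.inr (Or.inr (Or.inr (Or.inr (Or.inr (Or.inr ?_))))))
      rw [e, hsrr, mul_assoc, hzz, mul_one]
    · refine Or.inr (Or.inr (Or.inr (Or.inr (Or.inr (Or.inr (Or.inl ?_))))))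
      rw [e, hsrr]
    · exact Or.inr (Or.inr (Or.inr (Or.inr (Or.inl e))))
    · exact Or.inr (Or.inr (Or.inr (Or.inr (Or.inr (Or.inl e)))))

theorem invol {c : G} (hc : c * z = z * c) (h2 : orderOf c = 2) :
    c = z ∨ c = s ∨ c = s * z ∨ c = s * r ∨ c = s * r * z := by
  have hcc := mul_self_of h2
  have hz1 := CfsgLib.Small.ne_one_of_orderOf_two h.hz
  rcases h.hall c hc with e | e | e | e | e | e | e | e
  · exact absurd e (CfsgLib.Small.ne_one_of_orderOf_two h2)
  · exact Or.inl e
  · rw [e, h.hr] at hcc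
    exact absurd hcc hz1
  · rw [e, ← mul_inv_rev, inv_eq_one, h.hr] at hcc
    exact absurd hcc hz1
  · exact Or.inr (Or.inl e)
  · exact Or.inr (Or.inr (Or.inl e))
  · exact Or.inr (Or.inr (Or.inr (Or.inl e)))
  · exact Or.inr (Or.inr (Or.inr (Or.inr e)))

theorem conj_s : IsConj s (s * z) ∧ IsConj (s * r) (s * r * z) := by
  have aux : ∀ {t : G}, Gens z r t → IsConj t (t * z) := fun {t} g => isConj_iff.2 ⟨r, by
    rw [g.rs, mul_assoc t r z, g.hrC, ← mul_assoc, mul_inv_cancel_right]⟩
  exact ⟨aux h, aux h.swap⟩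

/-- `C(z)` is a Sylow 2-subgroup containing, up to conjugation, every involution. -/
theorem exists_sylow : ∃ S : Sylow 2 G, (S : Subgroup G) = Subgroup.centralizer ({z} : Set G) := by
  haveI : Fact (Nat.Prime 2) := ⟨Nat.prime_two⟩
  set C := Subgroup.centralizer ({z} : Set G)
  have hmem : ∀ {g : G}, g ∈ C ↔ g * z = z * g := Subgroup.mem_centralizer_singleton_iff
  obtain ⟨S, hS⟩ := (IsPGroup.of_card (n := 3)
    (show Nat.card C = 2 ^ 3 by rw [h.hcard]; norm_num)).exists_le_sylow
  refine ⟨S, ?_⟩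
  by_contra hne
  have hlt : C.subgroupOf S < ⊤ := lt_top_iff_ne_top.2 fun e =>
    hne (le_antisymm (Subgroup.subgroupOf_eq_top.1 e) hS)
  haveI : Group.IsNilpotent (S : Subgroup G) := S.isPGroup'.isNilpotent
  obtain ⟨n, hn, hnC⟩ := SetLike.exists_of_lt (Group.normalizerCondition_of_isNilpotent _ hlt)
  apply hnC
  rw [Subgroup.mem_subgroupOf, hmem]
  rw [Subgroup.mem_normalizer_iff] at hn
  have hzC : z ∈ C := hmem.2 rfl
  have hcen : ∀ c : G, c * z = z * c → ((n : G) * z * (n : G)⁻¹) * c = c * ((n : G) * z * (n : G)⁻¹) := by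
    intro c hc
    have hcS : c ∈ (S : Subgroup G) := hS (hmem.2 hc)
    have hmem' : (n : G)⁻¹ * c * n ∈ C := by
      have := (hn ((n⁻¹ : (S : Subgroup G)) * ⟨c, hcS⟩ * n)).2
        (by simpa [mul_assoc, Subgroup.mem_subgroupOf] using hmem.2 hc)
      simpa [Subgroup.mem_subgroupOf] using this
    calc (n : G) * z * (n : G)⁻¹ * c = n * (z * ((n : G)⁻¹ * c * n)) * (n : G)⁻¹ := by group
      _ = n * ((n : G)⁻¹ * c * n * z) * (n : G)⁻¹ := by rw [hmem.1 hmem']
      _ = c * ((n : G) * z * (n : G)⁻¹) := by group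
  have hz' : ((n : G) * z * (n : G)⁻¹) * z = z * ((n : G) * z * (n : G)⁻¹) := hcen z rfl
  have ho : orderOf ((n : G) * z * (n : G)⁻¹) = 2 := by rw [CfsgLib.Small.orderOf_conj_eq, h.hz]
  rcases h.invol hz' ho with e | e | e | e | e
  · exact mul_inv_eq_iff_eq_mul.1 e
  all_goals
    exfalso
    have h1 := hcen r h.hrC
    rw [e] at h1
    have hz1 := CfsgLib.Small.ne_one_of_orderOf_two h.hz
  · rw [h.rs] at h1
    exact hz1 (mul_eq_left.1 h1.symm)
  · rw [mul_assoc, ← h.hrC, ← mul_assoc r, h.rs, mul_assoc (s * r) z z, h.zz, mul_one,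
      ← mul_assoc] at h1
    exact hz1 (mul_eq_left.1 h1)
  · rw [h.swap.rs] at h1
    exact hz1 (mul_eq_left.1 h1.symm)
  · rw [mul_assoc, ← h.hrC, ← mul_assoc r, h.swap.rs, mul_assoc (s * r * r) z z, h.zz, mul_one,
      ← mul_assoc] at h1
    exact hz1 (mul_eq_left.1 h1)

theorem exists_conj_five {u : G} (hu : orderOf u = 2) :
    IsConj z u ∨ IsConj s u ∨ IsConj (s * r) u := by
  haveI : Fact (Nat.Prime 2) := ⟨Nat.prime_two⟩
  obtain ⟨S, hS⟩ := h.exists_sylow
  obtain ⟨P, hP⟩ := (IsPGroup.of_card (n := 1) (show Nat.card (Subgroup.zpowers u) = 2 ^ 1 by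
    rw [Nat.card_zpowers, hu, pow_one])).exists_le_sylow
  obtain ⟨g, hg⟩ := MulAction.exists_smul_eq G P S
  have hmem : g * u * g⁻¹ ∈ (S : Subgroup G) := by
    rw [← hg, Sylow.coe_subgroup_smul]
    exact Subgroup.smul_mem_pointwise_smul u (MulAut.conj g) P (hP (Subgroup.mem_zpowers u))
  rw [hS, Subgroup.mem_centralizer_singleton_iff] at hmem
  have hc : IsConj (g * u * g⁻¹) u := (isConj_iff.2 ⟨g, rfl⟩).symm
  rcases h.invol hmem (by rw [CfsgLib.Small.orderOf_conj_eq, hu]) with e | e | e | e | e <;>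
    rw [e] at hc
  · exact Or.inl hc
  · exact Or.inr (Or.inl hc)
  · exact Or.inr (Or.inl (h.conj_s.1.trans hc))
  · exact Or.inr (Or.inr hc)
  · exact Or.inr (Or.inr (h.conj_s.2.trans hc))

/-- One class of involutions: simple of order 168 or 360. -/
theorem one_class (hs' : IsConj z s) (hsr' : IsConj z (s * r)) :
    IsSimpleGroup G ∧ (Nat.card G = 168 ∨ Nat.card G = 360) := by
  classical
  haveI := Fintype.ofFinite G
  haveI : Fact (Nat.Prime 2) := ⟨Nat.prime_two⟩
  have hzz := h.zz
  have hz1 := CfsgLib.Small.ne_one_of_orderOf_two h.hz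
  have hone : ∀ a b : G, orderOf a = 2 → orderOf b = 2 → IsConj a b := by
    have h1 : ∀ u : G, orderOf u = 2 → IsConj z u := fun u hu =>
      (h.exists_conj_five hu).elim id fun e => e.elim hs'.trans hsr'.trans
    exact fun a b ha hb => (h1 a ha).symm.trans (h1 b hb)
  have hr4 : r ^ 4 = 1 := by rw [show 4 = 2 * 2 from rfl, pow_mul, pow_two r, h.hr, pow_two, hzz]
  have hro : orderOf r = 4 := by
    have hr2 : ¬ r ^ (2 ^ 1) = 1 := by rw [pow_one, pow_two, h.hr]; exact hz1
    exact orderOf_eq_prime_pow (p := 2) (n := 1) hr2 hr4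
  have hKmem : ∀ x ∈ Subgroup.zpowers r, x = 1 ∨ x = r ∨ x = z ∨ x = r⁻¹ := by
    intro x hx
    obtain ⟨i, rfl⟩ := Subgroup.mem_zpowers_iff.1 hx
    rw [← zpow_mod_orderOf, hro]
    have h1 := Int.emod_nonneg i (show ((4 : ℕ) : ℤ) ≠ 0 by norm_num)
    have h2 := Int.emod_lt_of_pos i (show (0 : ℤ) < ((4 : ℕ) : ℤ) by norm_num)
    push_cast at h1 h2 ⊢
    have h3 : i % 4 = 0 ∨ i % 4 = 1 ∨ i % 4 = 2 ∨ i % 4 = 3 := by omega
    rcases h3 with e | e | e | e <;> rw [e]
    · exact Or.inl (zpow_zero r)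
    · exact Or.inr (Or.inl (zpow_one r))
    · exact Or.inr (Or.inr (Or.inl (by rw [← h.hr, zpow_two])))
    · refine Or.inr (Or.inr (Or.inr ?_))
      rw [eq_inv_iff_mul_eq_one]
      calc r ^ (3 : ℤ) * r = r ^ 4 := by group
        _ = 1 := hr4
  let hyp : CfsgLib.BSW.Hyp G :=
    { t := z
      s := s
      K := Subgroup.zpowers r
      ht := h.hz
      hs := orderOf_eq_prime (by rw [pow_two]; exact h.hs) h.hs1
      comm := fun x hx y hy => by
        obtain ⟨i, rfl⟩ := Subgroup.mem_zpowers_iff.1 hx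
        obtain ⟨j, rfl⟩ := Subgroup.mem_zpowers_iff.1 hy
        exact (((Commute.refl r).zpow_left i).zpow_right j).eq
      le_cent := Subgroup.zpowers_le.2 (Subgroup.mem_centralizer_singleton_iff.2 h.hrC)
      t_mem := h.hr ▸ Subgroup.mul_mem _ (Subgroup.mem_zpowers r) (Subgroup.mem_zpowers r)
      s_cent := Subgroup.mem_centralizer_singleton_iff.2 h.hsC
      s_notMem := fun e => by
        rcases hKmem s e with e | e | e | e
        exacts [h.hs1 e, h.hsr.1 e, h.hsz e, h.hsr.2 e]
      sup_eq := by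
        refine le_antisymm (sup_le (Subgroup.zpowers_le.2
          (Subgroup.mem_centralizer_singleton_iff.2 h.hrC))
          (Subgroup.zpowers_le.2 (Subgroup.mem_centralizer_singleton_iff.2 h.hsC))) ?_
        intro c hc
        have hr' : r ∈ Subgroup.zpowers r ⊔ Subgroup.zpowers s :=
          Subgroup.mem_sup_left (Subgroup.mem_zpowers r)
        have hs0 : s ∈ Subgroup.zpowers r ⊔ Subgroup.zpowers s :=
          Subgroup.mem_sup_right (Subgroup.mem_zpowers s)
        have hz0 : z ∈ Subgroup.zpowers r ⊔ Subgroup.zpowers s := h.hr ▸ Subgroup.mul_mem _ hr' hr'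
        rcases h.hall c (Subgroup.mem_centralizer_singleton_iff.1 hc) with
          e | e | e | e | e | e | e | e <;> rw [e]
        exacts [Subgroup.one_mem _, hz0, hr', Subgroup.inv_mem _ hr', hs0,
          Subgroup.mul_mem _ hs0 hz0, Subgroup.mul_mem _ hs0 hr',
          Subgroup.mul_mem _ (Subgroup.mul_mem _ hs0 hr') hz0]
      fixed := fun x hx hc => by
        have hno : r * s ≠ s * r := fun e => by
          rw [h.rs] at e
          exact hz1 (mul_eq_left.1 e)
        rcases hKmem x hx with rfl | rfl | rfl | rfl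
        · exact Or.inl rfl
        · exact absurd hc.symm hno
        · exact Or.inr rfl
        · exfalso
          refine hno ?_
          calc r * s = r * (s * r⁻¹) * r := by group
            _ = s * r := by rw [hc]; group
      inverts := fun x hx => by
        obtain ⟨i, rfl⟩ := Subgroup.mem_zpowers_iff.1 hx
        rw [← conj_zpow, inv_eq_of_mul_eq_one_left h.hs, h.hsrs, inv_zpow]
      ti := fun g hg x hx hgx => by
        by_contra hx1
        apply hg
        rw [Subgroup.mem_centralizer_singleton_iff]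
        have key : g * z * g⁻¹ = z := by
          have hgz : g * z * g⁻¹ ∈ Subgroup.zpowers r := by
            rcases hKmem x hx with rfl | rfl | rfl | rfl
            · exact absurd rfl hx1
            · rw [← h.hr, ← conj_mul]
              exact Subgroup.mul_mem _ hgx hgx
            · exact hgx
            · rw [← h.hr, show g * (r * r) * g⁻¹ = ((g * r⁻¹ * g⁻¹) * (g * r⁻¹ * g⁻¹))⁻¹ by simp [mul_assoc]]
              exact Subgroup.inv_mem _ (Subgroup.mul_mem _ hgx hgx)
          rcases hKmem _ hgz with e | e | e | e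
          · exact absurd (conj_eq_one_iff.1 e) hz1
          · have e2 := congrArg (fun t => t * t) e
            simp only [conj_mul, hzz, mul_one, mul_inv_cancel, h.hr] at e2
            exact absurd e2.symm hz1
          · exact e
          · have e2 := congrArg (fun t => t * t) e
            simp only [conj_mul, hzz, mul_one, mul_inv_cancel, ← mul_inv_rev, h.hr] at e2
            exact absurd (inv_eq_one.1 e2.symm) hz1
        exact mul_inv_eq_iff_eq_mul.1 key
      conj := hone }
  have hk : hyp.k = 4 := by rw [← hro, ← Nat.card_zpowers]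
  obtain ⟨σ, hσ, hI, -⟩ := hyp.exists_pairCount
  have hcard : Nat.card G = 168 ∨ Nat.card G = 360 := by
    rw [hyp.card_G, hk]
    rw [hk] at hI
    rcases hσ with rfl | rfl <;> push_cast at hI <;> omega
  refine ⟨?_, hcard⟩
  haveI : Nontrivial G := ⟨⟨z, 1, hz1⟩⟩
  refine ⟨fun N hN => ?_⟩
  by_contra hNn
  rw [not_or] at hNn
  obtain ⟨hNbot, hNtop⟩ := hNn
  have hfix : ∀ u : G, orderOf u = 2 → Odd (Nat.card N) → ∀ n ∈ N, u * n = n * u → n = 1 := by
    intro u hu hodd n hn hun
    obtain ⟨g, hg⟩ := isConj_iff.1 (hone u z hu h.hz)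
    have hcz : g * n * g⁻¹ * z = z * (g * n * g⁻¹) := by
      rw [← hg, conj_mul, conj_mul, hun]
    have hd1 : orderOf n ∣ 8 := by
      rw [← CfsgLib.Small.orderOf_conj_eq g n, ← h.hcard]
      exact Subgroup.orderOf_dvd_natCard _ (Subgroup.mem_centralizer_singleton_iff.2 hcz)
    have hd2 : orderOf n ∣ Nat.card N := N.orderOf_dvd_natCard hn
    have hco : Nat.Coprime 8 (Nat.card N) := by
      rw [show 8 = 2 ^ 3 from rfl]
      exact (Nat.coprime_two_left.2 hodd).pow_left 3
    exact orderOf_eq_one_iff.1 (Nat.dvd_one.1 (hco.gcd_eq_one ▸ Nat.dvd_gcd hd1 hd2))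
  have hso : orderOf s = 2 := orderOf_eq_prime (by rw [pow_two]; exact h.hs) h.hs1
  have hszo : orderOf (s * z) = 2 := by
    obtain ⟨c, hc⟩ := isConj_iff.1 h.conj_s.1
    rw [← hc, CfsgLib.Small.orderOf_conj_eq, hso]
  have heven : 2 ∣ Nat.card N := two_dvd_of_not_odd fun hodd => hNbot
    (eq_bot_of_fpf N hodd h.hs hzz h.hsC (hfix s hso hodd) (hfix z h.hz hodd) (hfix _ hszo hodd))
  obtain ⟨u, hu⟩ := exists_prime_orderOf_dvd_card' 2 heven
  have hall : ∀ w : G, orderOf w = 2 → w ∈ N := by
    intro w hw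
    have huo : orderOf (u : G) = 2 := by rw [Subgroup.orderOf_coe, hu]
    obtain ⟨c, hc⟩ := isConj_iff.1 (hone (u : G) w huo hw)
    exact hc ▸ hN.conj_mem _ u.2 c
  obtain ⟨S, hS⟩ := h.exists_sylow
  have hsro : orderOf (s * r) = 2 := orderOf_eq_prime (by rw [pow_two]; exact h.swap.hs) h.swap.hs1
  have hSN : (S : Subgroup G) ≤ N := by
    rw [hS]
    intro c hc
    have hzN := hall z h.hz
    have hsN := hall s hso
    have hrN : r ∈ N := by
      have := N.mul_mem hsN (hall _ hsro)
      rwa [← mul_assoc, h.hs, one_mul] at this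
    rcases h.hall c (Subgroup.mem_centralizer_singleton_iff.1 hc) with
      e | e | e | e | e | e | e | e <;> rw [e]
    exacts [N.one_mem, hzN, hrN, N.inv_mem hrN, hsN, N.mul_mem hsN hzN, N.mul_mem hsN hrN,
      N.mul_mem (N.mul_mem hsN hrN) hzN]
  have hfr : Subgroup.normalizer ((S : Subgroup G) : Set G) ⊔ N = ⊤ :=
    Sylow.normalizer_sup_eq_top' S hSN
  refine hNtop ?_
  rw [← hfr, eq_comm, sup_eq_right, hS]
  intro g hg
  refine hSN ?_
  rw [hS, Subgroup.mem_centralizer_singleton_iff]
  rw [Subgroup.mem_normalizer_iff] at hg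
  have hcen : ∀ c : G, c * z = z * c → g * z * g⁻¹ * c = c * (g * z * g⁻¹) := by
    intro c hc
    have hmem' := Subgroup.mem_centralizer_singleton_iff.1 ((hg (g⁻¹ * c * g)).2
      (by simpa [mul_assoc] using Subgroup.mem_centralizer_singleton_iff.2 hc))
    calc g * z * g⁻¹ * c = g * (z * (g⁻¹ * c * g)) * g⁻¹ := by group
      _ = g * (g⁻¹ * c * g * z) * g⁻¹ := by rw [hmem']
      _ = c * (g * z * g⁻¹) := by group
  have hz' : g * z * g⁻¹ * z = z * (g * z * g⁻¹) := hcen z rfl
  have ho : orderOf (g * z * g⁻¹) = 2 := by rw [CfsgLib.Small.orderOf_conj_eq, h.hz]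
  rcases h.invol hz' ho with e | e | e | e | e
  · exact mul_inv_eq_iff_eq_mul.1 e
  all_goals
    exfalso
    have h1 := hcen r h.hrC
    rw [e] at h1
  · rw [h.rs] at h1
    exact hz1 (mul_eq_left.1 h1.symm)
  · rw [mul_assoc, ← h.hrC, ← mul_assoc r, h.rs, mul_assoc (s * r) z z, h.zz, mul_one,
      ← mul_assoc] at h1
    exact hz1 (mul_eq_left.1 h1)
  · rw [h.swap.rs] at h1
    exact hz1 (mul_eq_left.1 h1.symm)
  · rw [mul_assoc, ← h.hrC, ← mul_assoc r, h.swap.rs, mul_assoc (s * r * r) z z, h.zz, mul_one,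
      ← mul_assoc] at h1
    exact hz1 (mul_eq_left.1 h1)

set_option maxHeartbeats 2000000 in
/-- Two classes: `S₄` or `S₅`. -/
theorem two_classes (hs' : IsConj z s) (hsr' : ¬ IsConj z (s * r)) :
    ∃ H : Subgroup G, H.index = 2 ∧
      (Nonempty (G ≃* Equiv.Perm (Fin 4)) ∨ Nonempty (G ≃* Equiv.Perm (Fin 5))) := by
  classical
  haveI : Fact (Nat.Prime 2) := ⟨Nat.prime_two⟩
  have hzz := h.zz
  have hz1 := CfsgLib.Small.ne_one_of_orderOf_two h.hz
  obtain ⟨S, hS⟩ := h.exists_sylow
  let M : Subgroup G :=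
    { carrier := {g | g = 1 ∨ g = z ∨ g = s ∨ g = s * z}
      one_mem' := Or.inl rfl
      mul_mem' := fun {a b} ha hb => by
        simp only [Set.mem_setOf_eq] at ha hb ⊢
        have e1 : z * s = s * z := h.hsC.symm
        have e2 : s * z * z = s := by rw [mul_assoc, hzz, mul_one]
        have e3 : z * (s * z) = s := by rw [← mul_assoc, e1, e2]
        have e4 : s * (s * z) = z := by rw [← mul_assoc, h.hs, one_mul]
        have e5 : s * z * s = z := by rw [mul_assoc, e1, e4]
        have e6 : s * z * (s * z) = 1 := by rw [← mul_assoc, e5, hzz]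
        rcases ha with rfl | rfl | rfl | rfl <;> rcases hb with rfl | rfl | rfl | rfl <;>
          simp [hzz, h.hs, e1, e2, e3, e4, e5, e6]
      inv_mem' := fun {a} ha => by
        simp only [Set.mem_setOf_eq] at ha ⊢
        have e : (s * z)⁻¹ = s * z := by
          rw [mul_inv_rev, inv_eq_of_mul_eq_one_left hzz, inv_eq_of_mul_eq_one_left h.hs, h.hsC]
        rcases ha with rfl | rfl | rfl | rfl <;>
          simp [inv_eq_of_mul_eq_one_left hzz, inv_eq_of_mul_eq_one_left h.hs, e, -mul_inv_rev] }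
  have hM4 : Nat.card M = 4 := by
    rw [← SetLike.coe_sort_coe, Nat.card_coe_set_eq]
    show ({1, z, s, s * z} : Set G).ncard = 4
    have hne : s * z ≠ 1 := fun e => h.hsz (by
      rw [eq_inv_of_mul_eq_one_left e, inv_eq_of_mul_eq_one_left hzz])
    rw [Set.ncard_insert_of_notMem, Set.ncard_insert_of_notMem, Set.ncard_pair]
    · exact fun e => hz1 (mul_eq_left.1 e.symm)
    · simp only [Set.mem_insert_iff, Set.mem_singleton_iff, not_or]
      exact ⟨Ne.symm h.hsz, fun e => h.hs1 (mul_eq_right.1 e.symm)⟩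
    · simp only [Set.mem_insert_iff, Set.mem_singleton_iff, not_or]
      exact ⟨Ne.symm hz1, Ne.symm h.hs1, Ne.symm hne⟩
  have hMC : ∀ g ∈ M, g * z = z * g := by
    rintro g (rfl | rfl | rfl | rfl)
    exacts [by simp, rfl, h.hsC, by rw [mul_assoc s z z, ← mul_assoc z, ← h.hsC, mul_assoc]]
  have hMconj : ∀ g ∈ M, g ≠ 1 → IsConj z g := by
    rintro g (rfl | rfl | rfl | rfl) h1
    exacts [absurd rfl h1, IsConj.refl _, hs', hs'.trans h.conj_s.1]
  have hidx : ∃ m, Odd m ∧ M.index = 2 * m := by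
    refine ⟨(S : Subgroup G).index, Nat.odd_iff.2 (Nat.two_dvd_ne_zero.1 S.not_dvd_index), ?_⟩
    have h1 := M.card_mul_index
    have h2 := (S : Subgroup G).card_mul_index
    rw [hM4] at h1
    rw [hS, h.hcard, ← hS] at h2
    omega
  obtain ⟨m, hm, hMi⟩ := hidx
  have hsr2 : orderOf (s * r) = 2 :=
    orderOf_eq_prime (by rw [pow_two]; exact h.swap.hs) h.swap.hs1
  obtain ⟨H, hH2, hsrH⟩ := CfsgLib.Inv54.exists_index_two_not_mem M hsr2 hm hMi fun g hg => by
    have hne : g⁻¹ * (s * r) * g ≠ 1 := fun e => by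
      have h' : s * r = 1 := by
        calc s * r = g * (g⁻¹ * (s * r) * g) * g⁻¹ := by group
          _ = 1 := by rw [e]; group
      exact h.swap.hs1 h'
    refine hsr' ((hMconj _ hg hne).trans (isConj_iff.2 ⟨g, ?_⟩))
    group
  refine ⟨H, hH2, ?_⟩
  haveI hHn : H.Normal := Subgroup.normal_of_index_eq_two hH2
  have hzH : z ∈ H := h.hr ▸ Subgroup.mul_self_mem_of_index_two hH2 r
  have hclassH : ∀ {u}, IsConj z u → u ∈ H := fun {u} hu => by
    obtain ⟨c, rfl⟩ := isConj_iff.1 hu
    exact hHn.conj_mem _ hzH c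
  have hsH := hclassH hs'
  have hrH : r ∉ H := fun e => hsrH (H.mul_mem hsH e)
  -- the centraliser of `z` in `H`
  have hCH : ∀ c : G, c ∈ H → c * z = z * c → c ∈ M := by
    intro c hcH hc
    have hszr : s * r * z ∉ H := fun e => hsrH (by
      have := H.mul_mem e hzH
      rwa [mul_assoc (s * r), hzz, mul_one] at this)
    rcases h.hall c hc with e | e | e | e | e | e | e | e
    exacts [Or.inl e, Or.inr (Or.inl e), absurd (e ▸ hcH) hrH,
      absurd (H.inv_mem_iff.1 (e ▸ hcH)) hrH, Or.inr (Or.inr (Or.inl e)),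
      Or.inr (Or.inr (Or.inr e)), absurd (e ▸ hcH) hsrH, absurd (e ▸ hcH) hszr]
  have hMH : ∀ g ∈ M, g ∈ H := fun g hg => by
    by_cases h1 : g = 1
    · exact h1 ▸ H.one_mem
    · exact hclassH (hMconj g hg h1)
  set zH : H := ⟨z, hzH⟩ with hzHdef
  have hVeq : Subgroup.centralizer ({zH} : Set H) = M.subgroupOf H := by
    ext c
    rw [Subgroup.mem_centralizer_singleton_iff, Subgroup.mem_subgroupOf]
    exact ⟨fun e => hCH c c.2 (congrArg Subtype.val e), fun e => Subtype.ext (hMC c e)⟩
  have hV4 : Nat.card (Subgroup.centralizer ({zH} : Set H)) = 4 := by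
    rw [hVeq, Nat.card_congr (Subgroup.subgroupOfEquivOfLe hMH).toEquiv, hM4]
  have hexp : ∀ v ∈ Subgroup.centralizer ({zH} : Set H), v * v = 1 := by
    intro v hv
    rw [hVeq, Subgroup.mem_subgroupOf] at hv
    refine Subtype.ext ?_
    show (v : G) * v = 1
    rcases hv with e | e | e | e <;> rw [e]
    · exact one_mul 1
    · exact hzz
    · exact h.hs
    · rw [show s * z * (s * z) = s * (z * s) * z by group, ← h.hsC, ← mul_assoc, h.hs, one_mul, hzz]
  have hone : ∀ y : H, orderOf y = 2 → IsConj zH y := by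
    intro y hy
    have hy' : orderOf (y : G) = 2 := by rw [Subgroup.orderOf_coe, hy]
    have hzy : IsConj z (y : G) := by
      rcases h.exists_conj_five hy' with e | e | e
      · exact e
      · exact hs'.trans e
      · obtain ⟨c, hc⟩ := isConj_iff.1 e.symm
        exact absurd (hc ▸ hHn.conj_mem _ y.2 c) hsrH
    obtain ⟨g, hg⟩ := isConj_iff.1 hzy
    by_cases hgH : g ∈ H
    · exact isConj_iff.2 ⟨⟨g, hgH⟩, Subtype.ext hg⟩
    · refine isConj_iff.2 ⟨⟨g * r, (Subgroup.mul_mem_iff_of_index_two hH2).2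
        (iff_of_false hgH hrH)⟩, Subtype.ext ?_⟩
      show g * r * z * (g * r)⁻¹ = (y : G)
      rw [mul_inv_rev, mul_assoc g r z, h.hrC, ← hg]
      group
  obtain ⟨hodd, hN12, hcases⟩ := four zH (by rw [← Subgroup.orderOf_coe]; exact h.hz) hV4 hexp hone
  have hGH : Nat.card G = 2 * Nat.card H := by rw [← Subgroup.index_mul_card H, hH2]
  -- a faithful action
  have hKey : ∀ (n : ℕ) (J : Subgroup G), J.index = n → Nat.card G = n.factorial →
      (∀ K : Subgroup G, K.Normal → K ≤ J → K ⊓ H = ⊥) → Nonempty (G ≃* Equiv.Perm (Fin n)) := by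
    intro n J hJ hGn hK
    let φ := MulAction.toPermHom G (G ⧸ J)
    have hker : φ.ker = ⊥ := by
      set K := φ.ker with hKdef
      have hKJ : K ≤ J := by
        rw [hKdef, show φ.ker = J.normalCore from (Subgroup.normalCore_eq_ker J).symm]
        exact Subgroup.normalCore_le J
      have hKH := hK K inferInstance hKJ
      have hle : Nat.card K ≤ 2 := by
        refine le_trans (Nat.card_le_card_of_injective (fun k : K => ((k : G) : G ⧸ H)) ?_)
          (le_of_eq hH2)
        intro a b hab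
        have h' : (a : G)⁻¹ * b ∈ K ⊓ H := ⟨K.mul_mem (K.inv_mem a.2) b.2, QuotientGroup.eq.1 hab⟩
        rw [hKH, Subgroup.mem_bot, inv_mul_eq_one] at h'
        exact Subtype.ext h'
      by_contra hne
      obtain ⟨⟨k, hkK⟩, hk1⟩ := Subgroup.ne_bot_iff_exists_ne_one.1 hne
      have hcardK : Nat.card K = 2 := by
        have : 1 < Nat.card K := Finite.one_lt_card_iff_nontrivial.2 ⟨⟨⟨k, hkK⟩, 1, hk1⟩⟩
        omega
      have hkcent : ∀ g : G, g * k = k * g := by
        intro g
        obtain ⟨w, -, huniq⟩ := (Nat.card_eq_two_iff' (1 : K)).1 hcardK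
        have hgk : g * k * g⁻¹ ∈ K := (inferInstance : K.Normal).conj_mem k hkK g
        have hg1 : (⟨_, hgk⟩ : K) ≠ 1 := fun e =>
          hk1 (Subtype.ext (conj_eq_one_iff.1 (congrArg Subtype.val e)))
        exact mul_inv_eq_iff_eq_mul.1
          (congrArg Subtype.val ((huniq _ hg1).trans (huniq _ hk1).symm))
      have hk2 : orderOf k = 2 := by
        rcases (Nat.dvd_prime Nat.prime_two).1 (hcardK ▸ K.orderOf_dvd_natCard hkK) with e | e
        · exact absurd (Subtype.ext (orderOf_eq_one_iff.1 e)) hk1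
        · exact e
      rcases h.exists_conj_five hk2 with e | e | e
      · exact hk1 (Subtype.ext ((Subgroup.eq_bot_iff_forall _).1 hKH k ⟨hkK, hclassH e⟩))
      · exact hk1 (Subtype.ext ((Subgroup.eq_bot_iff_forall _).1 hKH k ⟨hkK, hclassH (hs'.trans e)⟩))
      · obtain ⟨c, hc⟩ := isConj_iff.1 e.symm
        rw [hkcent c, mul_inv_cancel_right] at hc
        have h1 := hkcent r
        rw [hc, h.swap.rs] at h1
        exact hz1 (mul_eq_left.1 h1)
    let e : G ⧸ J ≃ Fin n := Finite.equivFinOfCardEq hJ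
    let ψ : G →* Equiv.Perm (Fin n) := e.permCongrHom.toMonoidHom.comp φ
    have hψ : Function.Injective ψ :=
      e.permCongrHom.injective.comp ((MonoidHom.ker_eq_bot_iff φ).1 hker)
    exact ⟨MulEquiv.ofBijective ψ ((Nat.bijective_iff_injective_and_card ψ).2
      ⟨hψ, by rw [hGn, Nat.card_perm, Nat.card_fin]⟩)⟩
  have hevenSub : ∀ K : Subgroup H, K.Normal → K ≠ ⊥ →
      Subgroup.centralizer ({zH} : Set H) ≤ K := by
    intro K hK hne
    have heven : 2 ∣ Nat.card K := two_dvd_of_not_odd fun e => hne (hodd K hK e)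
    obtain ⟨w, hw⟩ := exists_prime_orderOf_dvd_card' 2 heven
    intro v hv
    by_cases hv1 : v = 1
    · exact hv1 ▸ K.one_mem
    · have hwo : orderOf (w : H) = 2 := by rw [Subgroup.orderOf_coe, hw]
      have hvo : orderOf v = 2 := orderOf_eq_prime (by rw [pow_two]; exact hexp v hv) hv1
      obtain ⟨c, hc⟩ := isConj_iff.1 ((hone _ hwo).symm.trans (hone v hvo))
      exact hc ▸ hK.conj_mem _ w.2 c
  rcases hcases with ⟨hVn, hH12⟩ | ⟨hsimp, ⟨eA⟩⟩
  · left
    haveI : Fact (Nat.Prime 3) := ⟨Nat.prime_three⟩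
    obtain ⟨P⟩ : Nonempty (Sylow 3 G) := inferInstance
    have hG24 : Nat.card G = 24 := by rw [hGH, hH12]
    have hP3 : Nat.card (P : Subgroup G) = 3 := by
      rw [P.card_eq_multiplicity, hG24, show (24 : ℕ).factorization 3 = 1 by
        rw [Nat.factorization_def _ Nat.prime_three, show (24 : ℕ) = 3 ^ 1 * 8 from rfl,
          padicValNat.mul (by norm_num) (by norm_num), padicValNat.prime_pow,
          padicValNat.eq_zero_of_not_dvd (by norm_num)]]
      norm_num
    have hn3 : (Subgroup.normalizer ((P : Subgroup G) : Set G)).index = 4 := by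
      have h1 := card_sylow_modEq_one 3 G
      rw [Sylow.card_eq_index_normalizer P] at h1
      set j := (Subgroup.normalizer ((P : Subgroup G) : Set G)).index with hj
      have h2 : j ∣ 8 := by
        have h8 : (P : Subgroup G).index = 8 := by
          have := (P : Subgroup G).card_mul_index
          rw [hP3, hG24] at this
          omega
        rw [← h8]
        exact Subgroup.index_dvd_of_le Subgroup.le_normalizer
      have h3 : j ≠ 1 := by
        intro e
        haveI : (P : Subgroup G).Normal :=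
          Subgroup.normalizer_eq_top_iff.1 (Subgroup.index_eq_one.1 e)
        have hPH : (P : Subgroup G) ≤ H := by
          intro p hp
          have h3 : p ^ 3 = 1 := by
            rw [← hP3]
            exact congrArg Subtype.val (pow_card_eq_one' (x := (⟨p, hp⟩ : (P : Subgroup G))))
          have h2' := Subgroup.mul_self_mem_of_index_two hH2 (p * p)
          rwa [show p * p * (p * p) = p ^ 3 * p by simp only [pow_succ, pow_zero, one_mul, mul_assoc], h3, one_mul] at h2'
        have := hodd ((P : Subgroup G).subgroupOf H) inferInstance (by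
          rw [Nat.card_congr (Subgroup.subgroupOfEquivOfLe hPH).toEquiv, hP3]; decide)
        rw [Subgroup.subgroupOf_eq_bot, disjoint_iff, inf_of_le_left hPH] at this
        rw [this, Subgroup.card_bot] at hP3
        omega
      have h4 : j ≤ 8 := Nat.le_of_dvd (by norm_num) h2
      have h5 : j ∈ Nat.divisors 8 := Nat.mem_divisors.2 ⟨h2, by norm_num⟩
      rw [show Nat.divisors 8 = {1, 2, 4, 8} from rfl] at h5
      simp only [Finset.mem_insert, Finset.mem_singleton] at h5
      change j % 3 = 1 % 3 at h1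
      omega
    refine hKey 4 _ hn3 (by rw [hG24]; rfl) fun K hK hKJ => ?_
    by_contra hne
    haveI := hK
    have hV := hevenSub ((K ⊓ H).subgroupOf H) inferInstance (fun e => hne (by
      rw [Subgroup.subgroupOf_eq_bot, disjoint_iff, inf_of_le_left inf_le_right] at e
      exact e))
    have h6 : Nat.card (Subgroup.normalizer ((P : Subgroup G) : Set G)) = 6 := by
      have := (Subgroup.normalizer ((P : Subgroup G) : Set G)).card_mul_index
      rw [hn3, hG24] at this
      omega
    have hd : 4 ∣ Nat.card K := by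
      rw [← hV4]
      refine (Subgroup.card_dvd_of_le hV).trans ?_
      rw [Nat.card_congr (Subgroup.subgroupOfEquivOfLe inf_le_right).toEquiv]
      exact Subgroup.card_dvd_of_le inf_le_left
    have := hd.trans (h6 ▸ Subgroup.card_dvd_of_le hKJ)
    norm_num at this
  · right
    have hH60 : Nat.card H = 60 := by
      rw [Nat.card_congr eA.toEquiv, nat_card_alternatingGroup, Nat.card_fin]; rfl
    set J := Subgroup.normalizer (M : Set G) with hJdef
    have hJ5 : J.index = 5 := by
      have hJH : J.subgroupOf H = Subgroup.normalizer (Subgroup.centralizer ({zH} : Set H) : Set H) := by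
        rw [hVeq]
        exact Subgroup.subgroupOf_normalizer_eq hMH
      have h5 : (J.subgroupOf H).index = 5 := by
        have := (J.subgroupOf H).card_mul_index
        rw [hH60] at this
        rw [hJH] at this ⊢
        rw [hN12] at this
        omega
      have hrJ : r ∈ J := by
        have hc1 : r * s * r⁻¹ = s * z := by
          rw [h.rs, mul_assoc s r z, h.hrC, ← mul_assoc, mul_inv_cancel_right]
        have hfwd : ∀ g ∈ M, r * g * r⁻¹ ∈ M := by
          rintro g (rfl | rfl | rfl | rfl)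
          · exact Or.inl (by simp)
          · exact Or.inr (Or.inl (by rw [h.hrC, mul_inv_cancel_right]))
          · exact Or.inr (Or.inr (Or.inr hc1))
          · refine Or.inr (Or.inr (Or.inl ?_))
            rw [show r * (s * z) * r⁻¹ = r * s * r⁻¹ * (r * z * r⁻¹) by group, hc1, h.hrC,
              mul_inv_cancel_right, mul_assoc, hzz, mul_one]
        exact Subgroup.mem_normalizer_iff.2 fun g => ⟨hfwd g, fun hg => by
          have hmap : M.map (MulAut.conj r).toMonoidHom = M := Subgroup.eq_of_le_of_card_ge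
            (by rintro _ ⟨v, hv, rfl⟩; exact hfwd v hv)
            (by rw [Subgroup.card_map_of_injective (MulAut.conj r).injective])
          rw [← hmap] at hg
          obtain ⟨v, hv, e⟩ := hg
          have : v = g := (MulAut.conj r).injective e
          exact this ▸ hv⟩
      have hsup : J ⊔ H = ⊤ := by
        refine eq_top_iff.2 fun g _ => ?_
        by_cases hgH : g ∈ H
        · exact Subgroup.mem_sup_right hgH
        · have : g = g * r * r⁻¹ := by group
          rw [this]
          exact Subgroup.mul_mem _ (Subgroup.mem_sup_right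
            ((Subgroup.mul_mem_iff_of_index_two hH2).2 (iff_of_false hgH hrH)))
            (Subgroup.mem_sup_left (J.inv_mem hrJ))
      have e1 : ∀ A B : Subgroup G, Nat.card (A.subgroupOf B) = Nat.card (A ⊓ B : Subgroup G) :=
        fun A B => by
          rw [← Subgroup.inf_subgroupOf_right]
          exact Nat.card_congr (Subgroup.subgroupOfEquivOfLe inf_le_right).toEquiv
      have h12 : Nat.card (H.subgroupOf J) = 12 := by
        rw [e1, inf_comm, ← e1, hJH, hN12]
      have h2 : (H.subgroupOf J).index = 2 := by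
        show H.relIndex J = 2
        rw [← Subgroup.relIndex_sup_right J H, hsup, Subgroup.relIndex_top_right, hH2]
      have hJ24 := (H.subgroupOf J).card_mul_index
      rw [h12, h2] at hJ24
      have := J.card_mul_index
      rw [← hJ24, hGH, hH60] at this
      omega
    refine hKey 5 J hJ5 (by rw [hGH, hH60]; rfl) fun K hK hKJ => ?_
    by_contra hne
    haveI := hK
    rcases hsimp.eq_bot_or_eq_top_of_normal ((K ⊓ H).subgroupOf H) inferInstance with e | e
    · rw [Subgroup.subgroupOf_eq_bot, disjoint_iff, inf_of_le_left inf_le_right] at e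
      exact hne e
    · have hHJ : H ≤ J := (Subgroup.subgroupOf_eq_top.1 e).trans (inf_le_left.trans hKJ)
      have h1 := Subgroup.card_dvd_of_le hHJ
      have h2 := J.card_mul_index
      rw [hJ5, hGH, hH60] at h2
      rw [hH60] at h1
      have := Nat.le_of_dvd Nat.card_pos h1
      omega

end Gens

/-- An isolated involution: `G = C(z) O(G)`. -/
theorem sup_oddCore {z r s : G} (h : Gens z r s) (h1 : ¬ IsConj z s) (h2 : ¬ IsConj z (s * r)) :
    Subgroup.centralizer ({z} : Set G) ⊔ Cfsg.oddCore G = ⊤ := by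
  haveI : Fact (Nat.Prime 2) := ⟨Nat.prime_two⟩
  obtain ⟨S, hS⟩ := h.exists_sylow
  have hzS : z ∈ (S : Subgroup G) := by
    rw [hS]; exact Subgroup.mem_centralizer_singleton_iff.2 rfl
  have hiso : ∀ g : G, g * z * g⁻¹ ∈ S → g * z * g⁻¹ = z := by
    intro g hg
    rw [← SetLike.mem_coe] at hg
    replace hg : g * z * g⁻¹ ∈ (S : Subgroup G) := hg
    rw [hS, Subgroup.mem_centralizer_singleton_iff] at hg
    have hc : IsConj z (g * z * g⁻¹) := isConj_iff.2 ⟨g, rfl⟩
    rcases h.invol hg (by rw [CfsgLib.Small.orderOf_conj_eq, h.hz]) with e | e | e | e | e <;>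
      rw [e] at hc
    · exact e
    · exact absurd hc h1
    · exact absurd (hc.trans h.conj_s.1.symm) h1
    · exact absurd hc h2
    · exact absurd (hc.trans h.conj_s.2.symm) h2
  obtain ⟨N, hN, hNodd, hNc⟩ := CfsgLib.ZStar.exists_oddNormal_of_sylow S h.hz hzS hiso
  have hle : N ≤ Cfsg.oddCore G := CfsgLib.PLocal.le_pPrimeCore (by
    exact Nat.coprime_two_right.2 hNodd)
  refine eq_top_iff.2 fun g _ => ?_
  set w := g * z * g⁻¹ with hw
  have hwo : orderOf w = 2 := by rw [hw, CfsgLib.Small.orderOf_conj_eq, h.hz]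
  have hzw : z * w ∈ N := by
    have := hNc g
    rw [CfsgLib.Small.inv_eq_self_of_orderOf_two h.hz] at this
    simpa [hw, mul_assoc] using this
  obtain ⟨k, hk⟩ := CfsgLib.Small.conj_pow_eq_of_odd h.hz hwo
    (hNodd.of_dvd_nat (N.orderOf_dvd_natCard hzw))
  set n := (z * w) ^ k
  have hc : n⁻¹ * g ∈ Subgroup.centralizer ({z} : Set G) := by
    rw [Subgroup.mem_centralizer_singleton_iff]
    calc n⁻¹ * g * z = n⁻¹ * w * g := by rw [hw]; group
      _ = n⁻¹ * (n * z * n⁻¹) * g := by rw [hk]
      _ = z * (n⁻¹ * g) := by group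
  rw [show g = n * (n⁻¹ * g) by group]
  exact Subgroup.mul_mem _ (Subgroup.mem_sup_right (hle (N.pow_mem hzw k)))
    (Subgroup.mem_sup_left hc)

/-- The case analysis. -/
theorem trichotomy (z : G) (hz : orderOf z = 2)
    (hC : Nonempty (↥(Subgroup.centralizer ({z} : Set G)) ≃* DihedralGroup 4)) :
    Subgroup.centralizer ({z} : Set G) ⊔ Cfsg.oddCore G = ⊤ ∨
      (∃ H : Subgroup G, H.index = 2 ∧
        (Nonempty (G ≃* Equiv.Perm (Fin 4)) ∨ Nonempty (G ≃* Equiv.Perm (Fin 5)))) ∨
      (IsSimpleGroup G ∧ (Nat.card G = 168 ∨ Nat.card G = 360)) := by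
  obtain ⟨r, s, h⟩ := exists_gens z hz hC
  by_cases h1 : IsConj z s <;> by_cases h2 : IsConj z (s * r)
  · exact Or.inr (Or.inr (h.one_class h1 h2))
  · exact Or.inr (Or.inl (h.two_classes h1 h2))
  · refine Or.inr (Or.inl (h.swap.two_classes h2 fun e => h1 ?_))
    rw [mul_assoc, h.hr] at e
    exact e.trans h.conj_s.1.symm
  · exact Or.inl (sup_oddCore h h1 h2)

/-- `SL₃(2)` is `GL₃(2)`. -/
theorem nonempty_SL_GL : Nonempty
    (Matrix.SpecialLinearGroup (Fin 3) (ZMod 2) ≃* CfsgLib.GLFourTwo.GL32) := by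
  refine ⟨MulEquiv.ofBijective Matrix.SpecialLinearGroup.toGL ⟨fun a b h => ?_, fun g => ?_⟩⟩
  · exact Subtype.ext (congrArg (fun x : CfsgLib.GLFourTwo.GL32 =>
      (x : Matrix (Fin 3) (Fin 3) (ZMod 2))) h)
  · have hdet : (g : Matrix (Fin 3) (Fin 3) (ZMod 2)).det = 1 := by
      have h : ∀ d : ZMod 2, IsUnit d → d = 1 := by
        intro d hd
        exact (show ∀ d : ZMod 2, d ≠ 0 → d = 1 by decide) d hd.ne_zero
      exact h _ ((Matrix.isUnit_iff_isUnit_det _).1 g.isUnit)
    exact ⟨⟨(g : Matrix (Fin 3) (Fin 3) (ZMod 2)), hdet⟩, Units.ext rfl⟩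

end CfsgLib.Inv54.DihedralEight
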