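import Mathlib.GroupTheory.Sylow
import Mathlib.GroupTheory.QuotientGroup.Basic
import Mathlib.GroupTheory.Index

/-!
Lifting Sylow subgroups and their subgroups along surjective homomorphisms.
-/

namespace CfsgLib.Inv54

variable {G H : Type*} [Group G] [Group H]

/-- A `p`-subgroup of `H` is the image of a `p`-subgroup of `G` under a surjection. -/
theorem exists_pGroup_map_eq [Finite G] {p : ℕ} [Fact p.Prime] {f : G →* H}
    (hf : Function.Surjective f) {U : Subgroup H} (hU : IsPGroup p U) :
    ∃ P : Subgroup G, IsPGroup p P ∧ P.map f = U := by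
  classical
  have hsurj : Function.Surjective (f.subgroupComap U) :=
    f.subgroupComap_surjective_of_surjective U hf
  obtain ⟨Q⟩ : Nonempty (Sylow p ↥(U.comap f)) := Sylow.nonempty
  have : Finite H := Finite.of_surjective f hf
  let R : Sylow p ↥U := Q.mapSurjective hsurj
  have hR : (R : Subgroup ↥U) = ⊤ := by
    have h1 : IsPGroup p (⊤ : Subgroup ↥U) := hU.to_subgroup _
    exact (R.is_maximal' h1 le_top).symm
  refine ⟨(Q : Subgroup ↥(U.comap f)).map (U.comap f).subtype, Q.isPGroup'.map _, ?_⟩
  have h2 : f.comp (U.comap f).subtype = U.subtype.comp (f.subgroupComap U) := rfl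
  rw [Subgroup.map_map, h2, ← Subgroup.map_map]
  rw [Sylow.coe_mapSurjective] at hR
  rw [hR, ← MonoidHom.range_eq_map, Subgroup.range_subtype]

/-- A `p`-subgroup with image inside a Sylow subgroup `S` lies in a Sylow subgroup mapping onto `S`. -/
theorem exists_sylow_ge_map_eq [Finite G] {p : ℕ} [Fact p.Prime] {f : G →* H}
    (hf : Function.Surjective f) (S : Sylow p H) {P : Subgroup G} (hP : IsPGroup p P)
    (hle : P.map f ≤ (S : Subgroup H)) :
    ∃ S₁ : Sylow p G, P ≤ (S₁ : Subgroup G) ∧ (S₁ : Subgroup G).map f = S := by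
  classical
  have : Finite H := Finite.of_surjective f hf
  set K := (S : Subgroup H).comap f
  have hPK : P ≤ K := Subgroup.map_le_iff_le_comap.mp hle
  obtain ⟨Q, hQ⟩ := (hP.comap_subtype (K := K)).exists_le_sylow
  set S₁ := (Q : Subgroup K).map K.subtype with hS₁
  have hidx : ¬ p ∣ S₁.index := by
    rw [hS₁, Subgroup.index_map_subtype]
    intro h
    rcases (Nat.Prime.dvd_mul Fact.out).mp h with h | h
    · exact Q.not_dvd_index h
    · rw [show K.index = (S : Subgroup H).index from
        (S : Subgroup H).index_comap_of_surjective hf] at h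
      exact S.not_dvd_index h
  refine ⟨(Q.isPGroup'.map K.subtype).toSylow hidx, ?_, ?_⟩
  · intro x hx
    exact ⟨⟨x, hPK hx⟩, hQ hx, rfl⟩
  · have hT : IsPGroup p (((Q.isPGroup'.map K.subtype).toSylow hidx : Subgroup G).map f) :=
      (Sylow.isPGroup' _).map f
    let T := ((Q.isPGroup'.map K.subtype).toSylow hidx).mapSurjective hf
    have h1 : (T : Subgroup H) ≤ S := by
      rw [Sylow.coe_mapSurjective, Subgroup.map_le_iff_le_comap]
      rintro x ⟨y, _, rfl⟩
      exact y.2
    have h2 : (S : Subgroup H) = (T : Subgroup H) := T.is_maximal' S.isPGroup' h1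
    rw [h2, Sylow.coe_mapSurjective]

end CfsgLib.Inv54
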