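import Mathlib.GroupTheory.SpecificGroups.Alternating

/-!
# Finite facts about the alternating group of degree 5
-/

set_option autoImplicit false

namespace CfsgLib.Inv54.ExtraAlt

theorem involutions_alt :
    Fintype.card {k : alternatingGroup (Fin 5) // k ≠ 1 ∧ k * k = 1} = 15 := by decide +kernel

theorem pairs_alt :
    Fintype.card {p : alternatingGroup (Fin 5) × alternatingGroup (Fin 5) //
      (p.1 ≠ 1 ∧ p.1 * p.1 = 1) ∧ (p.2 * p.2 = 1 ∧ (p.1 * p.2) ^ 15 = 1)} = 195 := by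
  decide +kernel

theorem odd_exp_alt : ∀ g : alternatingGroup (Fin 5), g ^ 15 = 1 ∨ g * g = 1 := by decide +kernel

theorem involution_shape : ∀ k : alternatingGroup (Fin 5), k ≠ 1 → k * k = 1 →
    ∃ f i j : Fin 5, (k : Equiv.Perm (Fin 5)) f = f ∧
      (∀ l : Fin 5, (k : Equiv.Perm (Fin 5)) l = l → l = f) ∧
      (k : Equiv.Perm (Fin 5)) i ≠ i ∧ (k : Equiv.Perm (Fin 5)) j ≠ j ∧ j ≠ i ∧
      j ≠ (k : Equiv.Perm (Fin 5)) i := by
  decide +kernel

theorem involution_split : ∀ k : alternatingGroup (Fin 5), k * k = 1 →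
    ∀ i : Fin 5, (k : Equiv.Perm (Fin 5)) i = i →
      ∃ x : alternatingGroup (Fin 5), x ^ 3 = 1 ∧ (x⁻¹ * k) ^ 3 = 1 ∧
        (x : Equiv.Perm (Fin 5)) i = i := by
  decide +kernel

theorem two_transitive_alt : ∀ i j i' j' : Fin 5, i ≠ j → i' ≠ j' →
    ∃ σ : alternatingGroup (Fin 5),
      (σ : Equiv.Perm (Fin 5)) i = i' ∧ (σ : Equiv.Perm (Fin 5)) j = j' := by
  decide +kernel

end CfsgLib.Inv54.ExtraAlt
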