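import Mathlib
import Cfsg.Prelude.Def_Transfer
import Cfsg.Agent.Solvable.Frattini

/-!
# Products of a cocycle over the orbits of a small-class 2-group

`prod_eq_one_of_mem` and `prod_eq_one_of_normalizing`: if `E` is a 2-group with squares and
commutators in `{1, z}` and `c` is a cocycle with values in a group of exponent 2, then the
product of `c` over orbits moved by `E` is trivial, at elements of `E` and at 2-elements
normalising `E`.  `transferCocycle` is the cocycle of the transfer.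
-/

set_option autoImplicit false

namespace CfsgLib.Inv54

open MulAction

variable {G : Type*} [Group G] {Ω : Type*} [MulAction G Ω] {A : Type*} [CommGroup A]

/-- A cocycle for an action. -/
def IsCocycle (c : G → Ω → A) : Prop :=
  ∀ g h : G, ∀ q : Ω, c (g * h) q = c g (h • q) * c h q

theorem IsCocycle.one {c : G → Ω → A} (hc : IsCocycle c) (q : Ω) : c 1 q = 1 := by
  simpa using hc 1 1 q

/-- The elements stabilising a finite set of points. -/
def setStab (S : Finset Ω) : Subgroup G where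
  carrier := {g | ∀ p, g • p ∈ S ↔ p ∈ S}
  one_mem' := fun p => by rw [one_smul]
  mul_mem' := fun {a b} ha hb p => by rw [mul_smul, ha (b • p), hb p]
  inv_mem' := fun {a} ha p => by
    have := ha (a⁻¹ • p)
    rw [smul_inv_smul] at this
    exact this.symm

theorem smul_mem_of_setStab {S : Finset Ω} {g : G} (hg : g ∈ setStab S) {p : Ω} (hp : p ∈ S) :
    g • p ∈ S :=
  (hg p).mpr hp

theorem prod_smul_eq {S : Finset Ω} {g : G} (hg : g ∈ setStab S) (f : Ω → A) :
    ∏ p ∈ S, f (g • p) = ∏ p ∈ S, f p :=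
  Finset.prod_equiv (MulAction.toPerm g) (fun p => (hg p).symm) (fun _ _ => rfl)

theorem prod_mul {c : G → Ω → A} (hc : IsCocycle c) {S : Finset Ω} (g : G) {h : G}
    (hh : h ∈ setStab S) :
    ∏ p ∈ S, c (g * h) p = (∏ p ∈ S, c g p) * ∏ p ∈ S, c h p := by
  rw [Finset.prod_congr rfl fun p _ => hc g h p, Finset.prod_mul_distrib, prod_smul_eq hh]

open Classical in
/-- The orbit of a point under a subgroup, as a finite set. -/
noncomputable def orb [Fintype Ω] (K : Subgroup G) (q : Ω) : Finset Ω :=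
  Finset.univ.filter fun p => p ∈ MulAction.orbit K q

variable [Fintype Ω]

theorem mem_orb {K : Subgroup G} {p q : Ω} : p ∈ orb K q ↔ ∃ k ∈ K, k • q = p := by
  simp only [orb, Finset.mem_filter, Finset.mem_univ, true_and, MulAction.mem_orbit_iff,
    Subtype.exists, Subgroup.mk_smul, exists_prop]

theorem self_mem_orb (K : Subgroup G) (q : Ω) : q ∈ orb K q :=
  mem_orb.mpr ⟨1, K.one_mem, one_smul _ _⟩

theorem orb_subset_iff {K : Subgroup G} {S : Finset Ω} (hK : K ≤ setStab S) {q : Ω} (hq : q ∈ S) :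
    orb K q ⊆ S := by
  intro p hp
  obtain ⟨k, hk, rfl⟩ := mem_orb.mp hp
  exact smul_mem_of_setStab (hK hk) hq

theorem le_setStab_orb (K : Subgroup G) (q : Ω) : K ≤ setStab (orb K q) := by
  intro g hg p
  constructor
  · intro h
    obtain ⟨k, hk, hkp⟩ := mem_orb.mp h
    exact mem_orb.mpr ⟨g⁻¹ * k, K.mul_mem (K.inv_mem hg) hk, by rw [mul_smul, hkp, inv_smul_smul]⟩
  · intro h
    obtain ⟨k, hk, rfl⟩ := mem_orb.mp h
    exact mem_orb.mpr ⟨g * k, K.mul_mem hg hk, mul_smul _ _ _⟩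

theorem card_orb (K : Subgroup G) (q : Ω) : (orb K q).card = Nat.card (MulAction.orbit K q) := by
  rw [← Nat.card_eq_finsetCard]
  refine Nat.card_congr (Equiv.subtypeEquivRight fun p => ?_)
  simp [orb]

theorem exists_card_orb_eq [Finite G] {K : Subgroup G} (hK : IsPGroup 2 K) (q : Ω) :
    ∃ k, (orb K q).card = 2 ^ k := by
  have := Fact.mk Nat.prime_two
  rw [card_orb]
  exact hK.card_orbit q

theorem orb_eq_singleton {K : Subgroup G} {q : Ω} (h : (orb K q).card ≤ 1) {k : G} (hk : k ∈ K) :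
    k • q = q :=
  Finset.card_le_one.mp h _ (mem_orb.mpr ⟨k, hk, rfl⟩) _ (self_mem_orb K q)

/-- A product over an invariant set is trivial if it is so over each orbit. -/
theorem prod_eq_one_of_orbits {K : Subgroup G} {S : Finset Ω} (hK : K ≤ setStab S) {f : Ω → A}
    (h : ∀ p ∈ S, ∏ r ∈ orb K p, f r = 1) : ∏ p ∈ S, f p = 1 := by
  classical
  refine Finset.prod_cancels_of_partition_cancels (MulAction.orbitRel K Ω) fun p hp => ?_
  rw [show S.filter (fun r => (MulAction.orbitRel K Ω) r p) = orb K p from ?_]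
  · exact h p hp
  ext r
  constructor
  · intro hr
    rw [Finset.mem_filter] at hr
    obtain ⟨k, hk⟩ := MulAction.orbitRel_apply.mp hr.2
    exact mem_orb.mpr ⟨k, k.2, hk⟩
  · intro hr
    refine Finset.mem_filter.mpr ⟨orb_subset_iff hK hp hr, MulAction.orbitRel_apply.mpr ?_⟩
    obtain ⟨k, hk, hkr⟩ := mem_orb.mp hr
    exact ⟨⟨k, hk⟩, hkr⟩

/-- A transitive 2-group is split into two halves by a subgroup of index 2. -/
theorem exists_half [Finite G] {L : Subgroup G} (hL : IsPGroup 2 L) {q : Ω}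
    (hq : ¬ ∀ l ∈ L, l • q = q) :
    ∃ M : Subgroup G, M ≤ L ∧ (∀ l ∈ L, l • q = q → l ∈ M) ∧
      (∀ a ∈ L, ∀ b ∈ L, (a * b ∈ M ↔ (a ∈ M ↔ b ∈ M))) ∧ ∃ t ∈ L, t ∉ M := by
  have := Fact.mk Nat.prime_two
  have hne : (MulAction.stabilizer G q).subgroupOf L ≠ ⊤ := by
    rw [ne_eq, Subgroup.subgroupOf_eq_top]
    exact fun h => hq fun l hl => MulAction.mem_stabilizer_iff.mp (h hl)
  obtain ⟨M, hM, hSM⟩ := (eq_top_or_exists_le_coatom _).resolve_left hne
  have hidx := CfsgLib.Solvable.index_coatom hL hM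
  refine ⟨M.map L.subtype, Subgroup.map_subtype_le M, ?_, ?_, ?_⟩
  · intro l hl hlq
    exact ⟨⟨l, hl⟩, hSM (MulAction.mem_stabilizer_iff.mpr hlq), rfl⟩
  · intro a ha b hb
    have hmem : ∀ x (hx : x ∈ L), x ∈ M.map L.subtype ↔ (⟨x, hx⟩ : L) ∈ M := fun x hx =>
      ⟨by rintro ⟨y, hy, rfl⟩; exact hy, fun h => ⟨_, h, rfl⟩⟩
    rw [hmem _ (L.mul_mem ha hb), hmem a ha, hmem b hb]
    exact Subgroup.mul_mem_iff_of_index_two (a := (⟨a, ha⟩ : L)) (b := ⟨b, hb⟩) hidx
  · obtain ⟨t, -, ht⟩ := SetLike.exists_of_lt (lt_top_iff_ne_top.mpr hM.1)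
    refine ⟨t, t.2, ?_⟩
    rintro ⟨y, hy, hyt⟩
    exact ht (Subtype.ext hyt ▸ hy)

/-- The two halves of an orbit. -/
theorem prod_orb_halves {L M : Subgroup G} (hML : M ≤ L) {q : Ω}
    (hstab : ∀ l ∈ L, l • q = q → l ∈ M)
    (hM : ∀ a ∈ L, ∀ b ∈ L, (a * b ∈ M ↔ (a ∈ M ↔ b ∈ M))) {t : G} (htL : t ∈ L) (htM : t ∉ M)
    (f : Ω → A) : ∏ p ∈ orb L q, f p = ∏ p ∈ orb M q, f p * f (t • p) := by
  classical
  have hinj : Function.Injective fun p : Ω => t • p := MulAction.injective t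
  have hdis : Disjoint (orb M q) ((orb M q).image fun p => t • p) := by
    rw [Finset.disjoint_left]
    intro p hp hp'
    obtain ⟨m, hm, rfl⟩ := mem_orb.mp hp
    obtain ⟨r, hr, hrp⟩ := Finset.mem_image.mp hp'
    obtain ⟨m', hm', rfl⟩ := mem_orb.mp hr
    have h1 : (m⁻¹ * t * m') • q = q := by rw [mul_smul, mul_smul, hrp, inv_smul_smul]
    have hmL := hML hm
    have h2 := hstab _ (L.mul_mem (L.mul_mem (L.inv_mem hmL) htL) (hML hm')) h1
    apply htM
    have h3 := M.mul_mem (M.mul_mem hm h2) (M.inv_mem hm')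
    simpa [mul_assoc] using h3
  have hun : orb L q = orb M q ∪ (orb M q).image fun p => t • p := by
    ext p
    rw [Finset.mem_union]
    constructor
    · intro hp
      obtain ⟨l, hl, rfl⟩ := mem_orb.mp hp
      by_cases hlM : l ∈ M
      · exact Or.inl (mem_orb.mpr ⟨l, hlM, rfl⟩)
      · refine Or.inr (Finset.mem_image.mpr ⟨(t⁻¹ * l) • q, mem_orb.mpr ⟨_, ?_, rfl⟩,
          by rw [← mul_smul, mul_inv_cancel_left]⟩)
        refine (hM _ (L.inv_mem htL) _ hl).mpr (iff_of_false ?_ hlM)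
        exact fun h => htM (by simpa using M.inv_mem h)
    · rintro (hp | hp)
      · obtain ⟨m, hm, rfl⟩ := mem_orb.mp hp
        exact mem_orb.mpr ⟨m, hML hm, rfl⟩
      · obtain ⟨r, hr, rfl⟩ := Finset.mem_image.mp hp
        obtain ⟨m, hm, rfl⟩ := mem_orb.mp hr
        exact mem_orb.mpr ⟨t * m, L.mul_mem htL (hML hm), mul_smul _ _ _⟩
  rw [hun, Finset.prod_union hdis, Finset.prod_image hinj.injOn, Finset.prod_mul_distrib]

/-- Transfer to a subgroup of index 2, at an element of the subgroup. -/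
theorem prod_halves_mem {c : G → Ω → A} (hc : IsCocycle c) {L M : Subgroup G} (hML : M ≤ L)
    {q : Ω} (hstab : ∀ l ∈ L, l • q = q → l ∈ M)
    (hM : ∀ a ∈ L, ∀ b ∈ L, (a * b ∈ M ↔ (a ∈ M ↔ b ∈ M))) {t : G} (htL : t ∈ L) (htM : t ∉ M)
    {m : G} (hm : m ∈ M) :
    ∏ p ∈ orb L q, c m p = ∏ p ∈ orb M q, c (m * (t⁻¹ * m * t)) p := by
  have hm' : t⁻¹ * m * t ∈ M := by
    refine (hM _ (L.mul_mem (L.inv_mem htL) (hML hm)) _ htL).mpr (iff_of_false ?_ htM)
    refine fun h => ?_
    have := ((hM _ (L.inv_mem htL) _ (hML hm)).mp h).mpr hm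
    exact htM (by simpa using M.inv_mem this)
  rw [prod_orb_halves hML hstab hM htL htM,
    prod_mul hc m (le_setStab_orb M q hm'), Finset.prod_mul_distrib]
  congr 1
  have h1 : ∏ p ∈ orb M q, c m (t • p) * c t p
      = ∏ p ∈ orb M q, c t ((t⁻¹ * m * t) • p) * c (t⁻¹ * m * t) p := by
    refine Finset.prod_congr rfl fun p _ => ?_
    rw [← hc, ← hc, show t * (t⁻¹ * m * t) = m * t by group]
  rw [Finset.prod_mul_distrib, Finset.prod_mul_distrib, prod_smul_eq (le_setStab_orb M q hm'),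
    mul_comm] at h1
  exact mul_left_cancel h1

/-- Transfer to a subgroup of index 2, at an element outside the subgroup. -/
theorem prod_halves_not_mem {c : G → Ω → A} (hc : IsCocycle c) {L M : Subgroup G} (hML : M ≤ L)
    {q : Ω} (hstab : ∀ l ∈ L, l • q = q → l ∈ M)
    (hM : ∀ a ∈ L, ∀ b ∈ L, (a * b ∈ M ↔ (a ∈ M ↔ b ∈ M))) {t : G} (htL : t ∈ L) (htM : t ∉ M) :
    ∏ p ∈ orb L q, c t p = ∏ p ∈ orb M q, c (t * t) p := by
  rw [prod_orb_halves hML hstab hM htL htM]
  exact Finset.prod_congr rfl fun p _ => by rw [mul_comm, hc]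

/-- The product of a cocycle over the orbit of `D` vanishes on `D`. -/
theorem prod_orb_eq_one [Finite G] {c : G → Ω → A} (hc : IsCocycle c) (hA : ∀ a : A, a * a = 1)
    {z : G} (hz2 : z * z = 1) {D : Subgroup G} (hD : IsPGroup 2 D)
    (hzc : ∀ a ∈ D, z * a = a * z) (hsq : ∀ a ∈ D, a * a = 1 ∨ a * a = z)
    (hcom : ∀ a ∈ D, ∀ b ∈ D, a * b * a⁻¹ * b⁻¹ = 1 ∨ a * b * a⁻¹ * b⁻¹ = z) {q : Ω}
    (hbig : z • q = q → c z q ≠ 1 → 4 ≤ (orb D q).card)
    (hone : (∀ d ∈ D, d • q = q) → ∀ d ∈ D, c d q = 1) :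
    ∀ d ∈ D, ∏ p ∈ orb D q, c d p = 1 := by
  classical
  intro d hd
  by_cases hfix : ∀ d ∈ D, d • q = q
  · have : orb D q = {q} := by
      refine Finset.eq_singleton_iff_unique_mem.mpr ⟨self_mem_orb D q, fun p hp => ?_⟩
      obtain ⟨k, hk, rfl⟩ := mem_orb.mp hp
      exact hfix k hk
    rw [this, Finset.prod_singleton, hone hfix d hd]
  obtain ⟨M, hMD, hstab, hM, t, htD, htM⟩ := exists_half hD hfix
  have hχz : ∀ e ∈ M, (e = 1 ∨ e = z) → ∏ p ∈ orb M q, c e p = 1 := by
    rintro e he (rfl | rfl)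
    · exact Finset.prod_eq_one fun p _ => hc.one p
    by_cases hzq : e • q = q
    · have hconst : ∀ p ∈ orb M q, c e p = c e q := by
        intro p hp
        obtain ⟨m, hm, rfl⟩ := mem_orb.mp hp
        have h1 := hc e m q
        rw [hzc m (hMD hm), hc m e q, hzq, mul_comm] at h1
        exact (mul_right_cancel h1).symm
      rw [Finset.prod_congr rfl hconst, Finset.prod_const]
      by_cases h1 : c e q = 1
      · rw [h1, one_pow]
      obtain ⟨k, hk⟩ := exists_card_orb_eq (hD.to_le hMD) q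
      have h4 := hbig hzq h1
      have h2 : (orb D q).card ≤ 2 * (orb M q).card := by
        calc (orb D q).card ≤ (orb M q ∪ (orb M q).image fun p => t • p).card := by
              refine Finset.card_le_card fun p hp => ?_
              obtain ⟨l, hl, rfl⟩ := mem_orb.mp hp
              by_cases hlM : l ∈ M
              · exact Finset.mem_union_left _ (mem_orb.mpr ⟨l, hlM, rfl⟩)
              · refine Finset.mem_union_right _ (Finset.mem_image.mpr ⟨(t⁻¹ * l) • q,
                  mem_orb.mpr ⟨_, ?_, rfl⟩, by rw [← mul_smul, mul_inv_cancel_left]⟩)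
                refine (hM _ (D.inv_mem htD) _ hl).mpr (iff_of_false ?_ hlM)
                exact fun h => htM (by simpa using M.inv_mem h)
          _ ≤ _ := (Finset.card_union_le _ _).trans (by
              rw [two_mul]; exact Nat.add_le_add_left Finset.card_image_le _)
      rcases k with _ | k
      · omega
      · rw [hk, pow_succ', pow_mul, sq, hA, one_pow]
    · refine Finset.prod_involution (fun p _ => e • p) (fun p _ => ?_) (fun p hp _ h => ?_)
        (fun p hp => smul_mem_of_setStab (le_setStab_orb M q he) hp) (fun p _ => ?_)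
      · show c e p * c e (e • p) = 1
        rw [mul_comm, ← hc, hz2, hc.one]
      · apply hzq
        obtain ⟨m, hm, rfl⟩ := mem_orb.mp hp
        rw [← mul_smul, hzc m (hMD hm), mul_smul] at h
        exact MulAction.injective m h
      · show e • e • p = p
        rw [← mul_smul, hz2, one_smul]
  by_cases hdM : d ∈ M
  · rw [prod_halves_mem hc hMD hstab hM htD htM hdM]
    have hd' : t⁻¹ * d * t ∈ M := by
      refine (hM _ (D.mul_mem (D.inv_mem htD) hd) _ htD).mpr (iff_of_false ?_ htM)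
      exact fun h => htM (by simpa using M.inv_mem (((hM _ (D.inv_mem htD) _ hd).mp h).mpr hdM))
    refine hχz _ (M.mul_mem hdM hd') ?_
    have h1 := hcom (t⁻¹) (D.inv_mem htD) d hd
    rw [inv_inv] at h1
    have h2 : d * (t⁻¹ * d * t) = d * (t⁻¹ * d * t * d⁻¹) * d := by group
    rw [h2]
    rcases h1 with h1 | h1 <;> rw [h1] <;> rcases hsq d hd with h3 | h3
    · left; rw [mul_one, h3]
    · right; rw [mul_one, h3]
    · right; rw [← hzc d hd, mul_assoc, h3, mul_one]
    · left; rw [← hzc d hd, mul_assoc, h3, hz2]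
  · rw [prod_halves_not_mem hc hMD hstab hM hd hdM]
    exact hχz _ ((hM d hd d hd).mpr Iff.rfl) (hsq d hd)

/-- The product of a cocycle over an invariant set moved by `E` vanishes on `E`. -/
theorem prod_eq_one_of_mem [Finite G] {c : G → Ω → A} (hc : IsCocycle c) (hA : ∀ a : A, a * a = 1)
    {z : G} (hz2 : z * z = 1) {E : Subgroup G} (hE : IsPGroup 2 E)
    (hzc : ∀ a ∈ E, z * a = a * z) (hsq : ∀ a ∈ E, a * a = 1 ∨ a * a = z)
    (hcom : ∀ a ∈ E, ∀ b ∈ E, a * b * a⁻¹ * b⁻¹ = 1 ∨ a * b * a⁻¹ * b⁻¹ = z) {S : Finset Ω}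
    (hS : E ≤ setStab S) (hmove : ∀ q ∈ S, ∃ e ∈ E, e • q ≠ q)
    (hbig : ∀ q ∈ S, z • q = q → c z q ≠ 1 → 4 ≤ (orb E q).card) :
    ∀ e ∈ E, ∏ p ∈ S, c e p = 1 := by
  refine fun e he => prod_eq_one_of_orbits hS fun p hp => ?_
  refine prod_orb_eq_one hc hA hz2 hE hzc hsq hcom (hbig p hp) (fun h => ?_) e he
  obtain ⟨e', he', hne⟩ := hmove p hp
  exact absurd (h e' he') hne

/-- The product of a cocycle over an invariant set moved by `E` vanishes at 2-elements normalising
`E`, provided the small orbits are harmless. -/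
theorem prod_eq_one_of_normalizing [Finite G] {c : G → Ω → A} (hc : IsCocycle c)
    (hA : ∀ a : A, a * a = 1)
    {z : G} (hz2 : z * z = 1) {E : Subgroup G} (hE : IsPGroup 2 E)
    (hzc : ∀ a ∈ E, z * a = a * z) (hsq : ∀ a ∈ E, a * a = 1 ∨ a * a = z)
    (hcom : ∀ a ∈ E, ∀ b ∈ E, a * b * a⁻¹ * b⁻¹ = 1 ∨ a * b * a⁻¹ * b⁻¹ = z) :
    ∀ (S : Finset Ω) (x : G), IsPGroup 2 (Subgroup.zpowers x) →
      x ∈ Subgroup.normalizer (E : Set G) → E ≤ setStab S → x ∈ setStab S →
      (∀ q ∈ S, ∃ e ∈ E, e • q ≠ q) →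
      (∀ q ∈ S, z • q = q → c z q ≠ 1 → 8 ≤ (orb E q).card) →
      (∀ q ∈ S, (orb E q).card = 2 → ∀ e ∈ E, e • q = q → c e q = 1) →
      ∏ p ∈ S, c x p = 1 := by
  classical
  intro S
  induction S using Finset.strongInduction with
  | _ S ih =>
  intro x hx hxN hES hxS hmove h8 h2
  rcases S.eq_empty_or_nonempty with rfl | ⟨q, hq⟩
  · simp
  set L := E ⊔ Subgroup.zpowers x with hLdef
  have hL : IsPGroup 2 L := by
    rw [hLdef, sup_comm]
    exact hx.to_sup_of_normal_right' hE (Subgroup.zpowers_le.mpr hxN)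
  have hLS : L ≤ setStab S := sup_le hES (Subgroup.zpowers_le.mpr hxS)
  have hEL : E ≤ L := le_sup_left
  have hxL : x ∈ L := Subgroup.mem_sup_right (Subgroup.mem_zpowers x)
  have hOS : orb L q ⊆ S := orb_subset_iff hLS hq
  by_cases hOne : orb L q = S
  swap
  · -- split off one orbit
    have hO : L ≤ setStab (orb L q) := le_setStab_orb L q
    have hsub : orb L q ⊂ S := Finset.ssubset_iff_subset_ne.mpr ⟨hOS, hOne⟩
    have hsd : S \ orb L q ⊂ S := Finset.sdiff_ssubset hOS ⟨q, self_mem_orb L q⟩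
    have hdiff : L ≤ setStab (S \ orb L q) := fun g hg p => by
      rw [Finset.mem_sdiff, Finset.mem_sdiff, hLS hg p, hO hg p]
    rw [← Finset.prod_sdiff hOS, ih _ hsub x hx hxN (hEL.trans hO) (hO hxL)
        (fun r hr => hmove r (hOS hr)) (fun r hr => h8 r (hOS hr)) (fun r hr => h2 r (hOS hr)),
      ih _ hsd x hx hxN (hEL.trans hdiff) (hdiff hxL)
        (fun r hr => hmove r (Finset.mem_sdiff.mp hr).1) (fun r hr => h8 r (Finset.mem_sdiff.mp hr).1)
        (fun r hr => h2 r (Finset.mem_sdiff.mp hr).1), one_mul]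
  have hnfix : ¬ ∀ l ∈ L, l • q = q := fun h => by
    obtain ⟨e, he, hne⟩ := hmove q hq
    exact hne (h e (hEL he))
  obtain ⟨M, hML, hstab, hM, t₀, ht₀L, ht₀M⟩ := exists_half hL hnfix
  by_cases hEM : E ≤ M
  · -- `x` swaps the halves
    have hxM : x ∉ M := fun h => ht₀M ((sup_le hEM (Subgroup.zpowers_le.mpr h) : L ≤ M) ht₀L)
    have hx2 : x * x ∈ M := (hM x hxL x hxL).mpr Iff.rfl
    rw [← hOne, prod_halves_not_mem hc hML hstab hM hxL hxM]
    have hsub : orb M q ⊂ S := by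
      refine Finset.ssubset_iff_subset_ne.mpr ⟨orb_subset_iff (hML.trans hLS) hq, fun h => ?_⟩
      obtain ⟨m, hm, hmq⟩ := mem_orb.mp (h ▸ smul_mem_of_setStab hxS hq : x • q ∈ orb M q)
      have h1 : (x⁻¹ * m) • q = q := by rw [mul_smul, hmq, inv_smul_smul]
      have h2' := hstab _ (L.mul_mem (L.inv_mem hxL) (hML hm)) h1
      exact hxM (by simpa using M.mul_mem hm (M.inv_mem h2'))
    refine ih _ hsub (x * x) (hx.to_le ?_) (mul_mem hxN hxN)
      (hEM.trans (le_setStab_orb M q)) (le_setStab_orb M q hx2)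
      (fun r hr => hmove r (hsub.subset hr)) (fun r hr => h8 r (hsub.subset hr))
      (fun r hr => h2 r (hsub.subset hr))
    rw [Subgroup.zpowers_le]
    exact mul_mem (Subgroup.mem_zpowers x) (Subgroup.mem_zpowers x)
  obtain ⟨t, htE, htM⟩ := SetLike.not_le_iff_exists.mp hEM
  have htL : t ∈ L := hEL htE
  have hEχ : ∀ e ∈ E, ∏ p ∈ S, c e p = 1 :=
    prod_eq_one_of_mem hc hA hz2 hE hzc hsq hcom hES hmove fun r hr h1 h1' =>
      le_trans (by norm_num) (h8 r hr h1 h1')
  obtain ⟨x', hx'L, hx'M, hx'N, hxx'⟩ : ∃ x', x' ∈ L ∧ x' ∈ M ∧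
      x' ∈ Subgroup.normalizer (E : Set G) ∧ ∏ p ∈ S, c x p = ∏ p ∈ S, c x' p := by
    by_cases hxM : x ∈ M
    · exact ⟨x, hxL, hxM, hxN, rfl⟩
    · refine ⟨x * t, L.mul_mem hxL htL, (hM x hxL t htL).mpr (iff_of_false hxM htM),
        mul_mem hxN (Subgroup.le_normalizer htE), ?_⟩
      rw [prod_mul hc x (hES htE), hEχ t htE, mul_one]
  rw [hxx', ← hOne, prod_halves_mem hc hML hstab hM htL htM hx'M]
  set w := x'⁻¹ * (t⁻¹ * x' * t) with hw
  have htx' : t⁻¹ * x' * t ∈ M := by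
    refine (hM _ (L.mul_mem (L.inv_mem htL) hx'L) _ htL).mpr (iff_of_false ?_ htM)
    exact fun h => htM (by simpa using M.inv_mem (((hM _ (L.inv_mem htL) _ hx'L).mp h).mpr hx'M))
  have hwM : w ∈ M := M.mul_mem (M.inv_mem hx'M) htx'
  have hwE : w ∈ E := by
    rw [hw, show x'⁻¹ * (t⁻¹ * x' * t) = (x'⁻¹ * t⁻¹ * x') * t by group]
    exact E.mul_mem ((Subgroup.mem_normalizer_iff''.mp hx'N _).mp (E.inv_mem htE)) htE
  rw [show x' * (t⁻¹ * x' * t) = x' * x' * w by rw [hw]; group,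
    prod_mul hc _ (le_setStab_orb M q hwM), prod_mul hc _ (le_setStab_orb M q hx'M), hA, one_mul]
  -- the orbits of `E ⊓ M` in the half
  refine prod_eq_one_of_orbits (K := E ⊓ M) (inf_le_right.trans (le_setStab_orb M q)) fun p hp => ?_
  have hpS : p ∈ S := orb_subset_iff (hML.trans hLS) hq hp
  have hcard : (orb E p).card ≤ 2 * (orb (E ⊓ M) p).card := by
    calc (orb E p).card ≤ (orb (E ⊓ M) p ∪ (orb (E ⊓ M) p).image fun r => t • r).card := by
          refine Finset.card_le_card fun r hr => ?_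
          obtain ⟨e, he, rfl⟩ := mem_orb.mp hr
          by_cases heM : e ∈ M
          · exact Finset.mem_union_left _ (mem_orb.mpr ⟨e, ⟨he, heM⟩, rfl⟩)
          · refine Finset.mem_union_right _ (Finset.mem_image.mpr ⟨(t⁻¹ * e) • p,
              mem_orb.mpr ⟨_, ⟨E.mul_mem (E.inv_mem htE) he, ?_⟩, rfl⟩,
              by rw [← mul_smul, mul_inv_cancel_left]⟩)
            refine (hM _ (L.inv_mem htL) _ (hEL he)).mpr (iff_of_false ?_ heM)
            exact fun h => htM (by simpa using M.inv_mem h)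
      _ ≤ _ := (Finset.card_union_le _ _).trans (by
          rw [two_mul]; exact Nat.add_le_add_left Finset.card_image_le _)
  refine prod_orb_eq_one hc hA hz2 (hE.to_le inf_le_left) (fun a ha => hzc a ha.1)
    (fun a ha => hsq a ha.1) (fun a ha b hb => hcom a ha.1 b hb.1) (q := p) (fun h1 h1' => ?_)
    (fun hfix d hd => ?_) w ⟨hwE, hwM⟩
  · have := h8 p hpS h1 h1'
    omega
  · have h1 : orb (E ⊓ M) p = {p} := by
      refine Finset.eq_singleton_iff_unique_mem.mpr ⟨self_mem_orb _ p, fun r hr => ?_⟩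
      obtain ⟨k, hk, rfl⟩ := mem_orb.mp hr
      exact hfix k hk
    rw [h1, Finset.card_singleton] at hcard
    obtain ⟨e, he, hne⟩ := hmove p hpS
    have h3 : 1 < (orb E p).card :=
      Finset.one_lt_card.mpr ⟨_, mem_orb.mpr ⟨e, he, rfl⟩, _, self_mem_orb E p, hne⟩
    exact h2 p hpS (by omega) d hd.1 (hfix d hd)

/-- The cocycle of the transfer of `φ`. -/
noncomputable def transferCocycle {H : Subgroup G} (φ : H →* A) (g : G) (q : G ⧸ H) : A :=
  φ ⟨(g • q).out⁻¹ * (g * q.out), QuotientGroup.eq.mp (by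
    rw [← smul_eq_mul, ← MulAction.Quotient.smul_mk, QuotientGroup.out_eq', QuotientGroup.out_eq'])⟩

theorem isCocycle_transferCocycle {H : Subgroup G} (φ : H →* A) :
    IsCocycle (transferCocycle φ) := by
  intro g h q
  simp only [transferCocycle, ← map_mul]
  congr 1
  ext
  simp only [Subgroup.coe_mul, mul_smul]
  group

theorem transferCocycle_of_fix {H : Subgroup G} (φ : H →* A) {g : G} {q : G ⧸ H} (hfix : g • q = q)
    (hmem : q.out⁻¹ * g * q.out ∈ H) :
    transferCocycle φ g q = φ ⟨q.out⁻¹ * g * q.out, hmem⟩ := by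
  simp only [transferCocycle]
  congr 2
  rw [hfix, mul_assoc]

theorem out_conj_mem_of_fix {H : Subgroup G} {g : G} {q : G ⧸ H} (hfix : g • q = q) :
    q.out⁻¹ * g * q.out ∈ H := by
  rw [mul_assoc]
  refine QuotientGroup.eq.mp ?_
  rw [← smul_eq_mul, ← MulAction.Quotient.smul_mk, QuotientGroup.out_eq', hfix]

/-- The product of the transfer cocycle is trivial when `G` has no nontrivial 2-quotient. -/
theorem prod_transferCocycle_eq_one [Finite G] {H : Subgroup G} [Fintype (G ⧸ H)] (φ : H →* A)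
    (hA : ∀ a : A, a * a = 1) (hres : Cfsg.pResidual 2 G = ⊤) (g : G) :
    ∏ q, transferCocycle φ g q = 1 := by
  let V : G →* A := MonoidHom.mk' (fun g => ∏ q, transferCocycle φ g q) fun a b =>
    prod_mul (isCocycle_transferCocycle φ) a (fun p => by simp)
  have h1 : Cfsg.pResidual 2 G ≤ V.ker := by
    refine (Subgroup.closure_le _).mpr fun a ha => MonoidHom.mem_ker.mpr ?_
    have h2 : orderOf (V a) ∣ 2 := orderOf_dvd_of_pow_eq_one (by rw [sq, hA])
    exact orderOf_eq_one_iff.mp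
      (Nat.eq_one_of_dvd_coprimes ha (orderOf_map_dvd V a) h2)
  exact MonoidHom.mem_ker.mp (h1 (hres ▸ Subgroup.mem_top g))

end CfsgLib.Inv54
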