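import Cfsg.Agent.Inv54.DihedralSigmaPrincipal

/-!
# The degree of `f` when the core of `C(σ ^ 2)` is not trivial

For a nontrivial linear character `β` of the core `K` exactly four characters have a nonzero
`β`-coefficient at `σ ^ 2`; their values at `σ * τ` are at most 2 in absolute value, and the
`β`-weighted count of pairs of conjugates of `σ * τ` forces `x + δ = 2`.
-/

set_option autoImplicit false
set_option linter.style.haveILetI false
set_option linter.unusedSectionVars false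

namespace CfsgLib.Inv54.DihedralSigma

open Cfsg CfsgLib.Blocks CfsgLib.PrincipalBlock CfsgLib.Characters CfsgLib.Inv54.DihedralBlock
open CfsgLib.Inv54.SectionSums
open scoped ComplexConjugate IsMulCommutative

universe u

variable {H : Type u} [Group H] [Fintype H] {P : Sylow 2 H} {σ τ : H} {X W : Subgroup H}
  {M : Ideal AlgInt} [M.IsPrime]

theorem half_of_odd {A : Type*} [Group A] [Finite A] (h : Odd (Nat.card A)) (a : A) :
    ∃ b : A, b * b = a := by
  obtain ⟨j, hj⟩ := h
  refine ⟨a ^ (j + 1), ?_⟩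
  rw [← pow_add, show j + 1 + (j + 1) = 2 * j + 1 + 1 by ring, pow_succ, ← hj, pow_card_eq_one',
    one_mul]

theorem hom_sq_eq {A : Type*} [Group A] [Finite A] (h : Odd (Nat.card A)) (f g : A →* ℂˣ)
    (hfg : ∀ a, f (a * a) = g (a * a)) : f = g := by
  refine MonoidHom.ext fun a => ?_
  obtain ⟨b, rfl⟩ := half_of_odd h a
  exact hfg b

namespace Data

variable (D : Data P σ τ X W)
include D

/-- Conjugation by `σ ^ 2` on `W`. -/
noncomputable def cT : W →* W where
  toFun l := ⟨σ ^ 2 * l * (σ ^ 2)⁻¹, D.t_conj_W l.2⟩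
  map_one' := Subtype.ext (by simp)
  map_mul' a b := Subtype.ext (by simp [mul_assoc])

theorem cT_coe (l : W) : (D.cT l : H) = σ ^ 2 * l * (σ ^ 2)⁻¹ := rfl

theorem cT_cT (l : W) : D.cT (D.cT l) = l := by
  refine Subtype.ext ?_
  rw [D.cT_coe, D.cT_coe, show σ ^ 2 * (σ ^ 2 * (l : H) * (σ ^ 2)⁻¹) * (σ ^ 2)⁻¹ =
    σ ^ 2 * σ ^ 2 * l * (σ ^ 2 * σ ^ 2)⁻¹ by group, D.setup.J_sq]
  group

theorem cT_core (k : D.setup.core) (hk : (k : H) ∈ W) : D.cT ⟨k, hk⟩ = ⟨k, hk⟩ :=
  Subtype.ext (by rw [D.cT_coe, D.core_t k.2, mul_inv_cancel_right])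

/-- `l * l^t` lies in the core. -/
theorem norm_mem (l : W) : (l : H) * (D.cT l : H) ∈ D.setup.core := by
  refine D.mem_core (Subgroup.mem_centralizer_singleton_iff.2 ?_)
    (D.W_odd.of_dvd_nat (W.orderOf_dvd_natCard (mul_mem l.2 (D.cT l).2)))
  have e : σ ^ 2 * ((l : H) * (D.cT l : H)) * (σ ^ 2)⁻¹ = (D.cT l : H) * (D.cT (D.cT l) : H) := by
    simp only [D.cT_coe]; group
  rw [D.cT_cT, D.W_comm _ (D.cT l).2 _ l.2, mul_inv_eq_iff_eq_mul] at e
  exact e.symm

/-- The projection of `W` onto the core. -/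
noncomputable def proj : W →* D.setup.core where
  toFun l := ⟨_, D.norm_mem l⟩ ^ ((Nat.card D.setup.core + 1) / 2)
  map_one' := by
    have h : (⟨_, D.norm_mem 1⟩ : D.setup.core) = 1 := Subtype.ext (by simp)
    rw [h, one_pow]
  map_mul' a b := by
    have h : (⟨_, D.norm_mem (a * b)⟩ : D.setup.core) =
        ⟨_, D.norm_mem a⟩ * ⟨_, D.norm_mem b⟩ := by
      refine Subtype.ext ?_
      show ((a : H) * b) * (D.cT (a * b) : H) = a * (D.cT a : H) * (b * (D.cT b : H))
      rw [map_mul, Subgroup.coe_mul, mul_assoc (a : H), ← mul_assoc (b : H),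
        D.W_comm _ b.2 _ (D.cT a).2, mul_assoc (D.cT a : H), ← mul_assoc]
    have hc : Commute (⟨_, D.norm_mem a⟩ : D.setup.core) ⟨_, D.norm_mem b⟩ :=
      Subtype.ext (D.core_comm (D.norm_mem a) (D.norm_mem b))
    rw [h, hc.mul_pow]

theorem proj_core (k : D.setup.core) (hk : (k : H) ∈ W) : D.proj ⟨k, hk⟩ = k := by
  have h : (⟨_, D.norm_mem ⟨k, hk⟩⟩ : D.setup.core) = k * k := by
    refine Subtype.ext ?_
    show (k : H) * (D.cT ⟨k, hk⟩ : H) = k * k
    rw [D.cT_core k hk]
  obtain ⟨j, hj⟩ := D.setup.core_odd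
  show (⟨_, D.norm_mem ⟨k, hk⟩⟩ : D.setup.core) ^ ((Nat.card D.setup.core + 1) / 2) = k
  rw [h, ← pow_two, ← pow_mul, show 2 * ((Nat.card D.setup.core + 1) / 2) =
    Nat.card D.setup.core + 1 by omega, pow_succ, pow_card_eq_one', one_mul]

theorem proj_cT (l : W) : D.proj (D.cT l) = D.proj l := by
  show (⟨_, D.norm_mem (D.cT l)⟩ : D.setup.core) ^ _ = ⟨_, D.norm_mem l⟩ ^ _
  congr 1
  refine Subtype.ext ?_
  show (D.cT l : H) * (D.cT (D.cT l) : H) = l * (D.cT l : H)
  rw [D.cT_cT, D.W_comm _ (D.cT l).2 _ l.2]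

/-- Restriction to the core. -/
noncomputable def res (θ : W →* ℂˣ) : D.setup.core →* ℂˣ :=
  θ.comp (Subgroup.inclusion fun _ hk => D.core_le_W hk)

theorem res_comp_proj (γ : D.setup.core →* ℂˣ) : D.res (γ.comp D.proj) = γ := by
  refine MonoidHom.ext fun k => ?_
  show γ (D.proj ⟨k, D.core_le_W k.2⟩) = γ k
  rw [D.proj_core]

theorem eq_comp_proj (θ : W →* ℂˣ) (h : θ.comp D.cT = θ) : θ = (D.res θ).comp D.proj := by
  refine hom_sq_eq D.W_odd _ _ fun l => ?_
  have hk : (l : H) * (D.cT l : H) ∈ W := mul_mem l.2 (D.cT l).2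
  have e1 : θ (l * l) = θ (l * D.cT l) := by
    rw [map_mul, map_mul, show θ (D.cT l) = θ l from DFunLike.congr_fun h l]
  have e2 : ∀ γ : D.setup.core →* ℂˣ, γ.comp D.proj (l * l) = γ.comp D.proj (l * D.cT l) := by
    intro γ
    simp only [MonoidHom.comp_apply, map_mul, D.proj_cT]
  rw [e1, e2]
  show θ (l * D.cT l) = θ ⟨(D.proj (l * D.cT l) : H), _⟩
  congr 1
  refine Subtype.ext ?_
  show (l : H) * (D.cT l : H) = (D.proj (l * D.cT l) : H)
  rw [show l * D.cT l = (⟨((⟨_, D.norm_mem l⟩ : D.setup.core) : H), hk⟩ : W) from rfl,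
    D.proj_core]

open Classical in
theorem stab_card [Fintype D.setup.core] {γ γ' : D.setup.core →* ℂˣ} (hne : γ'⁻¹ ≠ γ') :
    (Finset.univ.filter fun g : H => g * σ ^ 2 = σ ^ 2 * g ∧
      ∀ l : D.setup.core, ext γ (g * l * g⁻¹) = (γ' l : ℂ)).card =
      if γ = γ' ∨ γ = γ'⁻¹ then 4 * Nat.card D.setup.core else 0 := by
  let S := D.setup
  set C2 := Finset.univ.filter fun g : H => g * σ ^ 2 = σ ^ 2 * g ∧ g * (σ * τ) = σ * τ * g with hC2
  have hC2card : C2.card = 4 * Nat.card S.core := by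
    have h : S.core ⊓ Subgroup.centralizer ({σ * τ} : Set H) = S.core := inf_eq_left.2 fun k hk =>
      Subgroup.mem_centralizer_singleton_iff.2 (D.fixes k hk).symm
    have h2 := S.card_pair_centralizer (t := σ * τ) D.u_mem
    haveI := S.ne_zero
    rw [h, show Nat.card ((P : Subgroup H) ⊓ Subgroup.centralizer ({σ * τ} : Set H) :
      Subgroup H) = 4 by rw [← (D.refl_forms).2.1]; exact S.card_P_refl 3] at h2
    rw [mul_comm, ← h2, Nat.card_eq_fintype_card]
    refine (Fintype.card_of_subtype _ fun g => ?_).symm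
    simp [hC2, Subgroup.mem_centralizer_iff, eq_comm]
  have hC3 : (Finset.univ.filter fun g : H => g * σ ^ 2 = σ ^ 2 * g).card =
      Nat.card S.core * 2 ^ 3 := by
    rw [← D.card_C_t, Nat.card_eq_fintype_card]
    refine (Fintype.card_of_subtype _ fun g => ?_).symm
    simp [Subgroup.mem_centralizer_singleton_iff]
  have hfix : ∀ g : H, g * σ ^ 2 = σ ^ 2 * g →
      ((∀ l : S.core, ext γ (g * l * g⁻¹) = (γ' l : ℂ)) ↔
        if g * (σ * τ) = σ * τ * g then γ = γ' else γ = γ'⁻¹) := by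
    intro g hg
    rcases D.act (Subgroup.mem_centralizer_singleton_iff.2 hg) with ⟨h1, h2⟩ | ⟨h1, h2⟩
    · rw [if_pos h1]
      constructor
      · intro h
        refine MonoidHom.ext fun l => Units.ext ?_
        rw [← h l, h2 l l.2, ext_coe]
      · rintro rfl l
        rw [h2 l l.2, ext_coe]
    · rw [if_neg h1]
      constructor
      · intro h
        refine MonoidHom.ext fun l => Units.ext ?_
        have := h (l⁻¹ : S.core)
        rw [h2 _ (l⁻¹ : S.core).2, Subgroup.coe_inv, inv_inv, ext_coe, map_inv] at this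
        rw [this, MonoidHom.inv_apply]
      · rintro rfl l
        rw [h2 l l.2, ← Subgroup.coe_inv, ext_coe, map_inv, MonoidHom.inv_apply, inv_inv]
  split_ifs with h
  · rw [← hC2card]
    rcases h with rfl | rfl
    · congr 1
      ext g
      simp only [Finset.mem_filter, Finset.mem_univ, true_and, hC2]
      refine and_congr_right fun hg => ?_
      rw [hfix g hg]
      by_cases h1 : g * (σ * τ) = σ * τ * g
      · simp [h1]
      · simp [h1, hne.symm]
    · rw [show (Finset.univ.filter fun g : H => g * σ ^ 2 = σ ^ 2 * g ∧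
        ∀ l : S.core, ext γ'⁻¹ (g * l * g⁻¹) = (γ' l : ℂ)) =
        (Finset.univ.filter fun g : H => g * σ ^ 2 = σ ^ 2 * g) \ C2 from ?_,
        Finset.card_sdiff_of_subset fun g hg => by
          simp only [hC2, Finset.mem_filter] at hg ⊢; exact ⟨hg.1, hg.2.1⟩, hC3, hC2card]
      · omega
      · ext g
        simp only [Finset.mem_filter, Finset.mem_univ, true_and, hC2, Finset.mem_sdiff]
        constructor
        · rintro ⟨hg, hl⟩
          refine ⟨hg, fun hh => hne ?_⟩
          have := (hfix g hg).1 hl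
          rwa [if_pos hh.2] at this
        · rintro ⟨hg, hn⟩
          refine ⟨hg, (hfix g hg).2 ?_⟩
          rw [if_neg fun e => hn ⟨hg, e⟩]
  · rw [Finset.card_eq_zero, Finset.filter_eq_empty_iff]
    rintro g - ⟨hg, hl⟩
    have h1 := (hfix g hg).1 hl
    split_ifs at h1 <;> tauto

open Classical in
theorem stab_card_W [Fintype W] (θ θ' : W →* ℂˣ) :
    (Finset.univ.filter fun g : H => g * (σ * τ) = σ * τ * g ∧
      ∀ l : W, ext θ (g * l * g⁻¹) = (θ' l : ℂ)).card =
      (if θ = θ' then 2 * Nat.card W else 0) +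
        if θ.comp D.cT = θ' then 2 * Nat.card W else 0 := by
  let p : Bool → Bool → H := fun i j =>
    (bif i then σ ^ 2 else 1) * (bif j then σ * τ else 1)
  have hpu : ∀ i j, p i j * (σ * τ) = σ * τ * p i j := by
    intro i j
    have h1 : Commute (bif i then σ ^ 2 else 1) (σ * τ) := by
      cases i
      · exact Commute.one_left _
      · exact D.u_commutes_t.symm
    have h2 : Commute (bif j then σ * τ else 1) (σ * τ) := by
      cases j
      · exact Commute.one_left _
      · exact Commute.refl _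
    exact (h1.mul_left h2).eq
  have hj : ∀ j, ∀ l ∈ W,
      (bif j then σ * τ else 1) * l * (bif j then σ * τ else 1)⁻¹ = l := by
    intro j l hl
    cases j
    · simp
    · rw [cond_true, mul_inv_eq_iff_eq_mul]
      exact (Subgroup.mem_centralizer_singleton_iff.1 (D.W_le hl)).symm
  have hact : ∀ (a : W) (i j : Bool),
      (∀ l : W, ext θ ((a : H) * p i j * l * ((a : H) * p i j)⁻¹) = (θ' l : ℂ)) ↔
        (bif i then θ.comp D.cT else θ) = θ' := by
    intro a i j
    have e : ∀ l : W, ext θ ((a : H) * p i j * l * ((a : H) * p i j)⁻¹) =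
        (((bif i then θ.comp D.cT else θ) l : ℂˣ) : ℂ) := by
      intro l
      have e1 : (a : H) * p i j * l * ((a : H) * p i j)⁻¹ = a * ((bif i then σ ^ 2 else 1) *
          ((bif j then σ * τ else 1) * l * (bif j then σ * τ else 1)⁻¹) *
            (bif i then σ ^ 2 else 1)⁻¹) * (a : H)⁻¹ := by simp only [p]; group
      rw [e1, hj j l l.2]
      cases i
      · simp [D.W_comm _ a.2 _ l.2, ext_coe]
      · rw [cond_true, cond_true, D.W_comm _ a.2 _ (D.t_conj_W l.2), mul_inv_cancel_right,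
          ← D.cT_coe, ext_coe, MonoidHom.comp_apply]
    constructor
    · intro h
      exact MonoidHom.ext fun l => Units.ext ((e l).symm.trans (h l))
    · intro h l
      rw [e l, h]
  have hcount : ∀ (Q : H → Prop) [DecidablePred Q],
      (Finset.univ.filter fun g : H => g * (σ * τ) = σ * τ * g ∧ Q g).card =
        (Finset.univ.filter fun x : W × Bool × Bool => Q ((x.1 : H) * p x.2.1 x.2.2)).card := by
    intro Q _
    symm
    refine Finset.card_bij (fun x _ => (x.1 : H) * p x.2.1 x.2.2) ?_ ?_ ?_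
    · intro x hx
      refine Finset.mem_filter.2 ⟨Finset.mem_univ _, ?_, (Finset.mem_filter.1 hx).2⟩
      exact (Commute.mul_left (show Commute (x.1 : H) (σ * τ) from
        Subgroup.mem_centralizer_singleton_iff.1 (D.W_le x.1.2)) (hpu x.2.1 x.2.2)).eq
    · set C := Subgroup.centralizer ({σ * τ} : Set H)
      haveI := Fintype.ofFinite C
      let f : W × Bool × Bool → C := fun x => ⟨(x.1 : H) * p x.2.1 x.2.2,
        mul_mem (D.W_le x.1.2) (Subgroup.mem_centralizer_singleton_iff.2 (hpu _ _))⟩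
      have hsurj : Function.Surjective f := fun g => by
        obtain ⟨l, hl, i, j, h⟩ := D.decomp_u g.2
        exact ⟨(⟨l, hl⟩, i, j), Subtype.ext h.symm⟩
      have hbij : Function.Bijective f := (Fintype.bijective_iff_surjective_and_card f).2 ⟨hsurj,
        by rw [← Nat.card_eq_fintype_card, ← Nat.card_eq_fintype_card, Nat.card_prod,
            Nat.card_prod, D.W_card, Nat.card_eq_fintype_card (α := Bool), Fintype.card_bool]
           ring⟩
      intro x _ y _ e
      exact hbij.1 (Subtype.ext e)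
    · intro g hg
      obtain ⟨-, h1, h2⟩ := Finset.mem_filter.1 hg
      obtain ⟨l, hl, i, j, h⟩ := D.decomp_u (Subgroup.mem_centralizer_singleton_iff.2 h1)
      exact ⟨(⟨l, hl⟩, i, j), Finset.mem_filter.2 ⟨Finset.mem_univ _, h ▸ h2⟩, h.symm⟩
  rw [hcount fun g => ∀ l : W, ext θ (g * l * g⁻¹) = (θ' l : ℂ)]
  simp only [hact]
  rw [Finset.card_filter, Fintype.sum_prod_type]
  simp only [Fintype.sum_prod_type, Fintype.sum_bool, cond_true, cond_false, Finset.sum_const,
    Finset.card_univ, ← Nat.card_eq_fintype_card, smul_eq_mul]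
  split_ifs <;> simp only [Finset.sum_const, Finset.card_univ, ← Nat.card_eq_fintype_card,
    smul_eq_mul, mul_zero] <;> ring

theorem stab_card_of_invariant {θ : W →* ℂˣ} (h : θ.comp D.cT = θ) [Fintype W] :
    (Nat.card W : ℤ) * 4 = (((if θ = θ then 2 * Nat.card W else 0) +
      if θ.comp D.cT = θ then 2 * Nat.card W else 0 : ℕ) : ℤ) := by
  rw [if_pos rfl, if_pos h]
  push_cast
  ring

theorem nf_orth {y : H} (hy : orderOf y = 2) {L : Subgroup H} [Fintype L]
    (hc : ∀ l ∈ L, y * l = l * y) (hodd : Odd (Nat.card L))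
    (hn : ∀ g ∈ Subgroup.centralizer ({y} : Set H), ∀ l ∈ L, g * l * g⁻¹ ∈ L)
    (γ γ' : L →* ℂˣ) (N : ℕ) (hN : ∀ [DecidableEq H],
      (Finset.univ.filter fun g : H => g * y = y * g ∧
        ∀ l : L, ext γ (g * l * g⁻¹) = (γ' l : ℂ)).card = N) :
    (Nat.card L : ℤ) * ∑ χ : IrrCharacter H, nf y γ χ * nf y γ' χ = N := by
  classical
  have h0 := xsum_orth ⟨1, by rw [hy, pow_one]⟩ hc hodd hn γ γ'
  rw [@hN (Classical.decEq H)] at h0
  simp only [xsum_eq_nf hy hc, map_mul, Complex.conj_natCast, map_intCast] at h0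
  rw [Finset.sum_congr rfl (g := fun χ : IrrCharacter H => (Nat.card L : ℂ) *
    ((Nat.card L : ℂ) * ((nf y γ χ * nf y γ' χ : ℤ) : ℂ))) fun χ _ => by push_cast; ring,
    ← Finset.mul_sum, ← Finset.mul_sum] at h0
  have := mul_left_cancel₀ (Nat.cast_ne_zero.2 Nat.card_pos.ne') h0
  exact_mod_cast this

theorem nf_twist_t [Fintype D.setup.core] (γ : D.setup.core →* ℂˣ) (χ : IrrCharacter H) :
    nf (σ ^ 2) γ (twist D.index_two χ) = nf (σ ^ 2) γ χ := by
  refine nf_eq D.t_order D.hcK ?_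
  rw [← xsum_eq_nf D.t_order D.hcK, xsum_twist γ (c := fun g => (signHom D.index_two g : ℂ))
    (a := 1) (twist_apply D.index_two χ) fun l => by
      rw [signHom_mem D.index_two (mul_mem D.t_mem (D.core_le_X l.2)), map_one], one_mul]

theorem nf_twist_u {L : Subgroup H} [Fintype L] (hc : ∀ l ∈ L, σ * τ * l = l * (σ * τ))
    (hL : ∀ l ∈ L, l ∈ X) (γ : L →* ℂˣ) (χ : IrrCharacter H) :
    nf (σ * τ) γ (twist D.index_two χ) = -nf (σ * τ) γ χ := by
  refine nf_eq D.u_order hc ?_
  rw [xsum_twist γ (c := fun g => (signHom D.index_two g : ℂ)) (a := -1)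
    (twist_apply D.index_two χ) fun l => by
      rw [signHom_notMem D.index_two
        (fun h => D.u_not_mem ((Subgroup.mul_mem_cancel_right _ (hL l l.2)).1 h)), map_neg,
        map_one], xsum_eq_nf D.u_order hc]
  push_cast
  ring

theorem W_le_X : ∀ l ∈ W, l ∈ X := fun _ hl =>
  D.odd_mem (D.W_odd.of_dvd_nat (W.orderOf_dvd_natCard hl))

theorem nf_comp_cT [Fintype W] (θ : W →* ℂˣ) (χ : IrrCharacter H) :
    nf (σ * τ) (θ.comp D.cT) χ = nf (σ * τ) θ χ := by
  refine nf_eq D.u_order D.hcW ?_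
  rw [← xsum_eq_nf D.u_order D.hcW]
  refine xsum_comp (g := σ ^ 2) D.u_commutes_t.symm (fun l hl => D.t_conj_W hl) θ _ (fun l => ?_) χ
  rw [← D.cT_coe, ext_coe]
  rfl

open Classical in
/-- The coefficients over a linear character of the core add up. -/
theorem sum_res [IsMulCommutative W] [Fintype W] [Fintype D.setup.core] [Fintype (W →* ℂˣ)]
    (γ : D.setup.core →* ℂˣ) (χ : IrrCharacter H) :
    ∑ θ ∈ Finset.univ.filter (fun θ : W →* ℂˣ => D.res θ = γ), nf (σ * τ) θ χ =
      nf (σ * τ) γ χ := by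
  have hb : (Nat.card D.setup.core : ℂ) ≠ 0 := Nat.cast_ne_zero.2 Nat.card_pos.ne'
  have hw : (Nat.card W : ℂ) ≠ 0 := Nat.cast_ne_zero.2 Nat.card_pos.ne'
  let inc : D.setup.core →* W := Subgroup.inclusion fun _ hk => D.core_le_W hk
  have key : (Nat.card D.setup.core : ℂ) *
      ∑ θ ∈ Finset.univ.filter (fun θ : W →* ℂˣ => D.res θ = γ), xsum (σ * τ) θ χ =
      (Nat.card W : ℂ) * xsum (σ * τ) γ χ := by
    have e : ∀ θ : W →* ℂˣ, ∑ k : D.setup.core, (θ (inc k) : ℂ) * (γ⁻¹ k : ℂ) =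
        if D.res θ = γ then (Nat.card D.setup.core : ℂ) else 0 := by
      intro θ
      by_cases h : D.res θ = γ
      · rw [if_pos h, Nat.card_eq_fintype_card, ← Finset.card_univ, Finset.cast_card]
        refine Finset.sum_congr rfl fun k _ => ?_
        rw [← h, MonoidHom.inv_apply, ← Units.val_mul, show θ (inc k) = D.res θ k from rfl,
          mul_inv_cancel, Units.val_one]
      · rw [if_neg h, show (∑ k : D.setup.core, (θ (inc k) : ℂ) * (γ⁻¹ k : ℂ)) =
          ∑ k : D.setup.core, ((D.res θ * γ⁻¹) k : ℂ) from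
          Finset.sum_congr rfl fun k _ => by rw [MonoidHom.mul_apply, Units.val_mul]; rfl,
          BlocksFrobenius.sum_apply, if_neg]
        intro h'
        refine h (MonoidHom.ext fun k => ?_)
        have := DFunLike.congr_fun h' k
        rw [MonoidHom.mul_apply, MonoidHom.inv_apply, MonoidHom.one_apply, mul_inv_eq_one] at this
        exact this
    rw [Finset.mul_sum, Finset.sum_filter, Finset.sum_congr rfl (g := fun θ : W →* ℂˣ =>
      (∑ k : D.setup.core, (θ (inc k) : ℂ) * (γ⁻¹ k : ℂ)) * xsum (σ * τ) θ χ) fun θ _ => by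
        rw [e θ]; split_ifs <;> simp]
    simp only [xsum, Finset.sum_mul, Finset.mul_sum]
    rw [Finset.sum_congr rfl fun l _ => Finset.sum_comm, Finset.sum_comm]
    refine Fintype.sum_bijective (fun k : D.setup.core => k⁻¹) inv_involutive.bijective _ _
      fun k => ?_
    rw [Finset.sum_comm, Finset.sum_eq_single (inc k⁻¹)]
    · rw [Finset.sum_congr rfl (g := fun θ : W →* ℂˣ => (γ k⁻¹ : ℂ) *
        conj ((χ : H → ℂ) (σ * τ * (inc k⁻¹ : H)))) fun θ _ => by
          rw [MonoidHom.inv_apply, ← map_inv γ, map_inv inc, map_inv θ]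
          rw [show ∀ a c d : ℂ, a * c * (((θ (inc k))⁻¹ : ℂˣ) * d) =
            (a * ((θ (inc k))⁻¹ : ℂˣ)) * (c * d) from fun a c d => by ring, ← Units.val_mul,
            mul_inv_cancel, Units.val_one, one_mul],
        Finset.sum_const, Finset.card_univ, nsmul_eq_mul, ← Nat.card_eq_fintype_card,
        BlocksFrobenius.card_dual]
      rfl
    · intro l _ hl
      rw [Finset.sum_congr rfl (g := fun θ : W →* ℂˣ => (θ (inc k * l) : ℂ) *
        ((γ⁻¹ k : ℂ) * conj ((χ : H → ℂ) (σ * τ * (l : H))))) fun θ _ => by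
          rw [map_mul, Units.val_mul]; ring, ← Finset.sum_mul, BlocksFrobenius.sum_dual_apply,
        if_neg, zero_mul]
      intro h
      refine hl ?_
      rw [map_inv]
      exact eq_inv_of_mul_eq_one_right h
    · simp
  simp only [xsum_eq_nf D.u_order D.hcW, xsum_eq_nf D.u_order D.hcKu, ← Finset.mul_sum] at key
  rw [← mul_assoc, ← mul_assoc, mul_comm (Nat.card W : ℂ)] at key
  have h := mul_left_cancel₀ (mul_ne_zero hb hw) key
  exact_mod_cast h

open Classical in
/-- Parity. -/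
theorem parity [IsMulCommutative W] [Fintype W] [Fintype D.setup.core] [Fintype (W →* ℂˣ)]
    (γ : D.setup.core →* ℂˣ) (χ : IrrCharacter H) :
    Even (nf (σ * τ) (γ.comp D.proj) χ - nf (σ ^ 2) γ χ) := by
  set s := Finset.univ.filter (fun θ : W →* ℂˣ => D.res θ = γ) with hs
  have hmem : γ.comp D.proj ∈ s := by simp [hs, D.res_comp_proj]
  have hrest : ((∑ θ ∈ s.erase (γ.comp D.proj), nf (σ * τ) θ χ : ℤ) : ZMod 2) = 0 := by
    push_cast
    refine Finset.sum_involution (fun θ _ => θ.comp D.cT) (fun θ _ => ?_) (fun θ hθ _ h => ?_)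
      (fun θ hθ => ?_) (fun θ _ => ?_)
    · rw [D.nf_comp_cT]; exact CharTwo.add_self_eq_zero _
    · obtain ⟨hne, hθs⟩ := Finset.mem_erase.1 hθ
      refine hne ?_
      have := D.eq_comp_proj θ h
      rwa [(Finset.mem_filter.1 hθs).2] at this
    · obtain ⟨hne, hθs⟩ := Finset.mem_erase.1 hθ
      refine Finset.mem_erase.2 ⟨fun h => hne ?_, Finset.mem_filter.2 ⟨Finset.mem_univ _, ?_⟩⟩
      · have e := congrArg (fun f : W →* ℂˣ => f.comp D.cT) h
        simp only [MonoidHom.comp_assoc] at e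
        rwa [show D.cT.comp D.cT = MonoidHom.id W from MonoidHom.ext D.cT_cT, MonoidHom.comp_id,
          show D.proj.comp D.cT = D.proj from MonoidHom.ext D.proj_cT] at e
      · rw [← (Finset.mem_filter.1 hθs).2]
        refine MonoidHom.ext fun k => ?_
        show θ (D.cT ⟨k, _⟩) = θ ⟨k, _⟩
        rw [D.cT_core]
    · exact MonoidHom.ext fun l => by simp [D.cT_cT]
  have hsum := D.sum_res γ χ
  rw [← hs, ← Finset.add_sum_erase _ _ hmem] at hsum
  obtain ⟨r, hr⟩ := nf_parity D.u_order D.t_order D.hcKu D.hcK γ χ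
  have h2 : Even (∑ θ ∈ s.erase (γ.comp D.proj), nf (σ * τ) θ χ) :=
    (ZMod.intCast_eq_zero_iff_even).1 hrest
  obtain ⟨q, hq⟩ := h2
  exact ⟨r - q, by omega⟩

theorem nf_even_of_fixed [Fintype D.setup.core] (γ : D.setup.core →* ℂˣ) {χ : IrrCharacter H}
    (h : twist D.index_two χ = χ) : Even (nf (σ ^ 2) γ χ) := by
  have h1 := D.nf_twist_u D.hcKu (fun _ => D.core_le_X) γ χ
  rw [h] at h1
  obtain ⟨r, hr⟩ := nf_parity D.t_order D.u_order D.hcK D.hcKu γ χ
  exact ⟨r, by omega⟩

theorem dual_ne_inv {γ : D.setup.core →* ℂˣ} (h : γ ≠ 1) : γ⁻¹ ≠ γ := fun e => h <| by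
  refine hom_sq_eq D.setup.core_odd _ _ fun a => ?_
  rw [MonoidHom.one_apply, map_mul]
  conv_lhs => arg 2; rw [← e, MonoidHom.inv_apply]
  exact mul_inv_cancel _

open Classical in
/-- The four characters of a nontrivial linear character of the core. -/
theorem four [Fintype D.setup.core] {γ : D.setup.core →* ℂˣ} (hγ : γ ≠ 1) :
    ∃ a b : IrrCharacter H, nf (σ ^ 2) γ a = 1 ∧ nf (σ ^ 2) γ b = -1 ∧
      twist D.index_two a ≠ a ∧ twist D.index_two b ≠ b ∧
      Cfsg.charDegree (a : H → ℂ) = Cfsg.charDegree (b : H → ℂ) ∧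
      a ≠ b ∧ a ≠ twist D.index_two b ∧ twist D.index_two a ≠ b ∧
      twist D.index_two a ≠ twist D.index_two b ∧
      ∀ χ, nf (σ ^ 2) γ χ ≠ 0 →
        χ = a ∨ χ = twist D.index_two a ∨ χ = b ∨ χ = twist D.index_two b := by
  refine four_signs (twist D.index_two) (twist_twist D.index_two) (fun χ => nf (σ ^ 2) γ χ)
    (fun χ => Cfsg.charDegree (χ : H → ℂ)) (fun χ => Nat.pos_of_ne_zero (charDegree_ne_zero χ))
    (fun χ => ?_) (fun χ => D.nf_twist_t γ χ) (fun χ h => D.nf_even_of_fixed γ h) ?_ ?_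
  · simp only [Cfsg.charDegree, twist_mem_apply D.index_two χ X.one_mem]
  · have h := nf_orth (D := D) D.t_order D.hcK D.setup.core_odd
      (fun _ hg _ hl => D.setup.core_conj hg hl) γ γ (4 * Nat.card D.setup.core) (by
        intro inst
        have := D.stab_card (γ := γ) (D.dual_ne_inv hγ)
        rw [if_pos (Or.inl rfl)] at this
        convert this)
    push_cast at h
    have hb : (Nat.card D.setup.core : ℤ) ≠ 0 := Int.natCast_ne_zero.2 Nat.card_pos.ne'
    refine mul_left_cancel₀ hb ?_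
    rw [mul_comm (4 : ℤ) _] at h
    simpa [pow_two] using h
  · have h := sum_degree_xsum (y := σ ^ 2)
      (fun h => D.setup.J_ne (D.setup.core_inf h D.setup.J_mem)) γ
    simp only [xsum_eq_nf D.t_order D.hcK, ← charDegree_cast] at h
    rw [Finset.sum_congr rfl (g := fun χ : IrrCharacter H => (Nat.card D.setup.core : ℂ) *
      (((Cfsg.charDegree (χ : H → ℂ) : ℤ) * nf (σ ^ 2) γ χ : ℤ) : ℂ)) fun χ _ => by
        push_cast; ring, ← Finset.mul_sum, mul_eq_zero, or_iff_right
        (Nat.cast_ne_zero.2 Nat.card_pos.ne')] at h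
    exact_mod_cast h

theorem sum_four {ι : Type*} [Fintype ι] (π : ι → ι) {a b : ι} (f : ι → ℤ)
    (h1 : π a ≠ a) (h2 : π b ≠ b) (d1 : a ≠ b) (d2 : a ≠ π b) (d3 : π a ≠ b) (d4 : π a ≠ π b)
    (hf : ∀ i, f i ≠ 0 → i = a ∨ i = π a ∨ i = b ∨ i = π b) :
    ∑ i, f i = f a + f (π a) + (f b + f (π b)) := by
  classical
  rw [← Finset.sum_subset (Finset.subset_univ ({a, π a, b, π b} : Finset ι)) (fun i _ hi => by
    by_contra hne
    exact hi (by simpa using hf i hne)), Finset.sum_insert (by simp [h1.symm, d1, d2]),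
    Finset.sum_insert (by simp [d3, d4]), Finset.sum_pair h2.symm]
  ring

set_option maxHeartbeats 4000000 in
open Classical in
/-- **The degree of `f` is 3 when the core is not trivial.** -/
theorem main (hM : Cfsg.IsPModular 2 M) :
    ∃ (x : ℕ) (δ : ℤ), (δ = 1 ∨ δ = -1) ∧ 2 ≤ x ∧
      (Nat.card H : ℤ) * ((x : ℤ) - δ) ^ 2 =
        64 * (Nat.card D.setup.core : ℤ) ^ 3 * x * ((x : ℤ) + δ) ∧
      (Nat.card W : ℤ) * ((x : ℤ) - δ) =
        2 * (Nat.card D.setup.core : ℤ) ^ 2 * ((x : ℤ) + δ) ∧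
      (1 < Nat.card D.setup.core → x = 3 ∧ δ = -1) := by
  haveI := Fintype.ofFinite D.setup.core
  haveI := Fintype.ofFinite W
  haveI : IsMulCommutative W := ⟨⟨fun a b => Subtype.ext (D.W_comm _ a.2 _ b.2)⟩⟩
  haveI : IsMulCommutative D.setup.core := ⟨⟨fun a b => Subtype.ext (D.core_comm a.2 b.2)⟩⟩
  haveI := BlocksFrobenius.finite_dual (A := W)
  haveI := Fintype.ofFinite (W →* ℂˣ)
  obtain ⟨F, Y, x, δ, hδ, hx2, hFx, hYY, hlist, hJ, E1, E2⟩ := D.principal hM
  set K : ℤ := (Nat.card D.setup.core : ℤ) with hK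
  set w : ℤ := (Nat.card W : ℤ) with hw
  have hK0 : 0 < K := by rw [hK]; exact_mod_cast Nat.card_pos
  have hw0 : 0 < w := by rw [hw]; exact_mod_cast Nat.card_pos
  have hxδ : 0 < (x : ℤ) + δ := by rcases hδ with rfl | rfl <;> omega
  have hxd : 0 ≤ (x : ℤ) - δ := by rcases hδ with rfl | rfl <;> omega
  have hkey : w * ((x : ℤ) - δ) = 2 * K ^ 2 * ((x : ℤ) + δ) := by
    have hH : (Nat.card H : ℤ) ≠ 0 := Int.natCast_ne_zero.2 Nat.card_pos.ne'
    have hx0 : (x : ℤ) ≠ 0 := Int.natCast_ne_zero.2 (by omega)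
    have e : 16 * (x : ℤ) * ((w * ((x : ℤ) - δ)) ^ 2 - (2 * K ^ 2 * ((x : ℤ) + δ)) ^ 2) = 0 := by
      linear_combination (K * ((x : ℤ) + δ)) * E1 - ((x : ℤ) - δ) ^ 2 * E2
    rcases mul_eq_zero.1 e with h | h
    · omega
    · exact (sq_eq_sq₀ (mul_nonneg hw0.le hxd) (by positivity)).1 (by linarith)
  refine ⟨x, δ, hδ, hx2, E1, hkey, fun hb1 => ?_⟩
  -- the parity of `x + δ`
  have hxodd : ((x : ℤ) + δ) % 4 = 2 := by
    obtain ⟨j, hj⟩ := D.W_odd
    have hjz : w = 2 * j + 1 := by rw [hw, hj]; push_cast; ring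
    have h2 : w * ((x : ℤ) - δ) = 2 * j * ((x : ℤ) - δ) + ((x : ℤ) - δ) := by rw [hjz]; ring
    obtain ⟨z, hz⟩ : ∃ z, (x : ℤ) + δ = 2 * z + 1 ∨ (x : ℤ) + δ = 4 * z ∨
        (x : ℤ) + δ = 4 * z + 2 := by
      rcases Int.even_or_odd' ((x : ℤ) + δ) with ⟨z, hz | hz⟩
      · rcases Int.even_or_odd' z with ⟨q, hq | hq⟩
        · exact ⟨q, Or.inr (Or.inl (by omega))⟩
        · exact ⟨q, Or.inr (Or.inr (by omega))⟩
      · exact ⟨z, Or.inl hz⟩
    rcases hz with hz | hz | hz
    · exfalso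
      have h3 : (x : ℤ) - δ = 2 * (z - δ) + 1 := by linarith
      rw [h3, hjz, hz] at hkey
      ring_nf at hkey
      omega
    · exfalso
      have h3 : (x : ℤ) - δ = 4 * z - 2 * δ := by linarith
      rw [h3, hz, hjz] at hkey
      rcases hδ with rfl | rfl <;> ring_nf at hkey <;> omega
    · omega
  -- a nontrivial character of the core
  obtain ⟨β, hβ⟩ : ∃ β : D.setup.core →* ℂˣ, β ≠ 1 := by
    haveI : Nontrivial D.setup.core := Finite.one_lt_card_iff_nontrivial.1 hb1
    obtain ⟨k, hk⟩ := exists_ne (1 : D.setup.core)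
    obtain ⟨ψ, hψ⟩ := BlocksFrobenius.exists_dual_ne_one hk
    exact ⟨ψ, fun e => hψ (by rw [e]; rfl)⟩
  obtain ⟨a, b, ha, hb, hπa, hπb, hdeg, d1, d2, d3, d4, hsupp⟩ := D.four hβ
  set π := twist D.index_two with hπ
  have hnotB : a ∉ Cfsg.principalBlock M H ∧ b ∉ Cfsg.principalBlock M H := by
    have horth : ∑ χ : IrrCharacter H,
        nf (σ ^ 2) β χ * nf (σ ^ 2) (1 : D.setup.core →* ℂˣ) χ = 0 := by
      have h := nf_orth (D := D) D.t_order D.hcK D.setup.core_odd
        (fun _ hg _ hl => D.setup.core_conj hg hl) β 1 0 (by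
          intro inst
          rw [Finset.card_eq_zero, Finset.filter_eq_empty_iff]
          rintro g - ⟨hg, hl⟩
          refine hβ (MonoidHom.ext fun l => Units.ext ?_)
          have hgC := Subgroup.mem_centralizer_singleton_iff.2 hg
          have := hl ⟨g⁻¹ * l * g, by
            have := D.setup.core_conj (inv_mem hgC) l.2
            rwa [inv_inv] at this⟩
          rw [show g * (g⁻¹ * (l : H) * g) * g⁻¹ = l by group, ext_coe] at this
          exact this)
      rcases mul_eq_zero.1 (h.trans Nat.cast_zero) with h' | h'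
      · exact absurd h' hK0.ne'
      · exact h'
    rw [sum_four (D := D) π (fun χ => nf (σ ^ 2) β χ * nf (σ ^ 2) (1 : D.setup.core →* ℂˣ) χ) hπa hπb d1 d2 d3 d4
      (fun χ h => hsupp χ (left_ne_zero_of_mul h)), hπ, D.nf_twist_t, D.nf_twist_t, D.nf_twist_t,
      D.nf_twist_t, ha, hb] at horth
    have hzero : ∀ χ, χ ∉ Cfsg.principalBlock M H → nf (σ ^ 2) (1 : D.setup.core →* ℂˣ) χ = 0 :=
      fun χ h => nf_eq D.t_order D.hcK (by rw [D.xsum_one_t hM, if_neg h]; simp)
    have hne : ∀ χ ∈ Cfsg.principalBlock M H, nf (σ ^ 2) (1 : D.setup.core →* ℂˣ) χ ≠ 0 := by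
      intro χ h e
      have h1 := xsum_eq_nf D.t_order D.hcK (1 : D.setup.core →* ℂˣ) χ
      rw [D.xsum_one_t hM, if_pos h, e, Int.cast_zero, mul_zero, mul_eq_zero, map_eq_zero] at h1
      exact h1.elim (Nat.cast_ne_zero.2 Nat.card_pos.ne') (hJ χ h)
    by_contra hcon
    have hboth : a ∈ Cfsg.principalBlock M H ∧ b ∈ Cfsg.principalBlock M H := by
      by_cases hA : a ∈ Cfsg.principalBlock M H <;> by_cases hB : b ∈ Cfsg.principalBlock M H
      · exact ⟨hA, hB⟩
      · rw [hzero b hB] at horth; exact absurd (by omega) (hne a hA)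
      · rw [hzero a hA] at horth; exact absurd (by omega) (hne b hB)
      · exact absurd ⟨hA, hB⟩ hcon
    have hdeg1 : ∀ χ ∈ Cfsg.principalBlock M H, π χ ≠ χ →
        ((χ = trivChar H ∨ χ = π (trivChar H)) ∧ Cfsg.charDegree (χ : H → ℂ) = 1) ∨
        ((χ = F ∨ χ = π F) ∧ Cfsg.charDegree (χ : H → ℂ) = x) := by
      intro χ h hne'
      have hπd : ∀ ξ : IrrCharacter H,
          Cfsg.charDegree (π ξ : H → ℂ) = Cfsg.charDegree (ξ : H → ℂ) := fun ξ => by
        simp only [Cfsg.charDegree, hπ, twist_mem_apply D.index_two ξ X.one_mem]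
      have htriv : Cfsg.charDegree (trivChar H : H → ℂ) = 1 := by simp [Cfsg.charDegree]
      rcases (hlist χ).1 h with e | e | e | e | e
      · exact Or.inl ⟨Or.inl e, by rw [e, htriv]⟩
      · exact Or.inl ⟨Or.inr e, by rw [e, hπd, htriv]⟩
      · exact Or.inr ⟨Or.inl e, by rw [e, hFx]⟩
      · exact Or.inr ⟨Or.inr e, by rw [e, hπd, hFx]⟩
      · exact absurd (e ▸ hYY) hne'
    have hpp : ∀ ξ, π (π ξ) = ξ := twist_twist D.index_two
    rcases hdeg1 a hboth.1 hπa with ⟨hA, hA'⟩ | ⟨hA, hA'⟩ <;>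
      rcases hdeg1 b hboth.2 hπb with ⟨hB, hB'⟩ | ⟨hB, hB'⟩
    · rcases hA with rfl | rfl <;> rcases hB with rfl | rfl
      exacts [d1 rfl, d2 (hpp _).symm, d3 (hpp _), d1 rfl]
    · omega
    · omega
    · rcases hA with rfl | rfl <;> rcases hB with rfl | rfl
      exacts [d1 rfl, d2 (hpp _).symm, d3 (hpp _), d1 rfl]
  -- other characters of the core vanish on the four
  have hother : ∀ γ : D.setup.core →* ℂˣ, γ ≠ 1 → γ ≠ β → γ ≠ β⁻¹ →
      ∀ c, (c = a ∨ c = b) → nf (σ * τ) (γ.comp D.proj) c = 0 := by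
    intro γ hγ1 hγ2 hγ3
    obtain ⟨a', b', ha', hb', hπa', hπb', -, e1, e2, e3, e4, hsupp'⟩ := D.four hγ1
    have horth : ∑ χ : IrrCharacter H, nf (σ ^ 2) β χ * nf (σ ^ 2) γ χ = 0 := by
      have h := nf_orth (D := D) D.t_order D.hcK D.setup.core_odd
        (fun _ hg _ hl => D.setup.core_conj hg hl) β γ 0 (by
          intro inst
          have h' := D.stab_card (γ := β) (γ' := γ) (D.dual_ne_inv hγ1)
          rw [if_neg] at h'
          · convert h'
          · rintro (h'' | h'')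
            · exact hγ2 h''.symm
            · exact hγ3 (by rw [h'']; exact MonoidHom.ext fun l => by simp))
      rcases mul_eq_zero.1 (h.trans Nat.cast_zero) with h' | h'
      · exact absurd h' hK0.ne'
      · exact h'
    rw [sum_four (D := D) π (fun χ => nf (σ ^ 2) β χ * nf (σ ^ 2) γ χ) hπa hπb d1 d2 d3 d4
      (fun χ h => hsupp χ (left_ne_zero_of_mul h)), hπ, D.nf_twist_t, D.nf_twist_t, D.nf_twist_t,
      D.nf_twist_t, ha, hb] at horth
    have hab : nf (σ ^ 2) γ a = nf (σ ^ 2) γ b := by omega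
    have hpp : ∀ ξ, π (π ξ) = ξ := twist_twist D.index_two
    have hval : ∀ χ, nf (σ ^ 2) γ χ ≠ 0 →
        (nf (σ ^ 2) γ χ = 1 ∧ (χ = a' ∨ χ = π a')) ∨
        (nf (σ ^ 2) γ χ = -1 ∧ (χ = b' ∨ χ = π b')) := by
      intro χ h
      rcases hsupp' χ h with e | e | e | e
      · exact Or.inl ⟨by rw [e, ha'], Or.inl e⟩
      · exact Or.inl ⟨by rw [e, D.nf_twist_t, ha'], Or.inr e⟩
      · exact Or.inr ⟨by rw [e, hb'], Or.inl e⟩
      · exact Or.inr ⟨by rw [e, D.nf_twist_t, hb'], Or.inr e⟩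
    have hna : nf (σ ^ 2) γ a = 0 := by
      by_contra h
      have hpair : ∀ q, (a = q ∨ a = π q) → (b = q ∨ b = π q) → False := by
        intro q hA hB
        rcases hA with rfl | rfl <;> rcases hB with rfl | rfl
        exacts [d1 rfl, d2 (hpp _).symm, d3 (hpp _), d1 rfl]
      rcases hval a h with ⟨v1, hA⟩ | ⟨v1, hA⟩ <;>
        rcases hval b (hab ▸ h) with ⟨v2, hB⟩ | ⟨v2, hB⟩
      · exact hpair a' hA hB
      · omega
      · omega
      · exact hpair b' hA hB
    rintro c hc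
    have hnc : nf (σ ^ 2) γ c = 0 := by rcases hc with rfl | rfl <;> omega
    have hodd : ∀ χ, (χ = a' ∨ χ = π a' ∨ χ = b' ∨ χ = π b') →
        Odd (nf (σ * τ) (γ.comp D.proj) χ) ∧ χ ≠ c := by
      intro χ hχ
      have hn : nf (σ ^ 2) γ χ = 1 ∨ nf (σ ^ 2) γ χ = -1 := by
        rcases hχ with rfl | rfl | rfl | rfl <;>
          simp only [hπ, D.nf_twist_t, ha', hb', or_true, true_or]
      obtain ⟨r, hr⟩ := D.parity γ χ
      refine ⟨?_, fun e => by rw [e, hnc] at hn; omega⟩
      rcases hn with hn | hn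
      · exact ⟨r, by omega⟩
      · exact ⟨r - 1, by omega⟩
    have hsq : ∑ χ : IrrCharacter H, nf (σ * τ) (γ.comp D.proj) χ ^ 2 = 4 := by
      have hinv : (γ.comp D.proj).comp D.cT = γ.comp D.proj :=
        MonoidHom.ext fun l => by simp [D.proj_cT]
      have h := nf_orth (D := D) D.u_order D.hcW D.W_odd D.W_normal (γ.comp D.proj)
        (γ.comp D.proj) _ (by intro inst; convert D.stab_card_W (γ.comp D.proj) (γ.comp D.proj))
      rw [← D.stab_card_of_invariant hinv] at h
      simp only [pow_two]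
      exact mul_left_cancel₀ hw0.ne' h
    obtain ⟨o1, n1⟩ := hodd a' (by tauto)
    obtain ⟨o2, n2⟩ := hodd (π a') (by tauto)
    obtain ⟨o3, n3⟩ := hodd b' (by tauto)
    obtain ⟨o4, n4⟩ := hodd (π b') (by tauto)
    exact zero_outside _ hsq hπa'.symm e1 e2 e3 e4 hπb'.symm o1 o2 o3 o4 n1.symm n2.symm n3.symm
      n4.symm
  -- the coefficient at `β` is a sign
  have hβsign : ∀ γ : D.setup.core →* ℂˣ, (γ = β ∨ γ = β⁻¹) → ∀ c, (c = a ∨ c = b) →
      -1 ≤ nf (σ * τ) (γ.comp D.proj) c ∧ nf (σ * τ) (γ.comp D.proj) c ≤ 1 ∧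
      Odd (nf (σ * τ) (γ.comp D.proj) c) := by
    intro γ hγ c hc
    have hn : nf (σ ^ 2) γ = nf (σ ^ 2) β := by
      rcases hγ with rfl | rfl
      · rfl
      · funext χ
        refine nf_eq D.t_order D.hcK ?_
        rw [← xsum_eq_nf D.t_order D.hcK]
        refine xsum_comp (g := σ) (Commute.self_pow σ 2).eq
          (fun l hl => by rw [D.invert_σ hl]; exact inv_mem hl) β _ (fun l => ?_) χ
        rw [D.invert_σ l.2, ← Subgroup.coe_inv, ext_coe, map_inv, MonoidHom.inv_apply]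
    have hinv : (γ.comp D.proj).comp D.cT = γ.comp D.proj :=
      MonoidHom.ext fun l => by simp [D.proj_cT]
    have hsq : ∑ χ : IrrCharacter H, nf (σ * τ) (γ.comp D.proj) χ ^ 2 = 4 := by
      have h := nf_orth (D := D) D.u_order D.hcW D.W_odd D.W_normal (γ.comp D.proj)
        (γ.comp D.proj) _ (by intro inst; convert D.stab_card_W (γ.comp D.proj) (γ.comp D.proj))
      rw [← D.stab_card_of_invariant hinv] at h
      simp only [pow_two]
      exact mul_left_cancel₀ hw0.ne' h
    have hodd : ∀ χ, (χ = a ∨ χ = π a ∨ χ = b ∨ χ = π b) →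
        Odd (nf (σ * τ) (γ.comp D.proj) χ) := by
      intro χ hχ
      have hn' : nf (σ ^ 2) γ χ = 1 ∨ nf (σ ^ 2) γ χ = -1 := by
        rw [hn]
        rcases hχ with rfl | rfl | rfl | rfl <;>
          simp only [hπ, D.nf_twist_t, ha, hb, or_true, true_or]
      obtain ⟨r, hr⟩ := D.parity γ χ
      rcases hn' with h | h
      · exact ⟨r, by omega⟩
      · exact ⟨r - 1, by omega⟩
    have hle : nf (σ * τ) (γ.comp D.proj) a ^ 2 + nf (σ * τ) (γ.comp D.proj) (π a) ^ 2 +
        (nf (σ * τ) (γ.comp D.proj) b ^ 2 + nf (σ * τ) (γ.comp D.proj) (π b) ^ 2) ≤ 4 := by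
      rw [← hsq]
      refine le_of_eq_of_le ?_ (Finset.sum_le_sum_of_subset_of_nonneg
        (Finset.subset_univ ({a, π a, b, π b} : Finset (IrrCharacter H)))
        fun χ _ _ => sq_nonneg _)
      rw [Finset.sum_insert (by simp [hπa.symm, d1, d2]), Finset.sum_insert (by simp [d3, d4]),
        Finset.sum_pair hπb.symm]
      ring
    have hp : ∀ {z : ℤ}, Odd z → 1 ≤ z ^ 2 := fun {z} hz => by
      have := pow_ne_zero 2 (show z ≠ 0 from fun e => by simp [e] at hz)
      have := sq_nonneg z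
      omega
    have := hp (hodd a (by tauto)); have := hp (hodd b (by tauto))
    have := hp (hodd (π a) (by tauto)); have := hp (hodd (π b) (by tauto))
    have hc2 : nf (σ * τ) (γ.comp D.proj) c ^ 2 ≤ 1 := by
      rcases hc with rfl | rfl <;> omega
    exact ⟨by nlinarith, by nlinarith, hodd c (by tauto)⟩
  -- the noninvariant characters of `W` vanish on the four
  have hnon : ∀ θ : W →* ℂˣ, θ.comp D.cT ≠ θ → ∀ c, (c = a ∨ c = b) →
      nf (σ * τ) θ c = 0 := by
    intro θ hθ c hc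
    by_contra hne
    have hsq : ∑ χ : IrrCharacter H, nf (σ * τ) θ χ * nf (σ * τ) θ χ = 2 := by
      have h := nf_orth (D := D) D.u_order D.hcW D.W_odd D.W_normal θ θ _
        (by intro inst; convert D.stab_card_W θ θ)
      rw [if_pos rfl, if_neg hθ, add_zero] at h
      push_cast at h
      rw [← hw, mul_comm (2 : ℤ)] at h
      exact mul_left_cancel₀ hw0.ne' h
    have hinv : (β.comp D.proj).comp D.cT = β.comp D.proj :=
      MonoidHom.ext fun l => by simp [D.proj_cT]
    have horth : ∑ χ : IrrCharacter H, nf (σ * τ) θ χ * nf (σ * τ) (β.comp D.proj) χ = 0 := by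
      have h := nf_orth (D := D) D.u_order D.hcW D.W_odd D.W_normal θ (β.comp D.proj) _
        (by intro inst; convert D.stab_card_W θ (β.comp D.proj))
      rw [if_neg, if_neg, add_zero] at h
      · push_cast at h
        rcases mul_eq_zero.1 h with h' | h'
        · exact absurd h' hw0.ne'
        · exact h'
      · intro e
        refine hθ ?_
        have e' := congrArg (fun f : W →* ℂˣ => f.comp D.cT) e
        simp only [MonoidHom.comp_assoc, show D.cT.comp D.cT = MonoidHom.id W from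
          MonoidHom.ext D.cT_cT, MonoidHom.comp_id,
          show D.proj.comp D.cT = D.proj from MonoidHom.ext D.proj_cT] at e'
        rw [e']
        exact hinv
      · rintro rfl
        exact hθ hinv
    have hπc : π c ≠ c := by rcases hc with rfl | rfl; exacts [hπa, hπb]
    have hzero : ∀ χ, χ ≠ c → χ ≠ π c → nf (σ * τ) θ χ = 0 := by
      intro χ h1 h2
      have h : ∑ i ∈ ({χ, c, π c} : Finset (IrrCharacter H)),
          nf (σ * τ) θ i * nf (σ * τ) θ i ≤ 2 := hsq ▸
        Finset.sum_le_sum_of_subset_of_nonneg (Finset.subset_univ _)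
          fun i _ _ => mul_self_nonneg (nf (σ * τ) θ i)
      rw [Finset.sum_insert (by simp [h1, h2]), Finset.sum_pair hπc.symm, hπ,
        D.nf_twist_u D.hcW D.W_le_X, neg_mul_neg] at h
      have := mul_self_pos.2 hne
      by_contra h0
      have := mul_self_pos.2 h0
      omega
    rw [← Finset.sum_subset (Finset.subset_univ ({c, π c} : Finset (IrrCharacter H)))
      (fun χ _ hχ => by
        simp only [Finset.mem_insert, Finset.mem_singleton, not_or] at hχ
        rw [hzero χ hχ.1 hχ.2, zero_mul]), Finset.sum_pair hπc.symm, hπ,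
      D.nf_twist_u D.hcW D.W_le_X, D.nf_twist_u D.hcW D.W_le_X, neg_mul_neg] at horth
    obtain ⟨-, -, r, hr⟩ := hβsign β (Or.inl rfl) c hc
    have : nf (σ * τ) θ c * nf (σ * τ) (β.comp D.proj) c = 0 := by omega
    rcases mul_eq_zero.1 this with h | h
    · exact hne h
    · omega
  -- the values at `σ * τ`
  have hval : ∀ c, (c = a ∨ c = b) → ∃ v : ℤ, (c : H → ℂ) (σ * τ) = v ∧ v ^ 2 ≤ 4 := by
    intro c hc
    obtain ⟨v, hv⟩ := BlocksFrobenius.exists_int_apply c D.u_sq
    refine ⟨v, hv, ?_⟩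
    have hne : β.comp D.proj ≠ β⁻¹.comp D.proj := fun e => D.dual_ne_inv hβ (by
      have := congrArg D.res e
      rw [D.res_comp_proj, D.res_comp_proj] at this
      exact this.symm)
    have h := SectionSums.fourier (L := W) (σ * τ) c
    simp only [xsum_eq_nf D.u_order D.hcW, ← Finset.mul_sum, hv, map_intCast] at h
    have h' : (∑ θ : W →* ℂˣ, nf (σ * τ) θ c : ℤ) = v := by
      have := mul_left_cancel₀ (Nat.cast_ne_zero.2 Nat.card_pos.ne') h
      exact_mod_cast this
    rw [← Finset.sum_subset (Finset.subset_univ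
      ({β.comp D.proj, β⁻¹.comp D.proj} : Finset (W →* ℂˣ))) (fun θ _ hθ => ?_),
      Finset.sum_pair hne] at h'
    · obtain ⟨l1, u1, -⟩ := hβsign β (Or.inl rfl) c hc
      obtain ⟨l2, u2, -⟩ := hβsign β⁻¹ (Or.inr rfl) c hc
      nlinarith
    · simp only [Finset.mem_insert, Finset.mem_singleton, not_or] at hθ
      by_cases hinv : θ.comp D.cT = θ
      · have he := D.eq_comp_proj θ hinv
        rw [he]
        by_cases h1 : D.res θ = 1
        · rw [h1, MonoidHom.one_comp]
          refine nf_eq D.u_order D.hcW ?_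
          rw [D.xsum_one_u hM, if_neg]
          · simp
          · rcases hc with rfl | rfl
            exacts [hnotB.1, hnotB.2]
        · exact hother _ h1 (fun e => hθ.1 (by rw [he, e])) (fun e => hθ.2 (by rw [he, e])) c hc
      · exact hnon θ hinv c hc
  obtain ⟨va, hva, hva4⟩ := hval a (Or.inl rfl)
  obtain ⟨vb, hvb, hvb4⟩ := hval b (Or.inr rfl)
  set g := Cfsg.charDegree (a : H → ℂ) with hg
  have hg0 : 0 < g := Nat.pos_of_ne_zero (charDegree_ne_zero a)
  -- the count
  have E3 : (Nat.card H : ℤ) * K * (va ^ 2 - vb ^ 2) = 16 * w ^ 2 * g := by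
    have h0 := pair_count (σ * τ) (σ * τ) (σ ^ 2) β (fun l => if l = 1 then 2 else 0) D.count_uu
    simp only [xsum_eq_nf D.t_order D.hcK, Nat.cast_ite, Nat.cast_zero, mul_ite, mul_zero,
      Finset.sum_ite_eq', Finset.mem_univ, if_true, map_one, Units.val_one, one_mul] at h0
    rw [← Finset.sum_subset (Finset.subset_univ ({a, π a, b, π b} : Finset (IrrCharacter H)))
      (fun χ _ hχ => by
        by_contra hne
        refine hχ (by simpa using hsupp χ fun e => hne (by rw [e]; simp)))] at h0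
    rw [Finset.sum_insert (by simp [hπa.symm, d1, d2]), Finset.sum_insert (by simp [d3, d4]),
      Finset.sum_pair hπb.symm] at h0
    simp only [hπ, D.nf_twist_t, ha, hb, twist_notMem_apply D.index_two _ D.u_not_mem,
      twist_mem_apply D.index_two _ X.one_mem, hva, hvb, ← charDegree_cast, ← hdeg, ← hg,
      D.W_card] at h0
    have hgC : (g : ℂ) ≠ 0 := Nat.cast_ne_zero.2 hg0.ne'
    push_cast at h0
    field_simp at h0
    have e : (Nat.card H : ℂ) * (Nat.card D.setup.core : ℂ) * ((va : ℂ) ^ 2 - (vb : ℂ) ^ 2) =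
        16 * (Nat.card W : ℂ) ^ 2 * g := by linear_combination (-1 / 2 : ℂ) * h0
    rw [hK, hw]
    exact_mod_cast e
  have hrel : (x : ℤ) * (va ^ 2 - vb ^ 2) = (g : ℤ) * ((x : ℤ) + δ) := by
    have e : (16 * w ^ 2) * ((x : ℤ) * (va ^ 2 - vb ^ 2)) =
        (16 * w ^ 2) * ((g : ℤ) * ((x : ℤ) + δ)) := by
      linear_combination (-(va ^ 2 - vb ^ 2)) * E2 + ((x : ℤ) + δ) * E3
    exact mul_left_cancel₀ (mul_ne_zero (by norm_num) (pow_ne_zero 2 hw0.ne')) e
  have hpos : 0 < va ^ 2 - vb ^ 2 := by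
    by_contra hc
    have h1 : (x : ℤ) * (va ^ 2 - vb ^ 2) ≤ 0 :=
      mul_nonpos_of_nonneg_of_nonpos (by positivity) (by linarith)
    have h2 : 0 < (g : ℤ) * ((x : ℤ) + δ) := mul_pos (by exact_mod_cast hg0) hxδ
    omega
  have hdvd : ((x : ℤ) + δ) ∣ va ^ 2 - vb ^ 2 := by
    refine (IsCoprime.dvd_of_dvd_mul_left ?_ ⟨g, by rw [hrel]; ring⟩)
    exact ⟨δ, -δ, by rcases hδ with rfl | rfl <;> ring⟩
  have hle := Int.le_of_dvd hpos hdvd
  have := sq_nonneg vb
  rcases hδ with rfl | rfl <;> omega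

end Data

end CfsgLib.Inv54.DihedralSigma
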