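import Cfsg.Agent.Inv54.DihedralSigmaSetup

/-!
# The principal 2-block in the configuration of `DihedralSigma.Data`

The principal block is `1, λ, f, f λ, y`; the pairs of conjugates of `σ ^ 2`, resp. of `σ * τ`,
with product in `σ ^ 2 K` give two equations for the degree of `f`.
-/

set_option autoImplicit false
set_option linter.style.haveILetI false
set_option linter.unusedSectionVars false

namespace CfsgLib.Inv54.DihedralSigma

open Cfsg CfsgLib.Blocks CfsgLib.PrincipalBlock CfsgLib.Characters CfsgLib.Inv54.DihedralBlock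
open CfsgLib.Inv54.SectionSums
open scoped ComplexConjugate

universe u

variable {H : Type u} [Group H] [Fintype H] {P : Sylow 2 H} {σ τ : H} {X W : Subgroup H}
  {M : Ideal AlgInt} [M.IsPrime]

open Classical in
/-- The character of `H / X` for `X` of index two. -/
noncomputable def signHom {X : Subgroup H} (hX : X.index = 2) : H →* ℂˣ where
  toFun g := if g ∈ X then 1 else -1
  map_one' := if_pos X.one_mem
  map_mul' a b := by
    by_cases ha : a ∈ X <;> by_cases hb : b ∈ X <;>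
      simp [ha, hb, Subgroup.mul_mem_iff_of_index_two hX]

theorem signHom_mem {X : Subgroup H} (hX : X.index = 2) {g : H} (hg : g ∈ X) :
    (signHom hX g : ℂ) = 1 := by
  simp [signHom, hg]

theorem signHom_notMem {X : Subgroup H} (hX : X.index = 2) {g : H} (hg : g ∉ X) :
    (signHom hX g : ℂ) = -1 := by
  simp [signHom, hg]

/-- The twist by the character of `H / X`. -/
noncomputable def twist {X : Subgroup H} (hX : X.index = 2) (χ : IrrCharacter H) :
    IrrCharacter H := Glauberman.linTwist (signHom hX) χ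

theorem twist_apply {X : Subgroup H} (hX : X.index = 2) (χ : IrrCharacter H) (g : H) :
    (twist hX χ : H → ℂ) g = (χ : H → ℂ) g * (signHom hX g : ℂ) := rfl

theorem twist_mem_apply {X : Subgroup H} (hX : X.index = 2) (χ : IrrCharacter H) {g : H}
    (hg : g ∈ X) : (twist hX χ : H → ℂ) g = (χ : H → ℂ) g := by
  rw [twist_apply, signHom_mem hX hg, mul_one]

theorem twist_notMem_apply {X : Subgroup H} (hX : X.index = 2) (χ : IrrCharacter H) {g : H}
    (hg : g ∉ X) : (twist hX χ : H → ℂ) g = -(χ : H → ℂ) g := by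
  rw [twist_apply, signHom_notMem hX hg, mul_neg_one]

theorem twist_twist {X : Subgroup H} (hX : X.index = 2) (χ : IrrCharacter H) :
    twist hX (twist hX χ) = χ := by
  refine Subtype.ext (funext fun g => ?_)
  rw [twist_apply, twist_apply]
  by_cases hg : g ∈ X
  · rw [signHom_mem hX hg]; ring
  · rw [signHom_notMem hX hg]; ring

theorem twist_mem_principal (hM : Cfsg.IsPModular 2 M) {X : Subgroup H} (hX : X.index = 2)
    {χ : IrrCharacter H} (hχ : χ ∈ Cfsg.principalBlock M H) :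
    twist hX χ ∈ Cfsg.principalBlock M H := by
  intro g
  have h : Cfsg.MemLocalIdeal M (Cfsg.centralChar (fun _ : H => (1 : ℂ)) g -
      Cfsg.centralChar (χ : H → ℂ) g) := hχ g
  have e : Cfsg.centralChar (twist hX χ : H → ℂ) g =
      Cfsg.centralChar (χ : H → ℂ) g * (signHom hX g : ℂ) := by
    simp only [Cfsg.centralChar, twist_apply, map_one, Units.val_one, mul_one]
    ring
  rw [e]
  by_cases hg : g ∈ X
  · rw [signHom_mem hX hg, mul_one]
    exact h
  · rw [signHom_notMem hX hg, show Cfsg.centralChar (fun _ : H => (1 : ℂ)) g -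
      Cfsg.centralChar (χ : H → ℂ) g * (-1) = (Cfsg.centralChar (fun _ : H => (1 : ℂ)) g -
      Cfsg.centralChar (χ : H → ℂ) g) + ((2 : ℕ) : ℂ) * Cfsg.centralChar (χ : H → ℂ) g by
        push_cast; ring]
    exact memLocalIdeal_add h (memLocalIdeal_mul_right
      ((memLocalIdeal_natCast_iff hM 2).2 dvd_rfl) (memLocalRing_centralChar χ g))

open Classical in
theorem xsum_one (hM : Cfsg.IsPModular 2 M) {y : H} (hy : orderOf y = 2) (L : Subgroup H)
    [Fintype L] (hLC : L ≤ Subgroup.centralizer ({y} : Set H))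
    (hn : ∀ g ∈ Subgroup.centralizer ({y} : Set H), ∀ l ∈ L, g * l * g⁻¹ ∈ L)
    (hL : Odd (Nat.card L)) (k : ℕ)
    (hi : Nat.card (Subgroup.centralizer ({y} : Set H)) = Nat.card L * 2 ^ k)
    (χ : IrrCharacter H) :
    xsum y (1 : L →* ℂˣ) χ = (Nat.card L : ℂ) *
      (if χ ∈ Cfsg.principalBlock M H then conj ((χ : H → ℂ) y) else 0) := by
  classical
  haveI : Fact (Nat.Prime 2) := ⟨Nat.prime_two⟩
  rw [← BlocksFrobenius.Klein.sum_translate_conj hM ⟨1, by rw [hy, pow_one]⟩ L hLC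
    ⟨fun x hx g => Subgroup.mem_subgroupOf.2 (by
      push_cast
      exact hn g g.2 x (Subgroup.mem_subgroupOf.1 hx))⟩ hL.not_two_dvd_nat ⟨k, ?_⟩ χ, xsum]
  · simp
  · have h1 := (L.subgroupOf (Subgroup.centralizer ({y} : Set H))).card_mul_index
    rw [Nat.card_congr (Subgroup.subgroupOfEquivOfLe hLC).toEquiv, hi] at h1
    exact Nat.eq_of_mul_eq_mul_left Nat.card_pos h1

theorem zmod_four : ∀ i : ZMod (2 * 2), i = 0 ∨ i = 1 ∨ i = 2 ∨ i = 3 := by decide

namespace Data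

variable (D : Data P σ τ X W)
include D

theorem hcK : ∀ l ∈ D.setup.core, σ ^ 2 * l = l * σ ^ 2 := fun _ hl => D.core_t hl

theorem hcKu : ∀ l ∈ D.setup.core, σ * τ * l = l * (σ * τ) := fun l hl => D.fixes l hl

theorem hcW : ∀ l ∈ W, σ * τ * l = l * (σ * τ) := fun _ hl =>
  (Subgroup.mem_centralizer_singleton_iff.1 (D.W_le hl)).symm

theorem card_C_t :
    Nat.card (Subgroup.centralizer ({σ ^ 2} : Set H)) = Nat.card D.setup.core * 2 ^ 3 := by
  rw [D.setup.card_centralizer D.setup.J_ne, D.setup.card_P_centralizer D.setup.J_ne,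
    if_pos D.setup.J_sq, inf_eq_left.2 D.setup.core_le]
  norm_num

open Classical in
theorem xsum_one_t (hM : Cfsg.IsPModular 2 M) [Fintype D.setup.core] (χ : IrrCharacter H) :
    xsum (σ ^ 2) (1 : D.setup.core →* ℂˣ) χ = (Nat.card D.setup.core : ℂ) *
      (if χ ∈ Cfsg.principalBlock M H then conj ((χ : H → ℂ) (σ ^ 2)) else 0) :=
  xsum_one hM D.t_order D.setup.core D.setup.core_le
    (fun _ hg _ hl => D.setup.core_conj hg hl) D.setup.core_odd 3 D.card_C_t χ

open Classical in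
theorem xsum_one_u (hM : Cfsg.IsPModular 2 M) [Fintype W] (χ : IrrCharacter H) :
    xsum (σ * τ) (1 : W →* ℂˣ) χ = (Nat.card W : ℂ) *
      (if χ ∈ Cfsg.principalBlock M H then conj ((χ : H → ℂ) (σ * τ)) else 0) :=
  xsum_one hM D.u_order W D.W_le D.W_normal D.W_odd 2 (by rw [D.W_card]; ring) χ

theorem conj_t_mem {a : H} (h : IsConj (σ ^ 2) a) : a ∈ X := by
  obtain ⟨g, rfl⟩ := isConj_iff.1 h
  exact (Subgroup.normal_of_index_eq_two D.index_two).conj_mem _ D.t_mem g

theorem conj_u_not_mem {a : H} (h : IsConj (σ * τ) a) : a ∉ X := by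
  obtain ⟨g, rfl⟩ := isConj_iff.1 h
  intro hm
  refine D.u_not_mem ?_
  have := (Subgroup.normal_of_index_eq_two D.index_two).conj_mem _ hm g⁻¹
  rwa [show g⁻¹ * (g * (σ * τ) * g⁻¹) * g⁻¹⁻¹ = σ * τ by group] at this

/-- Factors of a product of two involutions in `σ ^ 2 K` centralise `σ ^ 2`. -/
theorem pair_mem {a c l : H} (hl : l ∈ D.setup.core) (ha : a * a = 1) (hc : c * c = 1)
    (he : a * c = σ ^ 2 * l) : a ∈ Subgroup.centralizer ({σ ^ 2} : Set H) := by
  let S := D.setup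
  have hzC : σ ^ 2 * l ∈ Subgroup.centralizer ({σ ^ 2} : Set H) :=
    mul_mem (S.P_le_C S.J_mem) (S.core_le hl)
  have hpr : S.pr (σ ^ 2 * l) = σ ^ 2 := by
    rw [S.pr_mul (S.P_le_C S.J_mem) (S.core_le hl), S.pr_of_mem S.J_mem, S.pr_of_core hl, mul_one]
  obtain ⟨j, hj⟩ := S.exists_pow_eq hzC S.J_ne hpr
  have h1 : a * (σ ^ 2 * l) * a⁻¹ = (σ ^ 2 * l)⁻¹ := by
    rw [← he, mul_inv_rev, inv_eq_of_mul_eq_one_right ha, inv_eq_of_mul_eq_one_right hc,
      ← mul_assoc, ha, one_mul]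
  refine Subgroup.mem_centralizer_singleton_iff.2 (mul_inv_eq_iff_eq_mul.1 ?_)
  rw [← hj, ← conj_pow, h1, inv_pow, hj, inv_eq_of_mul_eq_one_right S.J_sq]

theorem refl_forms : τ * pw σ (1 : ZMod (2 * 2)) = σ * τ * σ ^ 2 ∧
    τ * pw σ (3 : ZMod (2 * 2)) = σ * τ ∧ τ * pw σ (0 : ZMod (2 * 2)) = τ ∧
    τ * pw σ (2 : ZMod (2 * 2)) = τ * σ ^ 2 := by
  have h1 : pw σ (1 : ZMod (2 * 2)) = σ := by
    show σ ^ (1 : ZMod (2 * 2)).val = σ
    rw [show (1 : ZMod (2 * 2)).val = 1 from rfl, pow_one]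
  have h3 : τ * σ ^ 3 = σ * τ := by
    have e := D.setup.inverts 3
    rw [mul_inv_eq_iff_eq_mul] at e
    rw [e]
    congr 1
    refine inv_eq_of_mul_eq_one_right ?_
    rw [← pow_succ, D.σ4]
  refine ⟨?_, h3, ?_, rfl⟩
  · rw [h1, ← h3, mul_assoc, ← pow_add, show 3 + 2 = 4 + 1 from rfl, pow_add, D.σ4, one_mul,
      pow_one]
  · rw [D.setup.pw_eq_one.2 rfl, mul_one]

/-- The involutions of `C(σ ^ 2)` outside `X`. -/
theorem invol_notMem {a : H} (ha : a * a = 1) (haC : a ∈ Subgroup.centralizer ({σ ^ 2} : Set H))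
    (haX : a ∉ X) : a = σ * τ ∨ a = σ * τ * σ ^ 2 := by
  let S := D.setup
  obtain ⟨f1, f3, f0, f2⟩ := D.refl_forms
  have ha1 : a ≠ 1 := fun e => haX (e ▸ X.one_mem)
  rcases S.pr_cases haC ha ha1 with e | ⟨i, hi⟩
  · exact absurd (e ▸ D.t_mem) haX
  obtain ⟨hp, hk⟩ := S.pr_spec haC
  have hiv : τ * pw σ i = σ * τ ∨ τ * pw σ i = σ * τ * σ ^ 2 := by
    have hnot : S.pr a ∉ X := fun h => haX (by
      have := mul_mem (D.core_le_X hk) h
      rwa [inv_mul_cancel_right] at this)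
    rw [hi] at hnot
    obtain rfl | rfl | rfl | rfl := zmod_four i
    · exact absurd (by rw [f0]; exact D.memτ) hnot
    · exact Or.inr f1
    · exact absurd (by rw [f2]; exact mul_mem D.memτ D.t_mem) hnot
    · exact Or.inl f3
  rw [← hi] at hiv
  have hkp : a * (S.pr a)⁻¹ * S.pr a = a := inv_mul_cancel_right _ _
  generalize hp' : S.pr a = p at hiv hk hkp
  generalize a * p⁻¹ = k at hk hkp
  have hcomm : Commute k p := by
    rcases hiv with rfl | rfl
    · exact (D.fixes k hk).symm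
    · exact (Commute.mul_right (D.fixes k hk).symm (D.core_t hk).symm)
  have hp2 : p * p = 1 := by
    rcases hiv with rfl | rfl
    · exact D.u_sq
    · have hc : Commute (σ * τ) (σ ^ 2) := D.u_commutes_t
      rw [hc.symm.mul_mul_mul_comm, D.u_sq, S.J_sq, one_mul]
  have hk1 : k = 1 := by
    refine orderOf_eq_one_iff.1 (Nat.eq_one_of_dvd_coprimes (Nat.coprime_two_right.2 S.core_odd)
      (S.core.orderOf_dvd_natCard hk) (orderOf_dvd_of_pow_eq_one ?_))
    rw [← hkp, hcomm.symm.mul_mul_mul_comm, hp2, mul_one] at ha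
    rw [pow_two, ha]
  rw [hk1, one_mul] at hkp
  rw [← hkp]
  exact hiv

theorem conj_u_ut : IsConj (σ * τ) (σ * τ * σ ^ 2) := isConj_iff.2 ⟨σ, D.sigma_conj_u⟩

open Classical in
/-- The pairs of conjugates of `σ * τ` with product in `σ ^ 2 K`. -/
theorem count_uu (l : D.setup.core) :
    (Finset.univ.filter fun p : H × H => IsConj (σ * τ) p.1 ∧ IsConj (σ * τ) p.2 ∧
      p.1 * p.2 = σ ^ 2 * (l : H)).card = if l = 1 then 2 else 0 := by
  let S := D.setup
  have hsq : ∀ {a : H}, IsConj (σ * τ) a → a * a = 1 := by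
    intro a h
    obtain ⟨g, rfl⟩ := isConj_iff.1 h
    rw [conj_mul, D.u_sq, mul_one, mul_inv_cancel]
  have hcases : ∀ {a c : H}, IsConj (σ * τ) a → IsConj (σ * τ) c → a * c = σ ^ 2 * (l : H) →
      l = 1 ∧ ((a = σ * τ ∧ c = σ * τ * σ ^ 2) ∨ (a = σ * τ * σ ^ 2 ∧ c = σ * τ)) := by
    intro a c ha hc he
    have haC := D.pair_mem l.2 (hsq ha) (hsq hc) he
    have hcC : c ∈ Subgroup.centralizer ({σ ^ 2} : Set H) := by
      have := mul_mem (inv_mem haC) (mul_mem (S.P_le_C S.J_mem) (S.core_le l.2))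
      rwa [← he, inv_mul_cancel_left] at this
    have ha' := D.invol_notMem (hsq ha) haC (D.conj_u_not_mem ha)
    have hc' := D.invol_notMem (hsq hc) hcC (D.conj_u_not_mem hc)
    have hP : a * c ∈ (P : Subgroup H) := by
      refine mul_mem ?_ ?_
      · rcases ha' with rfl | rfl
        exacts [D.u_mem, mul_mem D.u_mem S.J_mem]
      · rcases hc' with rfl | rfl
        exacts [D.u_mem, mul_mem D.u_mem S.J_mem]
    have hl : l = 1 := Subtype.ext (S.core_inf l.2 (by
      have := mul_mem (inv_mem S.J_mem) (he ▸ hP)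
      rwa [inv_mul_cancel_left] at this))
    subst hl
    rw [OneMemClass.coe_one, mul_one] at he
    have hc2 : c = a * σ ^ 2 := by rw [← he, ← mul_assoc, hsq ha, one_mul]
    refine ⟨rfl, ?_⟩
    rcases ha' with rfl | rfl
    · exact Or.inl ⟨rfl, hc2⟩
    · exact Or.inr ⟨rfl, by rw [hc2, mul_assoc, S.J_sq, mul_one]⟩
  split_ifs with hl
  · subst hl
    rw [show (Finset.univ.filter fun p : H × H => IsConj (σ * τ) p.1 ∧ IsConj (σ * τ) p.2 ∧
        p.1 * p.2 = σ ^ 2 * ((1 : D.setup.core) : H)) =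
      {(σ * τ, σ * τ * σ ^ 2), (σ * τ * σ ^ 2, σ * τ)} from ?_, Finset.card_pair]
    · intro e
      have := congrArg Prod.fst e
      simp only [left_eq_mul] at this
      exact S.J_ne this
    · ext ⟨a, c⟩
      simp only [Finset.mem_filter, Finset.mem_univ, true_and, Finset.mem_insert,
        Finset.mem_singleton, Prod.mk.injEq]
      constructor
      · rintro ⟨h1, h2, h3⟩
        exact (hcases h1 h2 h3).2
      · rintro (⟨rfl, rfl⟩ | ⟨rfl, rfl⟩)
        · refine ⟨IsConj.refl _, D.conj_u_ut, ?_⟩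
          rw [OneMemClass.coe_one, mul_one, ← mul_assoc, D.u_sq, one_mul]
        · refine ⟨D.conj_u_ut, IsConj.refl _, ?_⟩
          rw [OneMemClass.coe_one, mul_one, mul_assoc, ← D.u_commutes_t, ← mul_assoc, D.u_sq,
            one_mul]
  · rw [Finset.card_eq_zero, Finset.filter_eq_empty_iff]
    rintro ⟨a, c⟩ - ⟨h1, h2, h3⟩
    exact hl (hcases h1 h2 h3).1

open Classical in
/-- The pairs of conjugates of `σ ^ 2` with product in `σ ^ 2 K`. -/
theorem count_tt (l : D.setup.core) :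
    (Finset.univ.filter fun p : H × H => IsConj (σ ^ 2) p.1 ∧ IsConj (σ ^ 2) p.2 ∧
      p.1 * p.2 = σ ^ 2 * (l : H)).card = 2 * Nat.card D.setup.core := by
  let S := D.setup
  haveI := Fintype.ofFinite S.core
  obtain ⟨f1, f3, f0, f2⟩ := D.refl_forms
  have hfusedt : IsConj (σ ^ 2) (τ * σ ^ 2) := by
    refine D.fused.trans (isConj_iff.2 ⟨σ, ?_⟩)
    have e := D.setup.inverts 2
    calc σ * τ * σ⁻¹ = σ * (τ * σ⁻¹) := by group
      _ = σ * (σ * τ) := by
        congr 1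
        have h := congrArg (fun z => σ * z * σ⁻¹) D.tau_sigma
        simp only [mul_assoc, mul_inv_cancel, mul_one, mul_inv_cancel_left] at h
        exact h.symm
      _ = σ ^ 2 * τ := by rw [← mul_assoc, pow_two]
      _ = τ * σ ^ 2 := (D.t_comm S.memτ).symm
  let rf : Bool → H := fun e => bif e then τ * σ ^ 2 else τ
  have hrfP : ∀ e, rf e ∈ (P : Subgroup H) := fun e => by
    cases e <;> first | exact S.memτ | exact mul_mem S.memτ S.J_mem
  have hrfk : ∀ e, ∀ k ∈ S.core, rf e * k = k⁻¹ * rf e := by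
    intro e k hk
    have h := D.invert_τ hk
    rw [mul_inv_eq_iff_eq_mul] at h
    cases e
    · exact h
    · show τ * σ ^ 2 * k = k⁻¹ * (τ * σ ^ 2)
      rw [mul_assoc, D.core_t hk, ← mul_assoc, h, mul_assoc]
  have hrf2 : ∀ e, rf e * rf e = 1 := fun e => by
    cases e
    · exact D.ττ
    · show τ * σ ^ 2 * (τ * σ ^ 2) = 1
      rw [mul_assoc, ← mul_assoc (σ ^ 2), ← D.t_comm S.memτ, mul_assoc, S.J_sq, mul_one, D.ττ]
  have hel : ∀ e, ∀ k ∈ S.core, k * rf e ∈ Subgroup.centralizer ({σ ^ 2} : Set H) ∧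
      k * rf e * (k * rf e) = 1 ∧ IsConj (σ ^ 2) (k * rf e) ∧ S.pr (k * rf e) = rf e := by
    intro e k hk
    have h1 : k * rf e ∈ Subgroup.centralizer ({σ ^ 2} : Set H) :=
      mul_mem (S.core_le hk) (S.P_le_C (hrfP e))
    have h2 : k * rf e * (k * rf e) = 1 := by
      rw [mul_assoc, ← mul_assoc (rf e), hrfk e k hk, mul_assoc, hrf2, mul_one, mul_inv_cancel]
    have h3 : S.pr (k * rf e) = rf e := S.pr_eq hk (hrfP e)
    refine ⟨h1, h2, ?_, h3⟩
    obtain ⟨k', -, hk'⟩ := S.conj_of_pr h1 h2 (hrf2 e) h3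
    rw [hk']
    refine IsConj.trans ?_ (isConj_iff.2 ⟨k', rfl⟩)
    cases e <;> first | exact D.fused | exact hfusedt
  have hswap : ∀ e, ∀ k ∈ S.core,
      k * rf e * (σ ^ 2 * (l : H)) = k * (l : H)⁻¹ * rf (!e) := by
    intro e k hk
    have h4 : rf e * σ ^ 2 = rf (!e) := by
      cases e
      · rfl
      · show τ * σ ^ 2 * σ ^ 2 = τ
        rw [mul_assoc, S.J_sq, mul_one]
    rw [← mul_assoc, mul_assoc k (rf e), h4, mul_assoc k _ (l : H), hrfk _ _ l.2, ← mul_assoc]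
  have hmem : ∀ x : S.core × Bool, ((x.1 : H) * rf x.2,
      (x.1 : H) * rf x.2 * (σ ^ 2 * (l : H))) ∈ Finset.univ.filter fun p : H × H =>
      IsConj (σ ^ 2) p.1 ∧ IsConj (σ ^ 2) p.2 ∧ p.1 * p.2 = σ ^ 2 * (l : H) := by
    rintro ⟨⟨k, hk⟩, e⟩
    refine Finset.mem_filter.2 ⟨Finset.mem_univ _, (hel e k hk).2.2.1, ?_, ?_⟩
    · show IsConj (σ ^ 2) (k * rf e * (σ ^ 2 * (l : H)))
      rw [hswap e k hk]
      exact (hel (!e) _ (mul_mem hk (inv_mem l.2))).2.2.1
    · show k * rf e * (k * rf e * (σ ^ 2 * (l : H))) = _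
      rw [← mul_assoc, (hel e k hk).2.1, one_mul]
  symm
  rw [Nat.card_eq_fintype_card, mul_comm, show Fintype.card S.core * 2 =
    (Finset.univ : Finset (S.core × Bool)).card by
      rw [Finset.card_univ, Fintype.card_prod, Fintype.card_bool]]
  refine Finset.card_bij (fun x _ => ((x.1 : H) * rf x.2,
    (x.1 : H) * rf x.2 * (σ ^ 2 * (l : H)))) (fun x _ => hmem x) ?_ ?_
  · rintro ⟨⟨k, hk⟩, e⟩ - ⟨⟨k', hk'⟩, e'⟩ - h
    have h1 : k * rf e = k' * rf e' := congrArg Prod.fst h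
    obtain ⟨rfl, h2⟩ := S.unique hk (hrfP e) hk' (hrfP e') h1
    have he : e = e' := by
      have hne : τ ≠ τ * σ ^ 2 := fun h => S.J_ne (left_eq_mul.1 h)
      cases e <;> cases e'
      exacts [rfl, absurd h2 hne, absurd h2.symm hne, rfl]
    subst he
    rfl
  · rintro ⟨a, c⟩ hp
    obtain ⟨-, h1, h2, h3⟩ := Finset.mem_filter.1 hp
    have hsq : ∀ {v : H}, IsConj (σ ^ 2) v → v * v = 1 ∧ v ≠ 1 := by
      intro v hv
      obtain ⟨g, rfl⟩ := isConj_iff.1 hv
      refine ⟨by rw [conj_mul, S.J_sq, mul_one, mul_inv_cancel], ?_⟩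
      rw [ne_eq, conj_eq_one_iff]; exact S.J_ne
    simp only at h1 h2 h3
    have haC := D.pair_mem l.2 (hsq h1).1 (hsq h2).1 h3
    obtain ⟨hp', hk⟩ := S.pr_spec haC
    have hc : c = a * (σ ^ 2 * (l : H)) := by rw [← h3, ← mul_assoc, (hsq h1).1, one_mul]
    rcases S.pr_cases haC (hsq h1).1 (hsq h1).2 with e | ⟨i, hi⟩
    · exfalso
      rw [e, ← mul_assoc, S.J_sq, one_mul] at hc
      have h4 := (hsq h2).1
      rw [hc] at h4
      refine (hsq h2).2 ?_
      rw [hc]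
      exact orderOf_eq_one_iff.1 (Nat.eq_one_of_dvd_coprimes (Nat.coprime_two_right.2 S.core_odd)
        (S.core.orderOf_dvd_natCard l.2) (orderOf_dvd_of_pow_eq_one (by rw [pow_two, h4])))
    · have hX : τ * pw σ i ∈ X := by
        rw [← hi]
        have := mul_mem (inv_mem (D.core_le_X hk)) (D.conj_t_mem h1)
        rwa [show (a * (S.pr a)⁻¹)⁻¹ * a = S.pr a by group] at this
      obtain ⟨e, he⟩ : ∃ e, τ * pw σ i = rf e := by
        obtain rfl | rfl | rfl | rfl := zmod_four i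
        · exact ⟨false, f0⟩
        · exfalso
          rw [f1] at hX
          exact D.u_not_mem ((Subgroup.mul_mem_cancel_right _ D.t_mem).1 hX)
        · exact ⟨true, f2⟩
        · exfalso
          rw [f3] at hX
          exact D.u_not_mem hX
      have ha' : a * (S.pr a)⁻¹ * rf e = a := by rw [← he, ← hi, inv_mul_cancel_right]
      refine ⟨(⟨_, hk⟩, e), Finset.mem_univ _, ?_⟩
      show (a * (S.pr a)⁻¹ * rf e, a * (S.pr a)⁻¹ * rf e * (σ ^ 2 * (l : H))) = (a, c)
      rw [ha', ← hc]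

set_option maxHeartbeats 3000000 in
open Classical in
/-- The principal block and the two equations. -/
theorem principal (hM : Cfsg.IsPModular 2 M) :
    ∃ (F Y : IrrCharacter H) (x : ℕ) (δ : ℤ), (δ = 1 ∨ δ = -1) ∧ 2 ≤ x ∧
      Cfsg.charDegree (F : H → ℂ) = x ∧ twist D.index_two Y = Y ∧
      (∀ χ, χ ∈ Cfsg.principalBlock M H ↔ χ = trivChar H ∨
        χ = twist D.index_two (trivChar H) ∨ χ = F ∨ χ = twist D.index_two F ∨ χ = Y) ∧
      (∀ χ ∈ Cfsg.principalBlock M H, (χ : H → ℂ) (σ ^ 2) ≠ 0) ∧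
      (Nat.card H : ℤ) * ((x : ℤ) - δ) ^ 2 =
        64 * (Nat.card D.setup.core : ℤ) ^ 3 * x * ((x : ℤ) + δ) ∧
      (Nat.card H : ℤ) * Nat.card D.setup.core * ((x : ℤ) + δ) =
        16 * (Nat.card W : ℤ) ^ 2 * x := by
  haveI := Fintype.ofFinite D.setup.core
  haveI := Fintype.ofFinite W
  haveI := D.setup.ne_zero
  let S := D.setup
  set X₂ := D.index_two
  obtain ⟨ζ, hζ⟩ : ∃ ζ : ℂ, IsPrimitiveRoot ζ (2 * 2) :=
    ⟨_, Complex.isPrimitiveRoot_exp (2 * 2) (by norm_num)⟩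
  obtain ⟨F, A, B, Y, δ, a, b, hδ, ha, hb, n1, n2, n3, n4, n5, n6, hY, -, hmem, hv, hrel⟩ :=
    S.principal_block hM hζ
  have hσ1 : σ ^ 1 ≠ 1 := by rw [ne_eq, S.pow_eq_one]; norm_num
  have hσ2 : σ ^ 2 ≠ 1 := S.J_ne
  have hζ2 : ζ ^ 2 = -1 := by
    have h1 : ζ ^ 2 * ζ ^ 2 = 1 := by
      rw [← pow_add]; exact hζ.pow_eq_one
    exact (mul_self_eq_one_iff.1 h1).resolve_left
      (hζ.pow_ne_one_of_pos_of_lt two_ne_zero (by norm_num))
  have hζ0 : ζ ≠ 0 := hζ.ne_zero (by norm_num)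
  obtain ⟨vF1, vA1, vB1, vY1⟩ := hv 1 hσ1
  obtain ⟨vF2, vA2, vB2, vY2⟩ := hv 2 hσ2
  have vY1' : (Y 1 : H → ℂ) σ = 0 := by
    have := vY1 1 le_rfl (by norm_num)
    rw [pow_one, one_mul, pow_one] at this
    rw [this]
    field_simp
    linear_combination (δ : ℂ) * hζ2
  have vY2' : (Y 1 : H → ℂ) (σ ^ 2) = -2 * δ := by
    have := vY2 1 le_rfl (by norm_num)
    rw [one_mul, hζ2] at this
    rw [this]
    norm_num
    ring
  rw [pow_one] at vF1 vA1 vB1
  norm_num at vA1 vB1 vA2 vB2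
  have hδne : (δ : ℂ) ≠ 0 := by rcases hδ with rfl | rfl <;> norm_num
  have hblk : ∀ χ, χ ∈ Cfsg.principalBlock M H ↔
      χ = trivChar H ∨ χ = F ∨ χ = A ∨ χ = B ∨ χ = Y 1 := fun χ => by
    rw [hmem]
    refine or_congr_right (or_congr_right (or_congr_right (or_congr_right
      ⟨fun ⟨i, i1, i2, e⟩ => by rw [e, show i = 1 by omega], fun e => ⟨1, le_rfl, by norm_num, e⟩⟩)))
  set L := twist X₂ (trivChar H) with hL
  have hLσ : (L : H → ℂ) σ = -1 := by
    rw [hL, twist_notMem_apply X₂ _ D.notσ, trivChar_apply]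
  have hLt : (L : H → ℂ) (σ ^ 2) = 1 := by
    rw [hL, twist_mem_apply X₂ _ D.t_mem, trivChar_apply]
  have hLmem : L ∈ Cfsg.principalBlock M H := twist_mem_principal hM X₂ trivChar_mem
  -- identify the third character
  obtain ⟨F', a', ha', hlist, vF'1, vF'2, hne', hrel'⟩ : ∃ (F' : IrrCharacter H) (a' : ℤ),
      (a' = 1 ∨ a' = -1) ∧
      (∀ χ, χ ∈ Cfsg.principalBlock M H ↔ χ = trivChar H ∨ χ = L ∨ χ = F ∨ χ = F' ∨ χ = Y 1) ∧
      (F' : H → ℂ) σ = a' ∧ (F' : H → ℂ) (σ ^ 2) = -a' ∧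
      (trivChar H ≠ L ∧ trivChar H ≠ F' ∧ L ≠ F ∧ L ≠ F' ∧ F ≠ F' ∧ L ≠ Y 1 ∧ F' ≠ Y 1) ∧
      1 + (δ : ℂ) * (F : H → ℂ) 1 = 1 - (a' : ℂ) * (F' : H → ℂ) 1 := by
    have hr := (hrel 1 (by rw [orderOf_one]; exact odd_one) 1 le_rfl (by norm_num)).1
    have hL1 : (L : H → ℂ) 1 = 1 := by rw [hL, twist_mem_apply X₂ _ X.one_mem, trivChar_apply]
    rcases (hblk L).1 hLmem with e | e | e | e | e
    · exfalso; rw [e, trivChar_apply] at hLσ; norm_num at hLσ
    · exfalso
      rw [e, vF1] at hLσ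
      rw [e, vF2] at hLt
      rw [hLt] at hLσ; norm_num at hLσ
    · have ha1 : (a : ℂ) = -1 := by rw [← vA1, ← e, hLσ]
      refine ⟨B, b, hb, fun χ => ?_, vB1, vB2,
        ⟨e ▸ n2, n3, e ▸ n4.symm, e ▸ n6, n5, e ▸ (hY 1 le_rfl (by norm_num)).2.2.1,
          (hY 1 le_rfl (by norm_num)).2.2.2⟩, ?_⟩
      · rw [hblk, e]; tauto
      · rw [e] at hL1
        rw [hr, hL1, ha1]; ring
    · have hb1 : (b : ℂ) = -1 := by rw [← vB1, ← e, hLσ]
      refine ⟨A, a, ha, fun χ => ?_, vA1, vA2,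
        ⟨e ▸ n3, n2, e ▸ n5.symm, e ▸ n6.symm, n4, e ▸ (hY 1 le_rfl (by norm_num)).2.2.2,
          (hY 1 le_rfl (by norm_num)).2.2.1⟩, ?_⟩
      · rw [hblk, e]; tauto
      · rw [e] at hL1
        rw [hr, hL1, hb1]; ring
    · exfalso
      rw [e, vY1'] at hLσ
      norm_num at hLσ
  obtain ⟨m1, m2, m3, m4, m5, m6, m7⟩ := hne'
  set x := Cfsg.charDegree (F : H → ℂ) with hxdef
  have hx : (F : H → ℂ) 1 = (x : ℂ) := (charDegree_cast F).symm
  have hx1 : 0 < x := Nat.pos_of_ne_zero (charDegree_ne_zero F)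
  set x' := Cfsg.charDegree (F' : H → ℂ) with hx'def
  have hx' : (F' : H → ℂ) 1 = (x' : ℂ) := (charDegree_cast F').symm
  have hx'1 : 0 < x' := Nat.pos_of_ne_zero (charDegree_ne_zero F')
  rw [hx, hx'] at hrel'
  have ha'δ : a' = -δ := by
    have e : (δ : ℂ) * x = -(a' : ℂ) * x' := by linear_combination hrel'
    have e' : δ * (x : ℤ) = -a' * (x' : ℤ) := by exact_mod_cast e
    rcases hδ with rfl | rfl <;> rcases ha' with rfl | rfl <;> omega
  subst ha'δ
  push_cast at vF'1 vF'2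
  rw [neg_neg] at vF'2
  set G' := twist X₂ F with hG'
  have hG'σ : (G' : H → ℂ) σ = -δ := by rw [hG', twist_notMem_apply X₂ _ D.notσ, vF1]
  have hGF : G' = F' := by
    rcases (hlist G').1 (twist_mem_principal hM X₂ ((hblk F).2 (by tauto))) with e | e | e | e | e
    · exfalso
      refine m3 ?_
      rw [hL, ← e, hG', twist_twist]
    · exfalso
      refine n1 ?_
      rw [← twist_twist X₂ (trivChar H), ← hL, ← e, hG', twist_twist]
    · exfalso
      rw [e, vF1] at hG'σ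
      exact hδne (by linear_combination hG'σ / 2)
    · exact e
    · exfalso
      rw [e, vY1'] at hG'σ
      exact hδne (by linear_combination hG'σ)
  have hYY : twist X₂ (Y 1) = Y 1 := by
    have hσ' : (twist X₂ (Y 1) : H → ℂ) σ = 0 := by
      rw [twist_notMem_apply X₂ _ D.notσ, vY1', neg_zero]
    rcases (hlist _).1 (twist_mem_principal hM X₂ ((hblk (Y 1)).2 (by tauto)))
      with e | e | e | e | e
    · rw [e, trivChar_apply] at hσ'; norm_num at hσ'
    · rw [e, hLσ] at hσ'; norm_num at hσ'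
    · rw [e, vF1] at hσ'; exact absurd hσ' hδne
    · rw [e, vF'1] at hσ'; exact absurd (neg_eq_zero.1 hσ') hδne
    · exact e
  set y : ℂ := (Y 1 : H → ℂ) 1 with hy
  have hxy : 1 + (δ : ℂ) * x = δ * y :=
    hx ▸ (hrel 1 (by rw [orderOf_one]; exact odd_one) 1 le_rfl (by norm_num)).2
  have hδc : (δ : ℂ) * δ = 1 := by rcases hδ with rfl | rfl <;> norm_num
  have hyx : y = x + δ := by linear_combination (δ : ℂ) * hxy.symm - (y - x) * hδc
  have hy0 : y ≠ 0 := irr_one_ne_zero (Y 1).2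
  have hx0 : (x : ℂ) ≠ 0 := Nat.cast_ne_zero.2 hx1.ne'
  obtain ⟨v, hvu⟩ := BlocksFrobenius.exists_int_apply F D.u_sq
  have hG'u : (F' : H → ℂ) (σ * τ) = -v := by
    rw [← hGF, hG', twist_notMem_apply X₂ _ D.u_not_mem, hvu]
  have hYu : (Y 1 : H → ℂ) (σ * τ) = 0 := by
    have := twist_notMem_apply X₂ (Y 1) D.u_not_mem
    rw [hYY] at this
    linear_combination this / 2
  have hLu : (L : H → ℂ) (σ * τ) = -1 := by
    rw [hL, twist_notMem_apply X₂ _ D.u_not_mem, trivChar_apply]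
  have hFY : F ≠ Y 1 := (hY 1 le_rfl (by norm_num)).2.1
  have htY : trivChar H ≠ Y 1 := (hY 1 le_rfl (by norm_num)).1
  have hsum : ∀ g : IrrCharacter H → ℂ,
      ∑ χ, (if χ ∈ Cfsg.principalBlock M H then g χ else 0) =
        g (trivChar H) + g L + g F + g F' + g (Y 1) := by
    intro g
    rw [← Finset.sum_filter, show (Finset.univ.filter fun χ => χ ∈ Cfsg.principalBlock M H) =
      ({trivChar H, L, F, F', Y 1} : Finset _) by ext χ; simp [hlist],
      Finset.sum_insert (by simp [m1, n1, m2, htY]), Finset.sum_insert (by simp [m3, m4, m6]),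
      Finset.sum_insert (by simp [m5, hFY]), Finset.sum_pair m7]
    ring
  set K : ℂ := (Nat.card D.setup.core : ℂ) with hK
  set w : ℂ := (Nat.card W : ℂ) with hw
  have hKne : K ≠ 0 := Nat.cast_ne_zero.2 Nat.card_pos.ne'
  have hwne : w ≠ 0 := Nat.cast_ne_zero.2 Nat.card_pos.ne'
  have hF'x : (F' : H → ℂ) 1 = x := by
    rw [← hGF, hG', twist_mem_apply X₂ _ X.one_mem, hx]
  have hL1 : (L : H → ℂ) 1 = 1 := by rw [hL, twist_mem_apply X₂ _ X.one_mem, trivChar_apply]
  -- `v ^ 2 = 1`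
  have hv2 : (v : ℂ) * v = 1 := by
    have h0 := xsum_orth (L := W) (y := σ * τ) ⟨1, by rw [D.u_order, pow_one]⟩
      D.hcW D.W_odd D.W_normal 1 1
    have hcard : (Finset.univ.filter fun g : H => g * (σ * τ) = σ * τ * g ∧
        ∀ l : W, SectionSums.ext (1 : W →* ℂˣ) (g * l * g⁻¹) = (((1 : W →* ℂˣ) l : ℂˣ) : ℂ)).card =
        Nat.card (Subgroup.centralizer ({σ * τ} : Set H)) := by
      rw [Nat.card_eq_fintype_card]
      refine (Fintype.card_of_subtype _ fun g => ?_).symm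
      simp only [Finset.mem_filter, Finset.mem_univ, true_and,
        Subgroup.mem_centralizer_singleton_iff]
      refine ⟨fun h => h.1, fun h => ⟨h, fun l => ?_⟩⟩
      rw [SectionSums.ext_mem _ (D.W_normal g (Subgroup.mem_centralizer_singleton_iff.2 h) l l.2)]
      rfl
    rw [hcard, D.W_card] at h0
    simp only [D.xsum_one_u hM, map_mul, Complex.conj_natCast] at h0
    rw [Finset.sum_congr rfl (g := fun χ : IrrCharacter H => if χ ∈ Cfsg.principalBlock M H then
      w * w * ((χ : H → ℂ) (σ * τ) * conj ((χ : H → ℂ) (σ * τ))) else 0) fun χ _ => by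
        split_ifs <;> simp only [hw, Complex.conj_conj, map_zero] <;> ring, hsum] at h0
    simp only [trivChar_apply, hLu, hvu, hG'u, hYu, map_one, map_neg, map_intCast, map_zero,
      ← hw, Nat.cast_mul, Nat.cast_ofNat] at h0
    have h1 : w * w * ((v : ℂ) * v) * 2 = w * w * 2 := by linear_combination h0
    have := mul_right_cancel₀ (two_ne_zero) h1
    exact mul_left_cancel₀ (mul_ne_zero hwne hwne) (this.trans (mul_one _).symm)
  have E1 : (Nat.card H : ℂ) * ((x : ℂ) - δ) ^ 2 = 64 * K ^ 3 * x * ((x : ℂ) + δ) := by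
    have h0 := pair_count (σ ^ 2) (σ ^ 2) (σ ^ 2) (1 : D.setup.core →* ℂˣ)
      (fun _ => 2 * Nat.card D.setup.core) D.count_tt
    simp only [D.xsum_one_t hM, mul_ite, mul_zero, ite_mul, zero_mul, hsum] at h0
    simp only [trivChar_apply, hL1, hx, hF'x, ← hy, hLt, vF2, vF'2, vY2', map_one, map_intCast,
      map_mul, map_neg, map_ofNat, MonoidHom.one_apply, Units.val_one, one_mul, mul_one,
      Finset.sum_const, Finset.card_univ, ← Nat.card_eq_fintype_card, nsmul_eq_mul,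
      D.card_C_t] at h0
    push_cast at h0
    rw [← hK] at h0
    have hd : (1 / 1 + (1 : ℂ) / 1 + (δ * (δ * δ / x)) + δ * (δ * δ / x) +
        -2 * δ * (-2 * δ * (-2 * δ) / y)) * (x * y) = 2 * ((x : ℂ) - δ) ^ 2 := by
      field_simp
      rw [hyx]
      rcases hδ with rfl | rfl <;> push_cast <;> ring
    refine mul_left_cancel₀ (mul_ne_zero two_ne_zero hKne) ?_
    rw [← hyx]
    linear_combination (-((x : ℂ) * y)) * h0 - (Nat.card H : ℂ) * K * hd
  have E2 : (Nat.card H : ℂ) * K * ((x : ℂ) + δ) = 16 * w ^ 2 * x := by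
    have h0 := pair_count (σ * τ) (σ * τ) (σ ^ 2) (1 : D.setup.core →* ℂˣ)
      (fun l => if l = 1 then 2 else 0) D.count_uu
    simp only [D.xsum_one_t hM, mul_ite, mul_zero, ite_mul, zero_mul, hsum] at h0
    simp only [trivChar_apply, hL1, hx, hF'x, hLu, hvu, hG'u, hYu, hLt, vF2, vF'2, map_one,
      map_intCast, MonoidHom.one_apply, Units.val_one, one_mul, mul_one, mul_zero, zero_div,
      add_zero, D.W_card, Nat.cast_ite, Nat.cast_zero, Finset.sum_ite_eq', Finset.mem_univ,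
      if_true, Nat.cast_ofNat] at h0
    push_cast at h0
    rw [← hK, ← hw] at h0
    have hd : (1 / 1 + -1 * -1 / 1 + (δ : ℂ) * ((v : ℂ) * v / x) + δ * (-(v : ℂ) * -v / x)) * x =
        2 * ((x : ℂ) + δ) := by
      field_simp
      linear_combination 2 * (δ : ℂ) * hv2
    refine mul_left_cancel₀ two_ne_zero ?_
    linear_combination (-(x : ℂ)) * h0 - (Nat.card H : ℂ) * K * hd
  have hx2 : 2 ≤ x := by
    by_contra hc
    obtain hx1' : x = 1 := by omega
    rw [hx1', Nat.cast_one] at hxy hyx E1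
    rcases hδ with rfl | rfl
    · push_cast at E1
      rw [sub_self, zero_pow two_ne_zero, mul_zero] at E1
      exact pow_ne_zero 3 hKne (by linear_combination (-1 / 128 : ℂ) * E1)
    · push_cast at hyx
      exact hy0 (by linear_combination hyx)
  refine ⟨F, Y 1, x, δ, hδ, hx2, rfl, hYY, fun χ => ?_, fun χ hχ => S.apply_J_ne_zero hM hχ,
    ?_, ?_⟩
  · rw [hlist, hL, ← hGF]
  · rw [hK] at E1
    exact_mod_cast E1
  · rw [hK, hw] at E2
    exact_mod_cast E2

end Data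

end CfsgLib.Inv54.DihedralSigma
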