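import Cfsg.Agent.BlocksFrobenius.InvolutionPairs
import Cfsg.Agent.BlocksFrobenius.KleinOrder
import Cfsg.Agent.BlocksFrobenius.Dual
import Cfsg.Agent.ClassPairs.Basic

/-!
# Twisted sums of a character over the section of a `p`-element

`xsum y γ χ = ∑ l : L, γ l * conj (χ (y * l))` for a linear character `γ` of a subgroup `L` of
odd order in the centraliser of `y`: orthogonality, integrality and parity, Fourier inversion and
the weighted class pair count.
-/

set_option autoImplicit false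
set_option linter.style.haveILetI false
set_option linter.unusedSectionVars false

namespace CfsgLib.Inv54.SectionSums

open Cfsg CfsgLib.Blocks CfsgLib.Characters
open scoped ComplexConjugate

universe u

variable {G : Type u} [Group G] [Fintype G] {L : Subgroup G} [Fintype L]

/-- The twisted sum of `χ` over `y L`. -/
noncomputable def xsum (y : G) (γ : L →* ℂˣ) (χ : IrrCharacter G) : ℂ :=
  ∑ l : L, (γ l : ℂ) * conj ((χ : G → ℂ) (y * (l : G)))

open Classical in
/-- A linear character extended by zero. -/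
noncomputable def ext (γ : L →* ℂˣ) (g : G) : ℂ := if hg : g ∈ L then (γ ⟨g, hg⟩ : ℂ) else 0

theorem ext_mem (γ : L →* ℂˣ) {g : G} (hg : g ∈ L) : ext γ g = (γ ⟨g, hg⟩ : ℂ) := dif_pos hg

theorem ext_coe (γ : L →* ℂˣ) (l : L) : ext γ (l : G) = (γ l : ℂ) := by
  rw [ext_mem γ l.2]

theorem conj_self (γ : L →* ℂˣ) (l : L) : (γ l : ℂ) * conj (γ l : ℂ) = 1 := by
  rw [BlocksFrobenius.conj_apply, ← Units.val_mul, MonoidHom.inv_apply, mul_inv_cancel,
    Units.val_one]

theorem exists_hom_neg {y : G} (hy : orderOf y = 2) :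
    ∃ s : Subgroup.zpowers y →* ℂˣ, s ⟨y, Subgroup.mem_zpowers y⟩ = -1 := by
  let g : Subgroup.zpowers y := ⟨y, Subgroup.mem_zpowers y⟩
  have hgen : ∀ x : Subgroup.zpowers y, x ∈ Subgroup.zpowers g := by
    rintro ⟨x, hx⟩
    obtain ⟨k, rfl⟩ := Subgroup.mem_zpowers_iff.1 hx
    exact Subgroup.mem_zpowers_iff.2 ⟨k, Subtype.ext (by simp [g])⟩
  refine ⟨monoidHomOfForallMemZpowers hgen (g' := (-1 : ℂˣ)) ?_, ?_⟩
  · rw [show orderOf g = 2 from (Subgroup.orderOf_coe g).symm.trans hy]
    exact orderOf_dvd_of_pow_eq_one (by simp)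
  · exact monoidHomOfForallMemZpowers_apply_gen _ _

theorem sum_zpowers {y : G} (hy : orderOf y = 2) [Fintype (Subgroup.zpowers y)]
    (F : Subgroup.zpowers y → ℂ) :
    ∑ z, F z = F 1 + F ⟨y, Subgroup.mem_zpowers y⟩ := by
  classical
  have hne : (1 : Subgroup.zpowers y) ≠ ⟨y, Subgroup.mem_zpowers y⟩ := fun e => by
    have := congrArg Subtype.val e
    simp only [OneMemClass.coe_one] at this
    rw [← this, orderOf_one] at hy
    omega
  have huniv : (Finset.univ : Finset (Subgroup.zpowers y)) =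
      {1, ⟨y, Subgroup.mem_zpowers y⟩} := by
    refine (Finset.eq_univ_of_card _ ?_).symm
    rw [Finset.card_pair hne, ← Nat.card_eq_fintype_card, Nat.card_zpowers, hy]
  rw [huniv, Finset.sum_pair hne]

/-- Integrality and parity of the twisted sums. -/
theorem exists_int {y : G} (hy : orderOf y = 2) (hc : ∀ l ∈ L, y * l = l * y) (γ : L →* ℂˣ)
    (χ : IrrCharacter G) :
    ∃ d e : ℤ, xsum 1 γ χ = (Nat.card L : ℂ) * d ∧ xsum y γ χ = (Nat.card L : ℂ) * e ∧
      Even (d - e) := by
  classical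
  haveI := Fintype.ofFinite (Subgroup.zpowers y)
  have hcomm : ∀ (l : L) (z : Subgroup.zpowers y), Commute (L.subtype l)
      ((Subgroup.zpowers y).subtype z) := by
    rintro l ⟨z, hz⟩
    obtain ⟨k, rfl⟩ := Subgroup.mem_zpowers_iff.1 hz
    exact (show Commute (l : G) y from (hc l l.2).symm).zpow_right k
  let f : L × Subgroup.zpowers y →* G :=
    MonoidHom.noncommCoprod L.subtype (Subgroup.zpowers y).subtype hcomm
  obtain ⟨s, hs⟩ := exists_hom_neg hy
  let ψ : (Subgroup.zpowers y →* ℂˣ) → (L × Subgroup.zpowers y →* ℂˣ) :=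
    fun s => MonoidHom.coprod γ s
  have key : ∀ s : Subgroup.zpowers y →* ℂˣ, ∃ m : ℤ,
      xsum 1 γ χ + (s ⟨y, Subgroup.mem_zpowers y⟩ : ℂ) * xsum y γ χ =
        2 * (Nat.card L : ℂ) * m := by
    intro s
    obtain ⟨m, hm⟩ := classInner_characters (isCharacter_of_isIrr (isIrr_linChar (ψ s)))
      (isCharacter_comp f (isCharacter_of_isIrr χ.2))
    refine ⟨m, ?_⟩
    rw [Cfsg.classInner, inv_mul_eq_iff_eq_mul₀ (Nat.cast_ne_zero.2 Nat.card_pos.ne'),
      Nat.card_prod, Nat.card_zpowers, hy, Fintype.sum_prod_type] at hm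
    push_cast at hm
    rw [show (2 : ℂ) * (Nat.card L : ℂ) * ((m : ℤ) : ℂ) = (Nat.card L : ℂ) * 2 * (m : ℂ) by
      push_cast; ring, ← hm, xsum, xsum, Finset.mul_sum, ← Finset.sum_add_distrib]
    refine Finset.sum_congr rfl fun l _ => ?_
    rw [sum_zpowers hy]
    simp only [ψ, f, MonoidHom.coprod_apply, MonoidHom.noncommCoprod_apply, map_one, mul_one,
      one_mul, Units.val_mul, Subgroup.coe_subtype]
    rw [hc l l.2]
    ring
  obtain ⟨m₁, h₁⟩ := key 1
  obtain ⟨m₂, h₂⟩ := key s
  simp only [MonoidHom.one_apply, Units.val_one, one_mul] at h₁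
  rw [hs, Units.val_neg, Units.val_one] at h₂
  refine ⟨m₁ + m₂, m₁ - m₂, ?_, ?_, ⟨m₂, by ring⟩⟩
  · push_cast
    linear_combination (h₁ + h₂) / 2
  · push_cast
    linear_combination (h₁ - h₂) / 2

open Classical in
/-- The integer with `xsum y γ χ = |L| * nf y γ χ`. -/
noncomputable def nf (y : G) (γ : L →* ℂˣ) (χ : IrrCharacter G) : ℤ :=
  if h : ∃ e : ℤ, xsum y γ χ = (Nat.card L : ℂ) * e then h.choose else 0

theorem xsum_eq_nf {y : G} (hy : orderOf y = 2) (hc : ∀ l ∈ L, y * l = l * y) (γ : L →* ℂˣ)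
    (χ : IrrCharacter G) : xsum y γ χ = (Nat.card L : ℂ) * nf y γ χ := by
  obtain ⟨d, e, -, he, -⟩ := exists_int hy hc γ χ
  have h : ∃ e : ℤ, xsum y γ χ = (Nat.card L : ℂ) * e := ⟨e, he⟩
  rw [nf, dif_pos h]
  exact h.choose_spec

theorem nf_eq {y : G} (hy : orderOf y = 2) (hc : ∀ l ∈ L, y * l = l * y) {γ : L →* ℂˣ}
    {χ : IrrCharacter G} {e : ℤ} (he : xsum y γ χ = (Nat.card L : ℂ) * e) : nf y γ χ = e := by
  rw [xsum_eq_nf hy hc] at he
  exact_mod_cast mul_left_cancel₀ (Nat.cast_ne_zero.2 Nat.card_pos.ne') he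

/-- For two involutions centralising `L` the multiplicities have the same parity. -/
theorem nf_parity {y y' : G} (hy : orderOf y = 2) (hy' : orderOf y' = 2)
    (hc : ∀ l ∈ L, y * l = l * y) (hc' : ∀ l ∈ L, y' * l = l * y') (γ : L →* ℂˣ)
    (χ : IrrCharacter G) : Even (nf y γ χ - nf y' γ χ) := by
  obtain ⟨d, e, hd, he, r, hr⟩ := exists_int hy hc γ χ
  obtain ⟨d', e', hd', he', r', hr'⟩ := exists_int hy' hc' γ χ
  have : d = d' := by
    have := hd.symm.trans hd'
    exact_mod_cast mul_left_cancel₀ (Nat.cast_ne_zero.2 Nat.card_pos.ne') this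
  rw [nf_eq hy hc he, nf_eq hy' hc' he']
  exact ⟨r' - r, by omega⟩

theorem xsum_conj_nf {y : G} (hy : orderOf y = 2) (hc : ∀ l ∈ L, y * l = l * y) (γ : L →* ℂˣ)
    (χ : IrrCharacter G) : conj (xsum y γ χ) = xsum y γ χ := by
  rw [xsum_eq_nf hy hc, map_mul, Complex.conj_natCast, map_intCast]

open Classical in
/-- Orthogonality of two twisted sums. -/
theorem xsum_orth {y : G} (hy : ∃ k, orderOf y = 2 ^ k)
    (hc : ∀ l ∈ L, y * l = l * y) (hodd : Odd (Nat.card L))
    (hn : ∀ g ∈ Subgroup.centralizer ({y} : Set G), ∀ l ∈ L, g * l * g⁻¹ ∈ L)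
    (γ γ' : L →* ℂˣ) :
    ∑ χ : IrrCharacter G, xsum y γ χ * conj (xsum y γ' χ) =
      (Nat.card L : ℂ) * ((Finset.univ.filter fun g : G => g * y = y * g ∧
        ∀ l : L, ext γ (g * l * g⁻¹) = (γ' l : ℂ)).card : ℂ) := by
  haveI : Fact (Nat.Prime 2) := ⟨Nat.prime_two⟩
  have h2 : ∀ l : L, ¬ 2 ∣ orderOf (l : G) := fun l => by
    rw [Subgroup.orderOf_coe]
    exact (hodd.of_dvd_nat (orderOf_dvd_natCard l)).not_two_dvd_nat
  have hcol : ∀ l l' : L, ∑ χ : IrrCharacter G,
      (χ : G → ℂ) (y * (l' : G)) * conj ((χ : G → ℂ) (y * (l : G))) =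
      ∑ g : G, if g * y = y * g ∧ g * l' * g⁻¹ = (l : G) then 1 else 0 := by
    intro l l'
    rw [sum_irr_mul_conj, Finset.sum_boole, Nat.card_eq_fintype_card, Fintype.card_subtype]
    congr 2
    ext g
    simp only [Finset.mem_filter, Finset.mem_univ, true_and]
    constructor
    · intro e
      have h1 := isPPart_conj (isPPart_of_mul (p := 2) (hc l' l'.2) hy (h2 l')) g
      rw [e] at h1
      have h3 : g * y * g⁻¹ = y :=
        isPPart_unique Nat.prime_two h1 (isPPart_of_mul (p := 2) (hc l l.2) hy (h2 l))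
      refine ⟨mul_inv_eq_iff_eq_mul.1 h3, ?_⟩
      apply mul_left_cancel (a := y)
      rw [← e]
      conv_lhs => rw [← h3]
      group
    · rintro ⟨h1, h3⟩
      calc g * (y * l') * g⁻¹ = (g * y) * l' * g⁻¹ := by group
        _ = y * g * l' * g⁻¹ := by rw [h1]
        _ = y * (g * l' * g⁻¹) := by group
        _ = y * l := by rw [h3]
  calc ∑ χ : IrrCharacter G, xsum y γ χ * conj (xsum y γ' χ)
      = ∑ χ : IrrCharacter G, ∑ l : L, ∑ l' : L, (γ l : ℂ) * conj (γ' l' : ℂ) *
          ((χ : G → ℂ) (y * (l' : G)) * conj ((χ : G → ℂ) (y * (l : G)))) := by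
        refine Finset.sum_congr rfl fun χ _ => ?_
        rw [xsum, xsum, map_sum, Finset.sum_mul_sum]
        refine Finset.sum_congr rfl fun l _ => Finset.sum_congr rfl fun l' _ => ?_
        rw [map_mul, Complex.conj_conj]
        ring
    _ = ∑ g : G, ∑ l' : L, if g * y = y * g then
          ext γ (g * l' * g⁻¹) * conj (γ' l' : ℂ) else 0 := by
        rw [Finset.sum_comm, Finset.sum_congr rfl fun l _ => Finset.sum_comm]
        simp only [← Finset.mul_sum, hcol]
        simp only [Finset.mul_sum]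
        rw [Finset.sum_congr rfl fun l _ => Finset.sum_comm, Finset.sum_comm]
        refine Finset.sum_congr rfl fun g _ => ?_
        rw [Finset.sum_comm]
        refine Finset.sum_congr rfl fun l' _ => ?_
        by_cases hg : g * y = y * g
        · have hmem := hn g (Subgroup.mem_centralizer_singleton_iff.2 hg) l' l'.2
          rw [if_pos hg, ext_mem γ hmem, Finset.sum_eq_single ⟨_, hmem⟩]
          · simp [hg]
          · intro l _ hl
            rw [if_neg, mul_zero]
            exact fun h => hl (Subtype.ext h.2.symm)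
          · simp
        · rw [if_neg hg]
          exact Finset.sum_eq_zero fun l _ => by rw [if_neg fun h => hg h.1, mul_zero]
    _ = ∑ g : G, if g * y = y * g ∧ ∀ l : L, ext γ (g * l * g⁻¹) = (γ' l : ℂ) then
          (Nat.card L : ℂ) else 0 := by
        refine Finset.sum_congr rfl fun g _ => ?_
        by_cases hg : g * y = y * g
        · have hmem : ∀ l : L, g * l * g⁻¹ ∈ L := fun l =>
            hn g (Subgroup.mem_centralizer_singleton_iff.2 hg) l l.2
          let c : L →* L :=
            { toFun := fun l => ⟨_, hmem l⟩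
              map_one' := Subtype.ext (by simp)
              map_mul' := fun a b => Subtype.ext (by simp [mul_assoc]) }
          have e : ∀ l : L, ext γ (g * l * g⁻¹) * conj (γ' l : ℂ) =
              ((γ.comp c * γ'⁻¹) l : ℂ) := fun l => by
            rw [BlocksFrobenius.conj_apply, ext_mem γ (hmem l), MonoidHom.mul_apply, Units.val_mul]
            rfl
          simp only [hg, if_true, true_and]
          rw [Finset.sum_congr rfl fun l _ => e l, BlocksFrobenius.sum_apply]
          have hiff : (∀ l : L, ext γ (g * l * g⁻¹) = (γ' l : ℂ)) ↔ γ.comp c * γ'⁻¹ = 1 := by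
            refine Iff.trans ?_ (⟨fun h => ?_, fun h => ?_⟩ : γ.comp c = γ' ↔ γ.comp c * γ'⁻¹ = 1)
            rotate_left
            · refine MonoidHom.ext fun l => ?_
              rw [h, MonoidHom.mul_apply, MonoidHom.inv_apply, mul_inv_cancel, MonoidHom.one_apply]
            · refine MonoidHom.ext fun l => ?_
              have h' := DFunLike.congr_fun h l
              rw [MonoidHom.mul_apply, MonoidHom.inv_apply, MonoidHom.one_apply] at h'
              exact mul_inv_eq_one.1 h'
            constructor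
            · intro h
              refine MonoidHom.ext fun l => Units.ext ?_
              rw [← h l, ext_mem γ (hmem l)]
              rfl
            · intro h l
              rw [ext_mem γ (hmem l), ← DFunLike.congr_fun h l]
              rfl
          by_cases hq : γ.comp c * γ'⁻¹ = 1
          · rw [if_pos hq, if_pos (hiff.2 hq)]
          · rw [if_neg hq, if_neg fun h => hq (hiff.1 h)]
        · simp [hg]
    _ = _ := by
        rw [← Finset.sum_filter, Finset.sum_const, nsmul_eq_mul, mul_comm]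

/-- Orthogonality to the degrees. -/
theorem sum_degree_xsum {y : G} (hy1 : y ∉ L) (γ : L →* ℂˣ) :
    ∑ χ : IrrCharacter G, (χ : G → ℂ) 1 * xsum y γ χ = 0 := by
  simp only [xsum, Finset.mul_sum]
  rw [Finset.sum_comm]
  refine Finset.sum_eq_zero fun l _ => ?_
  rw [Finset.sum_congr rfl fun χ _ => mul_left_comm _ _ _, ← Finset.mul_sum,
    sum_irr_mul_conj_of_not_isConj, mul_zero]
  intro e
  refine hy1 ?_
  rw [isConj_one_right, mul_eq_one_iff_eq_inv] at e
  rw [e]
  exact inv_mem l.2

open Classical in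
/-- Fourier inversion. -/
theorem fourier [IsMulCommutative L] [Fintype (L →* ℂˣ)] (y : G) (χ : IrrCharacter G) :
    ∑ γ : L →* ℂˣ, xsum y γ χ = (Nat.card L : ℂ) * conj ((χ : G → ℂ) y) := by
  simp only [xsum]
  rw [Finset.sum_comm]
  simp only [← Finset.sum_mul, BlocksFrobenius.sum_dual_apply, ite_mul, zero_mul,
    Finset.sum_ite_eq', Finset.mem_univ, if_true, OneMemClass.coe_one, mul_one]

open Classical in
/-- The weighted count of pairs of conjugates with product in `z L`. -/
theorem pair_count (x y z : G) (γ : L →* ℂˣ) (N : L → ℕ)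
    (hN : ∀ l : L, (Finset.univ.filter fun p : G × G =>
      IsConj x p.1 ∧ IsConj y p.2 ∧ p.1 * p.2 = z * l).card = N l) :
    (Nat.card (Subgroup.centralizer ({x} : Set G)) : ℂ) *
        Nat.card (Subgroup.centralizer ({y} : Set G)) * ∑ l : L, (γ l : ℂ) * N l =
      (Nat.card G : ℂ) * ∑ χ : IrrCharacter G,
        xsum z γ χ * ((χ : G → ℂ) x * (χ : G → ℂ) y / (χ : G → ℂ) 1) := by
  set I := Finset.univ.filter fun u => IsConj x u with hIdef
  set J := Finset.univ.filter fun u => IsConj y u with hJdef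
  have hI : ∀ u, u ∈ I ↔ IsConj x u := fun u => by simp [hIdef]
  have hJ : ∀ u, u ∈ J ↔ IsConj y u := fun u => by simp [hJdef]
  have e : ∀ l : L, (Nat.card (Subgroup.centralizer ({x} : Set G)) : ℂ) *
      Nat.card (Subgroup.centralizer ({y} : Set G)) * N l =
      (Nat.card G : ℂ) * ∑ χ : IrrCharacter G, conj ((χ : G → ℂ) (z * (l : G))) *
        ((χ : G → ℂ) x * (χ : G → ℂ) y / (χ : G → ℂ) 1) := by
    intro l
    have key := ClassPairs.card_pairs x y ({z * (l : G)} : Finset G)
    simp only [Finset.sum_singleton] at key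
    rw [← key, Finset.sum_congr rfl fun a _ => BlocksFrobenius.Klein.sum_conj_eq y J hJ
        (fun v => if a * x * a⁻¹ * v ∈ ({z * (l : G)} : Finset G) then (1 : ℂ) else 0),
      ← Finset.smul_sum, BlocksFrobenius.Klein.sum_conj_eq x I hI
        (fun u => ∑ v ∈ J, if u * v ∈ ({z * (l : G)} : Finset G) then (1 : ℂ) else 0), smul_smul,
      nsmul_eq_mul, Nat.cast_mul, mul_comm (Nat.card (Subgroup.centralizer ({y} : Set G)) : ℂ)]
    congr 1
    rw [← Finset.sum_product' I J fun u v => if u * v ∈ ({z * (l : G)} : Finset G) then (1 : ℂ)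
      else 0, Finset.sum_boole, ← hN l]
    congr 2
    ext ⟨u, v⟩
    simp [hI, hJ, and_assoc]
  rw [Finset.mul_sum, Finset.sum_congr rfl fun l _ => show
    _ * ((γ l : ℂ) * N l) = (γ l : ℂ) * ((Nat.card G : ℂ) * _) by
      rw [← e l]; ring]
  simp only [xsum, Finset.sum_mul, Finset.mul_sum]
  rw [Finset.sum_comm]
  refine Finset.sum_congr rfl fun χ _ => Finset.sum_congr rfl fun l _ => ?_
  ring

/-- Twisting by a linear character trivial on `L`. -/
theorem xsum_twist {y : G} (γ : L →* ℂˣ) {χ χ' : IrrCharacter G} {c : G → ℂ} {a : ℂ}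
    (he : ∀ g, (χ' : G → ℂ) g = (χ : G → ℂ) g * c g) (ha : ∀ l : L, conj (c (y * l)) = a) :
    xsum y γ χ' = a * xsum y γ χ := by
  rw [xsum, xsum, Finset.mul_sum]
  refine Finset.sum_congr rfl fun l _ => ?_
  rw [he, map_mul, ha]
  ring

/-- Invariance under conjugation by an element that centralises `y` and normalises `L`. -/
theorem xsum_comp {y g : G} (hg : g * y = y * g) (hL : ∀ l ∈ L, g * l * g⁻¹ ∈ L)
    (γ γ' : L →* ℂˣ) (hγ : ∀ l : L, ext γ (g * l * g⁻¹) = (γ' l : ℂ)) (χ : IrrCharacter G) :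
    xsum y γ' χ = xsum y γ χ := by
  classical
  let φ : L → L := fun l => ⟨_, hL l l.2⟩
  have hφ : Function.Bijective φ := by
    refine Finite.injective_iff_bijective.1 fun a b e => Subtype.ext ?_
    exact mul_left_cancel (mul_right_cancel (congrArg Subtype.val e))
  refine Fintype.sum_bijective φ hφ _ _ fun l => ?_
  rw [← hγ l, ext_mem γ (hL l l.2)]
  congr 2
  rw [show y * (φ l : G) = g * (y * l) * g⁻¹ by
    show y * (g * l * g⁻¹) = _
    rw [← mul_assoc g y, hg]; group, isClassFunction_of_isIrr χ.2]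

/-- Exactly four signs. -/
theorem four_signs {ι : Type*} [Fintype ι] (π : ι → ι) (hπ : ∀ i, π (π i) = i) (n : ι → ℤ)
    (d : ι → ℕ) (hd : ∀ i, 0 < d i) (hdπ : ∀ i, d (π i) = d i) (hnπ : ∀ i, n (π i) = n i)
    (heven : ∀ i, π i = i → Even (n i)) (hsq : ∑ i, n i ^ 2 = 4)
    (hzero : ∑ i, (d i : ℤ) * n i = 0) :
    ∃ a b, n a = 1 ∧ n b = -1 ∧ π a ≠ a ∧ π b ≠ b ∧ d a = d b ∧
      a ≠ b ∧ a ≠ π b ∧ π a ≠ b ∧ π a ≠ π b ∧
      ∀ i, n i ≠ 0 → i = a ∨ i = π a ∨ i = b ∨ i = π b := by
  classical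
  have hle : ∀ i, n i ^ 2 ≤ 1 := by
    intro i
    by_contra hc
    have h2 : 4 ≤ n i ^ 2 := by
      have h3 : n i ≤ -2 ∨ 2 ≤ n i := by
        by_contra h4
        push Not at h4
        exact hc (by nlinarith)
      rcases h3 with h | h <;> nlinarith
    have hother : ∀ j, j ≠ i → n j = 0 := by
      intro j hj
      have h3 : n i ^ 2 + n j ^ 2 ≤ 4 := by
        rw [← hsq, ← Finset.sum_pair (f := fun k => n k ^ 2) hj.symm]
        exact Finset.sum_le_sum_of_subset_of_nonneg (Finset.subset_univ _)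
          fun k _ _ => sq_nonneg (n k)
      exact pow_eq_zero_iff two_ne_zero |>.1 (le_antisymm (by omega) (sq_nonneg _))
    rw [Finset.sum_eq_single i (fun j _ hj => by rw [hother j hj, mul_zero]) (by simp),
      mul_eq_zero] at hzero
    rcases hzero with h | h
    · exact (hd i).ne' (by exact_mod_cast h)
    · rw [h] at h2; norm_num at h2
  have hval : ∀ i, n i = 0 ∨ n i = 1 ∨ n i = -1 := fun i => by
    have := hle i
    have h1 : n i ≤ 1 := by nlinarith
    have h2 : -1 ≤ n i := by nlinarith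
    omega
  have hfix : ∀ i, n i ≠ 0 → π i ≠ i := fun i hi e => by
    obtain ⟨r, hr⟩ := heven i e
    rcases hval i with h | h | h <;> omega
  obtain ⟨a, ha⟩ : ∃ a, n a = 1 := by
    by_contra hc
    push Not at hc
    have h0 : ∀ i, (d i : ℤ) * n i ≤ 0 := fun i => by
      rcases hval i with h | h | h
      · simp [h]
      · exact absurd h (hc i)
      · rw [h]; omega
    have h1 := (Finset.sum_eq_zero_iff_of_nonpos fun i _ => h0 i).1 hzero
    have : ∀ i, n i = 0 := fun i => by
      rcases mul_eq_zero.1 (h1 i (Finset.mem_univ i)) with h | h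
      · exact absurd (by exact_mod_cast h) (hd i).ne'
      · exact h
    simp [this] at hsq
  obtain ⟨b, hb⟩ : ∃ b, n b = -1 := by
    by_contra hc
    push Not at hc
    have h0 : ∀ i, 0 ≤ (d i : ℤ) * n i := fun i => by
      rcases hval i with h | h | h
      · simp [h]
      · rw [h]; omega
      · exact absurd h (hc i)
    have h1 := (Finset.sum_eq_zero_iff_of_nonneg fun i _ => h0 i).1 hzero a (Finset.mem_univ a)
    rw [ha, mul_one] at h1
    exact (hd a).ne' (by exact_mod_cast h1)
  have hπa := hfix a (by omega)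
  have hπb := hfix b (by omega)
  have d1 : a ≠ b := fun e => by rw [e] at ha; omega
  have d2 : a ≠ π b := fun e => by rw [e, hnπ] at ha; omega
  have d3 : π a ≠ b := fun e => by rw [← e, hnπ] at hb; omega
  have d4 : π a ≠ π b := fun e => d1 (by rw [← hπ a, e, hπ])
  have hsum : ∀ (f : ι → ℤ), ∑ i ∈ ({a, π a, b, π b} : Finset ι), f i =
      f a + f (π a) + (f b + f (π b)) := fun f => by
    rw [Finset.sum_insert (by simp [hπa.symm, d1, d2]), Finset.sum_insert (by simp [d3, d4]),
      Finset.sum_pair hπb.symm]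
    ring
  have hsupp : ∀ i, n i ≠ 0 → i = a ∨ i = π a ∨ i = b ∨ i = π b := by
    intro i hi
    by_contra hc
    push Not at hc
    have h1 : ∑ j ∈ ({i, a, π a, b, π b} : Finset ι), n j ^ 2 ≤ 4 :=
      hsq ▸ Finset.sum_le_sum_of_subset_of_nonneg (Finset.subset_univ _)
        fun k _ _ => sq_nonneg (n k)
    rw [Finset.sum_insert (by simp [hc.1, hc.2.1, hc.2.2.1, hc.2.2.2]), hsum,
      hnπ, hnπ, ha, hb] at h1
    have : 1 ≤ n i ^ 2 := by
      have := mul_self_pos.2 hi
      nlinarith
    omega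
  refine ⟨a, b, ha, hb, hπa, hπb, ?_, d1, d2, d3, d4, hsupp⟩
  rw [← Finset.sum_subset (Finset.subset_univ ({a, π a, b, π b} : Finset ι)) (fun i _ hi => by
    by_contra hne
    have h : n i ≠ 0 := fun e => hne (by rw [e, mul_zero])
    exact hi (by simpa using hsupp i h)), hsum, hnπ, hnπ, hdπ, hdπ, ha, hb] at hzero
  omega

/-- A norm bound leaves nothing outside four odd entries. -/
theorem zero_outside {ι : Type*} [Fintype ι] (e : ι → ℤ) (h : ∑ i, e i ^ 2 = 4) {a b c d : ι}
    (hab : a ≠ b) (hac : a ≠ c) (had : a ≠ d) (hbc : b ≠ c) (hbd : b ≠ d) (hcd : c ≠ d)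
    (ha : Odd (e a)) (hb : Odd (e b)) (hc : Odd (e c)) (hd : Odd (e d)) {i : ι}
    (hia : i ≠ a) (hib : i ≠ b) (hic : i ≠ c) (hid : i ≠ d) : e i = 0 := by
  classical
  have h1 : ∑ j ∈ ({i, a, b, c, d} : Finset ι), e j ^ 2 ≤ 4 :=
    h ▸ Finset.sum_le_sum_of_subset_of_nonneg (Finset.subset_univ _)
      fun k _ _ => sq_nonneg (e k)
  rw [Finset.sum_insert (by simp [hia, hib, hic, hid]),
    Finset.sum_insert (by simp [hab, hac, had]), Finset.sum_insert (by simp [hbc, hbd]),
    Finset.sum_pair hcd] at h1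
  have hpos : ∀ {z : ℤ}, Odd z → 1 ≤ z ^ 2 := fun {z} hz => by
    have := pow_ne_zero 2 (show z ≠ 0 from fun e => by simp [e] at hz)
    have := sq_nonneg z
    omega
  have := hpos ha; have := hpos hb; have := hpos hc; have := hpos hd
  have := sq_nonneg (e i)
  exact pow_eq_zero_iff two_ne_zero |>.1 (le_antisymm (by omega) (by omega))

end CfsgLib.Inv54.SectionSums
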