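import Cfsg.Agent.Inv54.DihedralOrder
import Cfsg.Agent.Inv54.SectionSums
import Cfsg.Agent.Glauberman.Constituent

/-!
# A dihedral Sylow 2-subgroup of order 8 with a self-centralising element of order 4, index two

`Data P σ τ X W`: `H` has Sylow 2-subgroup `P = ⟨σ, τ⟩` of order 8, `C(σ) = ⟨σ⟩`, `X` of index 2
contains `τ` but not `σ` and fuses `σ ^ 2` with `τ`, `σ * τ` centralises the core of `C(σ ^ 2)`,
and `W` is an abelian normal subgroup of odd order and index 4 of `C(σ * τ)`.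
-/

set_option autoImplicit false
set_option linter.style.haveILetI false
set_option linter.unusedSectionVars false

namespace CfsgLib.Inv54.DihedralSigma

open Cfsg CfsgLib.Blocks CfsgLib.PrincipalBlock CfsgLib.Characters CfsgLib.Inv54.DihedralBlock
open CfsgLib.Inv54.SectionSums
open scoped ComplexConjugate

universe u

variable {H : Type u} [Group H] [Fintype H] {P : Sylow 2 H} {σ τ : H} {X W : Subgroup H}

/-- The configuration. -/
structure Data (P : Sylow 2 H) (σ τ : H) (X W : Subgroup H) : Prop where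
  setup : Setup P σ τ 2
  index_two : X.index = 2
  memτ : τ ∈ X
  notσ : σ ∉ X
  cent : Subgroup.centralizer ({σ} : Set H) ≤ Subgroup.zpowers σ
  fused : IsConj (σ ^ 2) τ
  fixes : ∀ k ∈ setup.core, σ * τ * k = k * (σ * τ)
  W_le : W ≤ Subgroup.centralizer ({σ * τ} : Set H)
  W_comm : ∀ a ∈ W, ∀ b ∈ W, a * b = b * a
  W_odd : Odd (Nat.card W)
  W_normal : ∀ g ∈ Subgroup.centralizer ({σ * τ} : Set H), ∀ l ∈ W, g * l * g⁻¹ ∈ W
  W_card : Nat.card (Subgroup.centralizer ({σ * τ} : Set H)) = 4 * Nat.card W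

namespace Data

variable (D : Data P σ τ X W)
include D

theorem ττ : τ * τ = 1 := Small.mul_self_of_orderOf_two D.setup.ordτ

theorem τi : τ⁻¹ = τ := Small.inv_eq_self_of_orderOf_two D.setup.ordτ

theorem σ4 : σ ^ 4 = 1 := D.setup.pow_eq_one.2 dvd_rfl

theorem tau_sigma : τ * σ = σ⁻¹ * τ := by
  have h := D.setup.rel
  rw [mul_inv_eq_iff_eq_mul] at h
  exact h

theorem u_mem : σ * τ ∈ (P : Subgroup H) := mul_mem D.setup.memσ D.setup.memτ

theorem u_not_mem : σ * τ ∉ X := fun h => D.notσ (by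
  have := mul_mem h (inv_mem D.memτ)
  rwa [mul_inv_cancel_right] at this)

theorem u_sq : σ * τ * (σ * τ) = 1 := by
  rw [mul_assoc, ← mul_assoc τ, D.tau_sigma, mul_assoc σ⁻¹, D.ττ, mul_one, mul_inv_cancel]

theorem u_order : orderOf (σ * τ) = 2 :=
  Small.orderOf_eq_two_iff_sq.2 ⟨fun e => D.u_not_mem (e ▸ X.one_mem), D.u_sq⟩

theorem t_mem : σ ^ 2 ∈ X := Subgroup.sq_mem_of_index_two D.index_two σ

theorem t_order : orderOf (σ ^ 2) = 2 := D.setup.J_order

theorem t_comm {p : H} (hp : p ∈ (P : Subgroup H)) : p * σ ^ 2 = σ ^ 2 * p := D.setup.J_central hp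

theorem odd_mem {g : H} (hg : Odd (orderOf g)) : g ∈ X := by
  obtain ⟨j, hj⟩ := hg
  have e : g = (g⁻¹ ^ 2) ^ j := by
    rw [← pow_mul, inv_pow]
    refine eq_inv_of_mul_eq_one_right ?_
    rw [← pow_succ, ← hj, pow_orderOf_eq_one]
  rw [e]
  exact pow_mem (Subgroup.sq_mem_of_index_two D.index_two _) _

theorem core_le_X {k : H} (hk : k ∈ D.setup.core) : k ∈ X :=
  D.odd_mem (D.setup.core_odd.of_dvd_nat (D.setup.core.orderOf_dvd_natCard hk))

theorem core_t {k : H} (hk : k ∈ D.setup.core) : σ ^ 2 * k = k * σ ^ 2 :=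
  (Subgroup.mem_centralizer_singleton_iff.1 (D.setup.core_le hk)).symm

theorem invert_σ {k : H} (hk : k ∈ D.setup.core) : σ * k * σ⁻¹ = k⁻¹ := by
  let S := D.setup
  have hσC := S.P_le_C S.memσ
  let c : S.core → S.core := fun k => ⟨σ * k * σ⁻¹, S.core_conj hσC k.2⟩
  let f : S.core → S.core := fun k => k⁻¹ * c k
  have hf : Function.Bijective f := by
    refine Finite.injective_iff_bijective.1 fun a b e => ?_
    have e' : (a : H)⁻¹ * (σ * a * σ⁻¹) = (b : H)⁻¹ * (σ * b * σ⁻¹) := congrArg Subtype.val e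
    have h1 : (b : H) * (a : H)⁻¹ ∈ Subgroup.centralizer ({σ} : Set H) := by
      rw [Subgroup.mem_centralizer_singleton_iff]
      calc (b : H) * (a : H)⁻¹ * σ = b * ((a : H)⁻¹ * (σ * a * σ⁻¹)) * σ * (a : H)⁻¹ := by group
        _ = σ * ((b : H) * (a : H)⁻¹) := by rw [e']; group
    have h2 : (b : H) * (a : H)⁻¹ ∈ (P : Subgroup H) :=
      (Subgroup.zpowers_le.2 S.memσ) (D.cent h1)
    exact Subtype.ext (mul_inv_eq_one.1 (S.core_inf (mul_mem b.2 (inv_mem a.2)) h2)).symm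
  obtain ⟨a, ha⟩ := hf.2 ⟨k, hk⟩
  have hk' : k = (a : H)⁻¹ * (σ * a * σ⁻¹) := (congrArg Subtype.val ha).symm
  have ht := D.core_t a.2
  rw [hk']
  calc σ * ((a : H)⁻¹ * (σ * a * σ⁻¹)) * σ⁻¹
      = σ * (a : H)⁻¹ * σ⁻¹ * (σ ^ 2 * a) * σ⁻¹ * σ⁻¹ := by rw [pow_two]; group
    _ = ((a : H)⁻¹ * (σ * a * σ⁻¹))⁻¹ := by rw [ht, pow_two]; group

theorem core_comm {a b : H} (ha : a ∈ D.setup.core) (hb : b ∈ D.setup.core) : a * b = b * a := by
  have h := D.invert_σ (mul_mem (inv_mem ha) (inv_mem hb))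
  rw [show σ * (a⁻¹ * b⁻¹) * σ⁻¹ = (σ * a⁻¹ * σ⁻¹) * (σ * b⁻¹ * σ⁻¹) by group,
    D.invert_σ (inv_mem ha), D.invert_σ (inv_mem hb), inv_inv, inv_inv, mul_inv_rev, inv_inv,
    inv_inv] at h
  exact h

theorem invert_τ {k : H} (hk : k ∈ D.setup.core) : τ * k * τ⁻¹ = k⁻¹ := by
  have h1 : τ * k * τ⁻¹ = σ⁻¹ * ((σ * τ) * k * (σ * τ)⁻¹) * σ := by group
  have h2 := D.invert_σ (inv_mem hk)
  rw [inv_inv] at h2
  rw [h1, D.fixes k hk, mul_inv_cancel_right]
  calc σ⁻¹ * k * σ = σ⁻¹ * (σ * k⁻¹ * σ⁻¹) * σ := by rw [h2]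
    _ = k⁻¹ := by group

theorem sigma_conj_u : σ * (σ * τ) * σ⁻¹ = σ * τ * σ ^ 2 := by
  have e : τ * σ⁻¹ = σ * τ := by
    have h := congrArg (fun z => σ * z * σ⁻¹) D.tau_sigma
    simp only [mul_assoc, mul_inv_cancel, mul_one, mul_inv_cancel_left] at h
    exact h.symm
  calc σ * (σ * τ) * σ⁻¹ = σ * σ * (τ * σ⁻¹) := by group
    _ = σ ^ 2 * (σ * τ) := by rw [e, pow_two]
    _ = _ := (D.t_comm D.u_mem).symm

/-- The two kinds of elements of `C(σ ^ 2)`. -/
theorem act {g : H} (hg : g ∈ Subgroup.centralizer ({σ ^ 2} : Set H)) :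
    (g * (σ * τ) = σ * τ * g ∧ ∀ k ∈ D.setup.core, g * k * g⁻¹ = k) ∨
      (g * (σ * τ) ≠ σ * τ * g ∧ ∀ k ∈ D.setup.core, g * k * g⁻¹ = k⁻¹) := by
  let S := D.setup
  set u := σ * τ with hu
  obtain ⟨k₀, hk₀, p, hp, rfl⟩ := S.decomp hg
  have hpow : ∃ i : ℕ, p = σ ^ i ∨ p = σ ^ i * u := by
    obtain ⟨i, rfl | rfl⟩ := S.elems p hp
    · exact ⟨i, Or.inl rfl⟩
    · refine ⟨3 * i + 3, Or.inr ?_⟩
      have h1 : σ ^ (3 * i) = (σ ^ i)⁻¹ := by
        refine eq_inv_of_mul_eq_one_left ?_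
        rw [← pow_add, show 3 * i + i = 4 * i by ring, pow_mul, D.σ4, one_pow]
      have h2 : σ ^ (3 * i + 3) * u = σ ^ (3 * i) * τ := by
        rw [hu, ← mul_assoc, ← pow_succ, show 3 * i + 3 + 1 = 3 * i + 4 by ring, pow_add, D.σ4,
          mul_one]
      rw [h2, h1]
      have := S.inverts i
      rw [mul_inv_eq_iff_eq_mul] at this
      exact this
  obtain ⟨i, hi⟩ := hpow
  obtain ⟨r, hr | hr⟩ := Nat.even_or_odd' i
  · left
    have hpu : p * u = u * p := by
      have h1 : Commute (σ ^ i) u := by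
        rw [hr, pow_mul]
        exact Commute.pow_left (show Commute (σ ^ 2) u from (D.t_comm D.u_mem).symm) r
      rcases hi with rfl | rfl
      · exact h1.eq
      · exact (h1.mul_left (Commute.refl u)).eq
    have hpk : ∀ k ∈ S.core, p * k = k * p := by
      intro k hk
      have h1 : Commute (σ ^ i) k := by
        rw [hr, pow_mul]
        exact Commute.pow_left (show Commute (σ ^ 2) k from D.core_t hk) r
      rcases hi with rfl | rfl
      · exact h1.eq
      · exact (h1.mul_left (D.fixes k hk : Commute u k)).eq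
    refine ⟨?_, fun k hk => ?_⟩
    · calc k₀ * p * u = k₀ * u * p := by rw [mul_assoc, hpu, ← mul_assoc]
        _ = u * (k₀ * p) := by rw [← D.fixes k₀ hk₀, mul_assoc]
    · rw [mul_inv_eq_iff_eq_mul, mul_assoc, hpk k hk, ← mul_assoc, D.core_comm hk₀ hk, mul_assoc]
  · right
    have hσi : ∃ q : H, σ ^ i = q * σ ∧ q * u = u * q ∧ ∀ k ∈ S.core, q * k = k * q := by
      refine ⟨(σ ^ 2) ^ r, by rw [← pow_mul, ← pow_succ, hr], ?_, fun k hk => ?_⟩
      · exact Commute.pow_left (show Commute (σ ^ 2) u from (D.t_comm D.u_mem).symm) r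
      · exact Commute.pow_left (show Commute (σ ^ 2) k from D.core_t hk) r
    obtain ⟨q, hq, hqu, hqk⟩ := hσi
    have hpu : p * u * p⁻¹ = u * σ ^ 2 ∧ ∀ k ∈ S.core, p * k * p⁻¹ = k⁻¹ := by
      have hq1 : σ ^ i * u * (σ ^ i)⁻¹ = u * σ ^ 2 := by
        rw [hq, show q * σ * u * (q * σ)⁻¹ = q * (σ * u * σ⁻¹) * q⁻¹ by group,
          show σ * u * σ⁻¹ = u * σ ^ 2 from D.sigma_conj_u]
        have hqs : Commute q (σ ^ 2) := by
          have : Commute (σ ^ i) (σ ^ 2) := Commute.pow_pow_self σ i 2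
          rw [hq] at this
          have h2 : Commute σ (σ ^ 2) := Commute.self_pow σ 2
          have h3 := this.mul_left h2.inv_left
          rwa [mul_inv_cancel_right] at h3
        rw [← mul_assoc, hqu, mul_assoc u q, hqs.eq, ← mul_assoc, mul_inv_cancel_right]
      have hq2 : ∀ k ∈ S.core, σ ^ i * k * (σ ^ i)⁻¹ = k⁻¹ := fun k hk => by
        rw [hq, show q * σ * k * (q * σ)⁻¹ = q * (σ * k * σ⁻¹) * q⁻¹ by group, D.invert_σ hk,
          hqk _ (inv_mem hk), mul_inv_cancel_right]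
      rcases hi with rfl | rfl
      · exact ⟨hq1, hq2⟩
      · refine ⟨?_, fun k hk => ?_⟩
        · rw [show σ ^ i * u * u * (σ ^ i * u)⁻¹ = σ ^ i * u * (σ ^ i)⁻¹ by group, hq1]
        · rw [show σ ^ i * u * k * (σ ^ i * u)⁻¹ = σ ^ i * (u * k * u⁻¹) * (σ ^ i)⁻¹ by group,
            show u * k = k * u from D.fixes k hk, mul_inv_cancel_right, hq2 k hk]
    refine ⟨fun e => ?_, fun k hk => ?_⟩
    · have e1 : p * u * p⁻¹ = k₀⁻¹ * u * k₀ := by
        calc p * u * p⁻¹ = k₀⁻¹ * (k₀ * p * u) * p⁻¹ := by group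
          _ = _ := by rw [e]; group
      rw [hpu.1, mul_assoc k₀⁻¹ u, show u * k₀ = k₀ * u from D.fixes k₀ hk₀, inv_mul_cancel_left,
        mul_eq_left] at e1
      exact S.J_ne e1
    · rw [show k₀ * p * k * (k₀ * p)⁻¹ = k₀ * (p * k * p⁻¹) * k₀⁻¹ by group, hpu.2 k hk,
        D.core_comm hk₀ (inv_mem hk), mul_inv_cancel_right]

theorem mem_core {c : H} (hc : c ∈ Subgroup.centralizer ({σ ^ 2} : Set H))
    (ho : Odd (orderOf c)) : c ∈ D.setup.core := by
  let S := D.setup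
  obtain ⟨hp, hk⟩ := S.pr_spec hc
  have hpow : ∀ i : ℕ, S.pr (c ^ i) = S.pr c ^ i := fun i => by
    induction i with
    | zero => rw [pow_zero, pow_zero, S.pr_of_core S.core.one_mem]
    | succ i ih => rw [pow_succ, S.pr_mul (pow_mem hc i) hc, ih, pow_succ]
  have h1 : S.pr c = 1 := by
    haveI : Fact (Nat.Prime 2) := ⟨Nat.prime_two⟩
    obtain ⟨j, hj⟩ := P.isPGroup'.exists_card_eq
    refine orderOf_eq_one_iff.1 (Nat.eq_one_of_dvd_coprimes
      ((Nat.coprime_two_right.2 ho).pow_right j) (orderOf_dvd_of_pow_eq_one ?_)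
      (hj ▸ Subgroup.orderOf_dvd_natCard _ hp))
    rw [← hpow, pow_orderOf_eq_one, S.pr_of_core S.core.one_mem]
  rwa [h1, inv_one, mul_one] at hk

theorem u_commutes_t : σ * τ * σ ^ 2 = σ ^ 2 * (σ * τ) := D.t_comm D.u_mem

/-- Odd elements of `C(σ * τ)` lie in `W`. -/
theorem mem_W {c : H} (hc : c ∈ Subgroup.centralizer ({σ * τ} : Set H)) (ho : Odd (orderOf c)) :
    c ∈ W := by
  set C := Subgroup.centralizer ({σ * τ} : Set H) with hC
  haveI : (W.subgroupOf C).Normal := ⟨fun x hx g => by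
    rw [Subgroup.mem_subgroupOf] at hx ⊢
    push_cast
    exact D.W_normal g g.2 x hx⟩
  have hidx : (W.subgroupOf C).index = 4 := by
    have h1 := (W.subgroupOf C).card_mul_index
    rw [Nat.card_congr (Subgroup.subgroupOfEquivOfLe D.W_le).toEquiv, D.W_card, mul_comm 4] at h1
    exact Nat.eq_of_mul_eq_mul_left Nat.card_pos h1
  have h4 : (⟨c, hc⟩ : C) ^ 4 ∈ W.subgroupOf C := hidx ▸ Subgroup.pow_index_mem _ _
  have h4' : c ^ 4 ∈ W := Subgroup.mem_subgroupOf.1 h4
  have hcop : (orderOf c).Coprime 4 := (Nat.coprime_two_right.2 ho).pow_right 2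
  obtain ⟨m, hm⟩ := exists_pow_eq_self_of_coprime hcop.symm
  rw [← hm]
  exact pow_mem h4' m

theorem core_le_W {k : H} (hk : k ∈ D.setup.core) : k ∈ W :=
  D.mem_W (Subgroup.mem_centralizer_singleton_iff.2 (D.fixes k hk).symm)
    (D.setup.core_odd.of_dvd_nat (D.setup.core.orderOf_dvd_natCard hk))

theorem t_conj_W {l : H} (hl : l ∈ W) : σ ^ 2 * l * (σ ^ 2)⁻¹ ∈ W :=
  D.W_normal _ (Subgroup.mem_centralizer_singleton_iff.2 D.u_commutes_t.symm) l hl

/-- The elements of `C(σ * τ)`. -/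
theorem decomp_u {g : H} (hg : g ∈ Subgroup.centralizer ({σ * τ} : Set H)) :
    ∃ l ∈ W, ∃ i j : Bool, g = l * ((bif i then σ ^ 2 else 1) * (bif j then σ * τ else 1)) := by
  classical
  set C := Subgroup.centralizer ({σ * τ} : Set H) with hC
  haveI := Fintype.ofFinite C
  haveI := Fintype.ofFinite W
  have hmem : ∀ i j : Bool, (bif i then σ ^ 2 else 1) * (bif j then σ * τ else 1) ∈ C := by
    intro i j
    refine mul_mem ?_ ?_
    · cases i
      · exact C.one_mem
      · exact Subgroup.mem_centralizer_singleton_iff.2 D.u_commutes_t.symm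
    · cases j
      · exact C.one_mem
      · exact Subgroup.mem_centralizer_singleton_iff.2 rfl
  let f : W × Bool × Bool → C := fun x =>
    ⟨x.1 * ((bif x.2.1 then σ ^ 2 else 1) * (bif x.2.2 then σ * τ else 1)),
      mul_mem (D.W_le x.1.2) (hmem _ _)⟩
  have hP : ∀ i j : Bool,
      (bif i then σ ^ 2 else 1) * (bif j then σ * τ else 1) ∈ (P : Subgroup H) := fun i j =>
    mul_mem (by cases i <;> first | exact one_mem _ | exact D.setup.J_mem)
      (by cases j <;> first | exact one_mem _ | exact D.u_mem)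
  have hdist : ∀ i j i' j' : Bool, (bif i then σ ^ 2 else 1) * (bif j then σ * τ else 1) =
      (bif i' then σ ^ 2 else 1) * (bif j' then σ * τ else 1) → i = i' ∧ j = j' := by
    intro i j i' j' e
    have hX : ∀ i j : Bool,
        ((bif i then σ ^ 2 else 1) * (bif j then σ * τ else 1) ∈ X ↔ j = false) := by
      intro i j
      have hi : (bif i then σ ^ 2 else 1) ∈ X := by
        cases i <;> first | exact one_mem _ | exact D.t_mem
      rw [Subgroup.mul_mem_cancel_left _ hi]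
      cases j <;> simp [D.u_not_mem, X.one_mem]
    have hj : j = j' := by
      have h := hX i j
      rw [e, hX] at h
      cases j <;> cases j' <;> simp_all
    subst hj
    refine ⟨?_, rfl⟩
    have e' := mul_right_cancel e
    cases i <;> cases i' <;>
      first | rfl | exact absurd e' D.setup.J_ne | exact absurd e'.symm D.setup.J_ne
  have hf : Function.Bijective f := by
    refine (Fintype.bijective_iff_injective_and_card f).2 ⟨?_, ?_⟩
    · rintro ⟨⟨a, ha⟩, i, j⟩ ⟨⟨a', ha'⟩, i', j'⟩ e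
      have e' : a * ((bif i then σ ^ 2 else 1) * (bif j then σ * τ else 1)) =
          a' * ((bif i' then σ ^ 2 else 1) * (bif j' then σ * τ else 1)) := congrArg Subtype.val e
      generalize hp : (bif i then σ ^ 2 else 1) * (bif j then σ * τ else 1) = p at e'
      generalize hp' : (bif i' then σ ^ 2 else 1) * (bif j' then σ * τ else 1) = p' at e'
      have h1 : a'⁻¹ * a = p' * p⁻¹ := by
        calc a'⁻¹ * a = a'⁻¹ * (a * p) * p⁻¹ := by group
          _ = p' * p⁻¹ := by rw [e']; group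
      haveI : Fact (Nat.Prime 2) := ⟨Nat.prime_two⟩
      obtain ⟨r, hr⟩ := P.isPGroup'.exists_card_eq
      have h2 : a'⁻¹ * a = 1 := orderOf_eq_one_iff.1 (Nat.eq_one_of_dvd_coprimes
        ((Nat.coprime_two_right.2 D.W_odd).pow_right r)
        (W.orderOf_dvd_natCard (mul_mem (inv_mem ha') ha))
        (hr ▸ h1 ▸ Subgroup.orderOf_dvd_natCard _
          (mul_mem (hp' ▸ hP i' j') (inv_mem (hp ▸ hP i j)))))
      have h3 : a' = a := inv_mul_eq_one.1 h2
      subst h3
      rw [← hp, ← hp'] at e'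
      obtain ⟨rfl, rfl⟩ := hdist i j i' j' (mul_left_cancel e')
      rfl
    · rw [← Nat.card_eq_fintype_card, ← Nat.card_eq_fintype_card, D.W_card, Nat.card_prod,
        Nat.card_prod, Nat.card_eq_fintype_card (α := Bool), Fintype.card_bool]
      ring
  obtain ⟨⟨l, i, j⟩, h⟩ := hf.2 ⟨g, hg⟩
  exact ⟨l, l.2, i, j, (congrArg Subtype.val h).symm⟩

/-- The two kinds of elements of `C(σ * τ)`. -/
theorem act_W {g : H} (hg : g ∈ Subgroup.centralizer ({σ * τ} : Set H)) :
    (∀ l ∈ W, g * l * g⁻¹ = l) ∨ ∀ l ∈ W, g * l * g⁻¹ = σ ^ 2 * l * (σ ^ 2)⁻¹ := by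
  obtain ⟨a, ha, i, j, rfl⟩ := D.decomp_u hg
  have hju : ∀ l ∈ W,
      (bif j then σ * τ else 1) * l * (bif j then σ * τ else 1)⁻¹ = l := by
    intro l hl
    cases j
    · simp
    · rw [cond_true, mul_inv_eq_iff_eq_mul]
      exact (Subgroup.mem_centralizer_singleton_iff.1 (D.W_le hl)).symm
  have key : ∀ l ∈ W, a * ((bif i then σ ^ 2 else 1) * (bif j then σ * τ else 1)) * l *
      (a * ((bif i then σ ^ 2 else 1) * (bif j then σ * τ else 1)))⁻¹ =
      a * ((bif i then σ ^ 2 else 1) * l * (bif i then σ ^ 2 else 1)⁻¹) * a⁻¹ := by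
    intro l hl
    conv_rhs => rw [← hju l hl]
    group
  cases i
  · refine Or.inl fun l hl => ?_
    rw [key l hl]
    simp [D.W_comm a ha l hl]
  · refine Or.inr fun l hl => ?_
    rw [key l hl, cond_true, D.W_comm a ha _ (D.t_conj_W hl), mul_inv_cancel_right]

end Data

end CfsgLib.Inv54.DihedralSigma
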