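import Cfsg.Agent.Inv54.AltFive
import Cfsg.Agent.S4416
import Cfsg.Agent.ExtraspecialBasic.Order

/-!
# An extraspecial group of order 32 acted on by the alternating group of degree 5

`Q` is extraspecial of order 32, normalized by `K ≅ A₅`, and no element of order 5 of `K`
centralizes `Q`. Then `Q` has ten non-central involutions, forming five pairs permuted as `A₅`
does, and for each involution `k` of `K` exactly eight `q` in `Q` make `k * q` an involution.
-/

set_option autoImplicit false

namespace CfsgLib.Inv54.ExtraAlt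

/-- The setting. -/
structure Setting (G : Type*) [Group G] where
  Q : Subgroup G
  K : Subgroup G
  z : G
  hQ : Cfsg.IsExtraspecial 2 Q
  hcard : Nat.card Q = 32
  hzQ : z ∈ Q
  hz1 : z ≠ 1
  hzc : ∀ q ∈ Q, q * z = z * q
  hzK : ∀ k ∈ K, k * z = z * k
  hK : Nonempty (K ≃* alternatingGroup (Fin 5))
  hnorm : ∀ k ∈ K, ∀ q ∈ Q, k * q * k⁻¹ ∈ Q
  hfaith : ∀ k ∈ K, orderOf k = 5 → ∃ q ∈ Q, k * q * k⁻¹ ≠ q

universe u

variable {G : Type u} [Group G] [Finite G]

namespace Setting

variable (s : Setting G)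

/-- Non-central elements of `Q` squaring to 1. -/
def A : Set G := {q | q ∈ s.Q ∧ q * q = 1 ∧ q ≠ 1 ∧ q ≠ s.z}

theorem center_eq {q : s.Q} (hq : q ∈ Subgroup.center s.Q) : (q : G) = 1 ∨ (q : G) = s.z := by
  have h2 : Nat.card (Subgroup.center s.Q) = 2 := s.hQ.2
  have hzc : (⟨s.z, s.hzQ⟩ : s.Q) ∈ Subgroup.center s.Q :=
    Subgroup.mem_center_iff.2 fun p => Subtype.ext (s.hzc p p.2)
  obtain ⟨w, -, huniq⟩ := (Nat.card_eq_two_iff' (1 : Subgroup.center s.Q)).1 h2
  by_cases h : (⟨q, hq⟩ : Subgroup.center s.Q) = 1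
  · exact Or.inl (congrArg (fun t : Subgroup.center s.Q => (((t : s.Q)) : G)) h)
  · have h1 := huniq _ h
    have h2' := huniq ⟨_, hzc⟩ fun e =>
      s.hz1 (congrArg (fun t : Subgroup.center s.Q => (((t : s.Q)) : G)) e)
    exact Or.inr (congrArg (fun t : Subgroup.center s.Q => (((t : s.Q)) : G)) (h1.trans h2'.symm))

theorem zz : s.z * s.z = 1 := by
  rcases s.center_eq (CfsgLib.ExtraspecialBasic.pow_mem_center (p := 2) s.hQ ⟨s.z, s.hzQ⟩) with h | h
  · rwa [Subgroup.coe_pow, pow_two] at h
  · rw [Subgroup.coe_pow, pow_two] at h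
    exact absurd (mul_eq_left.1 h) s.hz1

theorem sq_cases {q : G} (hq : q ∈ s.Q) : q * q = 1 ∨ q * q = s.z := by
  rcases s.center_eq (CfsgLib.ExtraspecialBasic.pow_mem_center (p := 2) s.hQ ⟨q, hq⟩) with h | h
  · exact Or.inl (by rwa [Subgroup.coe_pow, pow_two] at h)
  · exact Or.inr (by rwa [Subgroup.coe_pow, pow_two] at h)

theorem comm_cases {a b : G} (ha : a ∈ s.Q) (hb : b ∈ s.Q) :
    a * b = b * a ∨ a * b = b * a * s.z := by
  have h := s.center_eq (CfsgLib.ExtraspecialBasic.commutator_mem_center s.hQ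
    (⟨a, ha⟩ : s.Q) ⟨b, hb⟩)
  simp only [commutatorElement_def, Subgroup.coe_mul, Subgroup.coe_inv] at h
  have e : a * b = a * b * a⁻¹ * b⁻¹ * (b * a) := by group
  rcases h with h | h
  · left; rw [e, h, one_mul]
  · right; rw [e, h, s.hzc _ (s.Q.mul_mem hb ha)]

theorem mul_z_mem_A {a : G} (ha : a ∈ s.A) : a * s.z ∈ s.A := by
  obtain ⟨hQ, h2, h1, hz⟩ := ha
  have hai : a⁻¹ = a := inv_eq_of_mul_eq_one_left h2
  refine ⟨s.Q.mul_mem hQ s.hzQ, ?_, fun h => hz ?_, fun h => h1 (mul_eq_right.1 h)⟩
  · calc a * s.z * (a * s.z) = a * (a * s.z) * s.z := by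
          rw [mul_assoc a s.z, ← mul_assoc s.z, ← s.hzc a hQ, ← mul_assoc]
      _ = 1 := by rw [← mul_assoc a a, h2, one_mul, s.zz]
  · rw [eq_inv_of_mul_eq_one_left h, inv_eq_of_mul_eq_one_left s.zz]

theorem conj_mem_A {k a : G} (hk : k ∈ s.K) (ha : a ∈ s.A) : k * a * k⁻¹ ∈ s.A := by
  obtain ⟨hQ, h2, h1, hz⟩ := ha
  refine ⟨s.hnorm k hk a hQ, ?_, fun h => h1 ?_, fun h => hz ?_⟩
  · calc k * a * k⁻¹ * (k * a * k⁻¹) = k * (a * a) * k⁻¹ := by group
      _ = 1 := by rw [h2]; group
  · exact conj_eq_one_iff.1 h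
  · calc a = k⁻¹ * (k * a * k⁻¹) * k := by group
      _ = k⁻¹ * (s.z * k) := by rw [h, mul_assoc]
      _ = s.z := by rw [← s.hzK k hk, inv_mul_cancel_left]

theorem exists_five : ∃ g ∈ s.K, orderOf g = 5 := by
  obtain ⟨e⟩ := s.hK
  have := Fact.mk (show Nat.Prime 5 by norm_num)
  have hdvd : 5 ∣ Nat.card s.K := by
    rw [Nat.card_congr e.toEquiv, nat_card_alternatingGroup, Nat.card_fin]
    decide
  obtain ⟨g, hg⟩ := exists_prime_orderOf_dvd_card' 5 hdvd
  exact ⟨g, g.2, by rw [Subgroup.orderOf_coe, hg]⟩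

/-- An element of order 5 fixes only `1` and `z` in `Q`. -/
theorem fixed_five {g : G} (hg : g ∈ s.K) (h5 : orderOf g = 5) {q : G} (hq : q ∈ s.Q)
    (hfix : g * q * g⁻¹ = q) : q = 1 ∨ q = s.z := by
  classical
  haveI := Fintype.ofFinite G
  let F : Subgroup G := s.Q ⊓ Subgroup.centralizer ({g} : Set G)
  have hmemF : ∀ p, p ∈ F ↔ p ∈ s.Q ∧ g * p * g⁻¹ = p := fun p => by
    rw [Subgroup.mem_inf, Subgroup.mem_centralizer_singleton_iff, mul_inv_eq_iff_eq_mul]
    exact and_congr_right fun _ => ⟨Eq.symm, Eq.symm⟩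
  have := Fact.mk (show Nat.Prime 5 by norm_num)
  let f : s.Q → s.Q := fun p => ⟨g * p * g⁻¹, s.hnorm g hg p p.2⟩
  have hf : ∀ (n : ℕ) (p : s.Q), ((f^[n] p : s.Q) : G) = g ^ n * p * (g ^ n)⁻¹ := by
    intro n
    induction n with
    | zero => simp
    | succ n ih =>
      intro p
      rw [Function.iterate_succ_apply', pow_succ' g n]
      show g * ((f^[n] p : s.Q) : G) * g⁻¹ = _
      rw [ih]; group
  have hmod := Equiv.Perm.card_fixedPoints_modEq (p := 5) (n := 1) (f := f) (by
    funext p
    have h := hf 5 p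
    conv_rhs at h => rw [← h5, pow_orderOf_eq_one, one_mul, inv_one, mul_one]
    apply Subtype.ext
    rw [pow_one]
    exact h)
  have hcardF : Fintype.card (Function.fixedPoints f) = Nat.card F := by
    rw [← Nat.card_eq_fintype_card]
    exact Nat.card_congr
      ⟨fun p => ⟨p.1, (hmemF _).2 ⟨p.1.2, congrArg Subtype.val p.2⟩⟩,
        fun p => ⟨⟨p, ((hmemF _).1 p.2).1⟩, Subtype.ext ((hmemF _).1 p.2).2⟩,
        fun p => rfl, fun p => rfl⟩
  rw [hcardF, ← Nat.card_eq_fintype_card, s.hcard] at hmod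
  have hd : Nat.card F ∣ 2 ^ 5 := by
    have h := Subgroup.card_dvd_of_le (show F ≤ s.Q from inf_le_left)
    rw [s.hcard] at h
    exact h
  obtain ⟨j, hj, hFj⟩ := (Nat.dvd_prime_pow Nat.prime_two).1 hd
  have hj' : j = 1 ∨ j = 5 := by
    rw [hFj] at hmod
    interval_cases j <;> simp_all [Nat.ModEq]
  rcases hj' with rfl | rfl
  · have hzF : s.z ∈ F := (hmemF _).2 ⟨s.hzQ, by rw [s.hzK g hg, mul_inv_cancel_right]⟩
    have hqF : q ∈ F := (hmemF _).2 ⟨hq, hfix⟩
    rw [pow_one] at hFj
    obtain ⟨w, -, huniq⟩ := (Nat.card_eq_two_iff' (1 : F)).1 hFj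
    by_cases h1 : q = 1
    · exact Or.inl h1
    · right
      exact congrArg Subtype.val ((huniq ⟨q, hqF⟩ fun e => h1 (congrArg Subtype.val e)).trans
        (huniq ⟨s.z, hzF⟩ fun e => s.hz1 (congrArg Subtype.val e)).symm)
  · exfalso
    obtain ⟨p, hp, hne⟩ := s.hfaith g hg h5
    have hFQ : F = s.Q := Subgroup.eq_of_le_of_card_ge inf_le_left (by rw [hFj, s.hcard]; norm_num)
    exact hne ((hmemF p).1 (hFQ.symm ▸ hp)).2

theorem card_A : Nat.card s.A = 10 := by
  classical
  haveI := Fintype.ofFinite G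
  obtain ⟨g, hg, h5⟩ := s.exists_five
  have := Fact.mk (show Nat.Prime 5 by norm_num)
  let f : s.A → s.A := fun a => ⟨g * a * g⁻¹, s.conj_mem_A hg a.2⟩
  have hf : ∀ (n : ℕ) (p : s.A), ((f^[n] p : s.A) : G) = g ^ n * p * (g ^ n)⁻¹ := by
    intro n
    induction n with
    | zero => simp
    | succ n ih =>
      intro p
      rw [Function.iterate_succ_apply', pow_succ' g n]
      show g * ((f^[n] p : s.A) : G) * g⁻¹ = _
      rw [ih]; group
  have hmod := Equiv.Perm.card_fixedPoints_modEq (p := 5) (n := 1) (f := f) (by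
    funext p
    have h := hf 5 p
    conv_rhs at h => rw [← h5, pow_orderOf_eq_one, one_mul, inv_one, mul_one]
    apply Subtype.ext
    rw [pow_one]
    exact h)
  have h0 : Fintype.card (Function.fixedPoints f) = 0 := by
    rw [Fintype.card_eq_zero_iff]
    exact ⟨fun p => (s.fixed_five hg h5 p.1.2.1 (congrArg Subtype.val p.2)).elim p.1.2.2.2.1
      p.1.2.2.2.2⟩
  rw [h0, ← Nat.card_eq_fintype_card] at hmod
  obtain ⟨⟨m, -, hm, hcount⟩, -⟩ := Cfsg.Agent.S4416.result.{u, 0} s.Q s.hQ
  have hm2 : m = 2 := by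
    rw [s.hcard, show (32 : ℕ) = 2 ^ 5 from rfl] at hm
    have := Nat.pow_right_injective le_rfl hm
    omega
  subst hm2
  have hsplit : Nat.card {x : s.Q // x ^ 2 = 1} = Nat.card s.A + 2 := by
    let S : Set G := {q | q ∈ s.Q ∧ q * q = 1}
    have h1 : Nat.card {x : s.Q // x ^ 2 = 1} = S.ncard := by
      rw [← Nat.card_coe_set_eq]
      refine Nat.card_congr ⟨fun x => ⟨x.1, x.1.2, by
          rw [← pow_two]; exact congrArg Subtype.val x.2⟩,
        fun x => ⟨⟨x.1, x.2.1⟩, Subtype.ext (by rw [Subgroup.coe_pow, pow_two]; exact x.2.2)⟩,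
        fun x => rfl, fun x => rfl⟩
    have hS : S = s.A ∪ {1, s.z} := by
      ext q
      constructor
      · intro hq
        by_cases h : q = 1 ∨ q = s.z
        · exact Or.inr h
        · exact Or.inl ⟨hq.1, hq.2, fun e => h (Or.inl e), fun e => h (Or.inr e)⟩
      · rintro (hq | rfl | rfl)
        · exact ⟨hq.1, hq.2.1⟩
        · exact ⟨s.Q.one_mem, one_mul 1⟩
        · exact ⟨s.hzQ, s.zz⟩
    rw [h1, hS, Set.ncard_union_eq ?_ (Set.toFinite _) (Set.toFinite _),
      Set.ncard_pair s.hz1.symm, Nat.card_coe_set_eq]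
    rw [Set.disjoint_left]
    rintro q hq (rfl | rfl)
    · exact hq.2.2.1 rfl
    · exact hq.2.2.2 rfl
  rw [hsplit] at hcount
  rcases hcount with h | h
  · exfalso
    rw [show Nat.card s.A = 18 by norm_num only at h; omega] at hmod
    simp [Nat.ModEq] at hmod
  · norm_num only at h; omega

/-- The five pairs. -/
theorem exists_labels : ∃ a : Fin 5 → G, ∃ ρ : s.K ≃* alternatingGroup (Fin 5),
    (∀ i, a i ∈ s.A) ∧ (∀ x ∈ s.A, ∃ i, x = a i ∨ x = a i * s.z) ∧
    (∀ i j, i ≠ j → a i ≠ a j ∧ a i ≠ a j * s.z) ∧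
    ∀ (k : s.K) i, (k : G) * a i * (k : G)⁻¹ = a ((ρ k : Equiv.Perm (Fin 5)) i) ∨
      (k : G) * a i * (k : G)⁻¹ = a ((ρ k : Equiv.Perm (Fin 5)) i) * s.z := by
  classical
  haveI := Fintype.ofFinite G
  have hzz := s.zz
  have hcancel : ∀ x : G, x * s.z * s.z = x := fun x => by rw [mul_assoc, hzz, mul_one]
  let r : Setoid s.A :=
    { r := fun a b => (a : G) = b ∨ (a : G) = b * s.z
      iseqv :=
        { refl := fun _ => Or.inl rfl
          symm := fun h => h.elim (fun e => Or.inl e.symm) fun e =>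
            Or.inr (by rw [e, hcancel])
          trans := fun {a b c} h h' => by
            rcases h with h | h <;> rcases h' with h' | h'
            · exact Or.inl (h.trans h')
            · exact Or.inr (h.trans h')
            · exact Or.inr (by rw [h, h'])
            · exact Or.inl (by rw [h, h', hcancel]) } }
  let P := Quotient r
  have hP : Nat.card P = 5 := by
    have hfib : ∀ q : P, Nat.card {a : s.A // (Quotient.mk r a) = q} = 2 := by
      intro q
      induction q using Quotient.inductionOn with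
      | h a =>
        refine (Nat.card_eq_two_iff' (⟨a, rfl⟩ : {b : s.A // Quotient.mk r b = Quotient.mk r a})).2
          ⟨⟨⟨_, s.mul_z_mem_A a.2⟩, Quotient.sound (Or.inr rfl)⟩, fun h => s.hz1 ?_, ?_⟩
        · exact mul_eq_left.1 (congrArg
            (fun t : {b : s.A // Quotient.mk r b = Quotient.mk r a} => ((t.1 : s.A) : G)) h)
        · rintro ⟨b, hb⟩ hne
          rcases Quotient.exact hb with h | h
          · exact absurd (Subtype.ext (Subtype.ext h)) hne
          · exact Subtype.ext (Subtype.ext h)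
    have h := Nat.card_congr (Equiv.sigmaFiberEquiv (Quotient.mk r))
    rw [Nat.card_sigma, Finset.sum_congr rfl fun q _ => hfib q, Finset.sum_const, Finset.card_univ,
      ← Nat.card_eq_fintype_card, smul_eq_mul, s.card_A] at h
    show Nat.card P = 5
    omega
  let act : s.K → P → P := fun k => Quotient.lift
    (fun a : s.A => Quotient.mk r ⟨(k : G) * a * (k : G)⁻¹, s.conj_mem_A k.2 a.2⟩)
    (fun a b hab => Quotient.sound (by
      rcases hab with h | h
      · exact Or.inl (by show (k : G) * a * (k : G)⁻¹ = _; rw [h])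
      · refine Or.inr ?_
        show (k : G) * a * (k : G)⁻¹ = (k : G) * b * (k : G)⁻¹ * s.z
        rw [h, mul_assoc _ (k : G)⁻¹ s.z, s.hzK _ (s.K.inv_mem k.2)]
        group))
  let ψ : s.K →* Equiv.Perm P := MonoidHom.toHomUnits
    (M := Function.End P)
    { toFun := act
      map_one' := by
        funext q
        induction q using Quotient.inductionOn with
        | h a => exact Quotient.sound (Or.inl (by simp))
      map_mul' := fun k l => by
        funext q
        induction q using Quotient.inductionOn with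
        | h a => exact Quotient.sound (Or.inl (by simp [mul_assoc])) }
    |> fun f => (Equiv.Perm.equivUnitsEnd (α := P)).symm.toMonoidHom.comp f
  have hψ : ∀ (k : s.K) (a : s.A),
      ψ k (Quotient.mk r a) = Quotient.mk r ⟨(k : G) * a * (k : G)⁻¹, s.conj_mem_A k.2 a.2⟩ :=
    fun k a => rfl
  let lab : Fin 5 ≃ P := (Finite.equivFinOfCardEq hP).symm
  let ψ5 : s.K →* Equiv.Perm (Fin 5) := lab.symm.permCongrHom.toMonoidHom.comp ψ
  obtain ⟨e⟩ := s.hK
  haveI := (alternatingGroup.isSimpleGroup (α := Fin 5) (by simp))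
  haveI : IsSimpleGroup s.K := e.isSimpleGroup
  have hinj : Function.Injective ψ5 := by
    rw [← MonoidHom.ker_eq_bot_iff]
    refine (IsSimpleGroup.eq_bot_or_eq_top_of_normal ψ5.ker inferInstance).resolve_right fun h => ?_
    obtain ⟨g, hg, h5⟩ := s.exists_five
    obtain ⟨⟨a, ha⟩⟩ : Nonempty s.A := (Nat.card_pos_iff.1 (by rw [s.card_A]; norm_num)).1
    have h1 : ψ5 ⟨g, hg⟩ = 1 := MonoidHom.mem_ker.1 (h ▸ Subgroup.mem_top _)
    have h2 : ψ ⟨g, hg⟩ = 1 := by
      have : Function.Injective lab.symm.permCongrHom := lab.symm.permCongrHom.injective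
      exact this (by rw [map_one]; exact h1)
    have h3 := Quotient.exact (((hψ ⟨g, hg⟩ ⟨a, ha⟩).symm.trans (by rw [h2]; rfl)) :
      Quotient.mk r ⟨g * a * g⁻¹, s.conj_mem_A hg ha⟩ = Quotient.mk r ⟨a, ha⟩)
    rcases h3 with h3 | h3
    · exact (s.fixed_five hg h5 ha.1 h3).elim ha.2.2.1 ha.2.2.2
    · -- then the fifth power moves `a`
      have hz : ∀ n : ℕ, g ^ n * a * (g ^ n)⁻¹ = a * s.z ^ n := by
        intro n
        induction n with
        | zero => simp
        | succ n ih =>
          have hc : Commute g (s.z ^ n) :=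
            (show Commute g s.z from s.hzK g hg).pow_right n
          calc g ^ (n + 1) * a * (g ^ (n + 1))⁻¹ = g * (g ^ n * a * (g ^ n)⁻¹) * g⁻¹ := by
                rw [pow_succ' g n]; group
            _ = g * a * (g⁻¹ * g) * s.z ^ n * g⁻¹ := by rw [ih]; group
            _ = g * a * g⁻¹ * (g * s.z ^ n) * g⁻¹ := by group
            _ = a * s.z * (s.z ^ n * g) * g⁻¹ := by
                rw [show g * a * g⁻¹ = a * s.z from h3, hc.eq]
            _ = a * s.z ^ (n + 1) := by rw [pow_succ' s.z n]; group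
      have h4 := hz 5
      rw [← h5, pow_orderOf_eq_one, h5, show s.z ^ 5 = s.z by
        rw [pow_succ, show (4 : ℕ) = 2 * 2 from rfl, pow_mul, pow_two s.z, hzz, one_pow, one_mul]]
        at h4
      simp only [one_mul, inv_one, mul_one] at h4
      exact s.hz1 (mul_eq_left.1 h4.symm)
  have hidx : ψ5.range.index = 2 := by
    have h := Subgroup.card_mul_index ψ5.range
    rw [← Nat.card_congr (MonoidHom.ofInjective hinj).toEquiv, Nat.card_congr e.toEquiv,
      nat_card_alternatingGroup, Nat.card_perm, Nat.card_fin] at h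
    norm_num [Nat.factorial] at h
    omega
  let ρ : s.K ≃* alternatingGroup (Fin 5) := (MonoidHom.ofInjective hinj).trans
    (MulEquiv.subgroupCongr (Equiv.Perm.eq_alternatingGroup_of_index_eq_two hidx))
  have hρ : ∀ k, (ρ k : Equiv.Perm (Fin 5)) = ψ5 k := fun k => rfl
  have hmk : ∀ i, Quotient.mk r (lab i).out = lab i := fun i => Quotient.out_eq _
  refine ⟨fun i => ((lab i).out : s.A), ρ, fun i => (lab i).out.2, ?_, ?_, ?_⟩
  · intro x hx
    refine ⟨lab.symm (Quotient.mk r ⟨x, hx⟩), ?_⟩
    exact Quotient.exact (show Quotient.mk r ⟨x, hx⟩ = Quotient.mk r (lab (lab.symm _)).out by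
      rw [hmk, Equiv.apply_symm_apply])
  · intro i j hij
    refine ⟨fun h => hij (lab.injective ?_), fun h => hij (lab.injective ?_)⟩
    · rw [← hmk i, ← hmk j]; exact Quotient.sound (Or.inl h)
    · rw [← hmk i, ← hmk j]; exact Quotient.sound (Or.inr h)
  · intro k i
    have h1 : lab ((ρ k : Equiv.Perm (Fin 5)) i) = ψ k (lab i) := by
      rw [hρ]
      show lab (lab.symm (ψ k (lab i))) = _
      rw [Equiv.apply_symm_apply]
    exact Quotient.exact (show Quotient.mk r ⟨_, s.conj_mem_A k.2 (lab i).out.2⟩ =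
      Quotient.mk r (lab ((ρ k : Equiv.Perm (Fin 5)) i)).out by
        rw [hmk, h1, ← hψ, hmk])

/-- For each involution `k` of `K`: eight `q` with `k * q` an involution, all commuting with the
pair fixed by `k`, and `k * q` moves exactly eight of the ten non-central involutions. -/
theorem count {k : G} (hk : k ∈ s.K) (hk2 : orderOf k = 2) :
    Nat.card {q : G // q ∈ s.Q ∧ k * q * k = q⁻¹} = 8 ∧
    ∀ q ∈ s.Q, k * q * k = q⁻¹ →
      Nat.card {u : G // u ∈ s.A ∧ (k * q) * u ≠ u * (k * q)} = 8 ∧
      ∀ u ∈ s.A, (k * q) * u ≠ u * (k * q) →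
        (u * ((k * q) * u * (k * q))) * (u * ((k * q) * u * (k * q))) = s.z := by
  classical
  haveI := Fintype.ofFinite G
  have hzz := s.zz
  obtain ⟨a, ρ, haA, hcov, hdist, hact⟩ := s.exists_labels
  have hzc := s.hzc
  -- distinct pairs do not commute
  have hnc : ∀ i j, i ≠ j → a i * a j ≠ a j * a i := by
    intro i₀ j₀ hij hcomm
    have hall : ∀ i j, i ≠ j → Commute (a i) (a j) := by
      intro i j hne
      obtain ⟨σ, hσi, hσj⟩ := two_transitive_alt i₀ j₀ i j hij hne
      obtain ⟨k', rfl⟩ := ρ.surjective σ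
      have hc : Commute ((k' : G) * a i₀ * (k' : G)⁻¹) ((k' : G) * a j₀ * (k' : G)⁻¹) :=
        (show Commute (a i₀) (a j₀) from hcomm).map (MulAut.conj (k' : G)).toMonoidHom
      have hfix : ∀ x : G, ∀ w, w ∈ s.Q → (x = w ∨ x = w * s.z) → w = x ∨ w = x * s.z := by
        rintro x w - (rfl | rfl)
        · exact Or.inl rfl
        · exact Or.inr (by rw [mul_assoc, hzz, mul_one])
      have e1 := hfix _ _ (haA i).1 (hσi ▸ hact k' i₀)
      have e2 := hfix _ _ (haA j).1 (hσj ▸ hact k' j₀)
      have z1 : Commute ((k' : G) * a i₀ * (k' : G)⁻¹) s.z := hzc _ (s.hnorm _ k'.2 _ (haA i₀).1)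
      have z2 : Commute ((k' : G) * a j₀ * (k' : G)⁻¹) s.z := hzc _ (s.hnorm _ k'.2 _ (haA j₀).1)
      rcases e1 with e1 | e1 <;> rcases e2 with e2 | e2 <;> rw [e1, e2]
      · exact hc
      · exact hc.mul_right z1
      · exact hc.mul_left z2.symm
      · exact (hc.mul_right z1).mul_left (z2.symm.mul_right (Commute.refl _))
    let S : Set G := s.A ∪ {1, s.z}
    have hSc : ∀ x ∈ S, ∀ y ∈ S, Commute x y := by
      have hSQ : ∀ x ∈ S, x ∈ s.Q := by
        rintro x (hx | rfl | rfl)
        · exact hx.1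
        · exact s.Q.one_mem
        · exact s.hzQ
      rintro x hx y hy
      rcases hy with hy | rfl | rfl
      · rcases hx with hx | rfl | rfl
        · obtain ⟨i, hi⟩ := hcov x hx
          obtain ⟨j, hj⟩ := hcov y hy
          have hc : Commute (a i) (a j) := by
            by_cases e : i = j
            · exact e ▸ Commute.refl _
            · exact hall i j e
          have zi : Commute (a i) s.z := hzc _ (haA i).1
          have zj : Commute (a j) s.z := hzc _ (haA j).1
          rcases hi with rfl | rfl <;> rcases hj with rfl | rfl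
          · exact hc
          · exact hc.mul_right zi
          · exact hc.mul_left zj.symm
          · exact (hc.mul_right zi).mul_left (zj.symm.mul_right (Commute.refl _))
        · exact Commute.one_left _
        · exact (hzc y hy.1).symm
      · exact Commute.one_right _
      · exact hzc x (hSQ x hx)
    let E := Subgroup.closure S
    have hEc : ∀ x ∈ E, ∀ y ∈ E, x * y = y * x := fun x hx y hy => by
      have h1 : E ≤ Subgroup.centralizer S :=
        (Subgroup.closure_le _).2 fun p hp =>
          Subgroup.mem_centralizer_iff.2 fun q hq => hSc q hq p hp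
      have h2 : E ≤ Subgroup.centralizer ({y} : Set G) :=
        (Subgroup.closure_le _).2 fun p hp => Subgroup.mem_centralizer_singleton_iff.2
          (Subgroup.mem_centralizer_iff.1 (h1 hy) p hp)
      exact Subgroup.mem_centralizer_singleton_iff.1 (h2 hx)
    have hES : (E : Set G) = S := by
      refine Set.Subset.antisymm (fun x hx => ?_) Subgroup.subset_closure
      have h2 : x * x = 1 := by
        induction hx using Subgroup.closure_induction with
        | mem p hp =>
          rcases hp with hp | rfl | rfl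
          · exact hp.2.1
          · exact one_mul 1
          · exact hzz
        | one => exact one_mul 1
        | mul p q hp hq ihp ihq =>
          have hc : Commute p q := hEc p hp q hq
          rw [← pow_two] at ihp ihq ⊢
          rw [hc.mul_pow, ihp, ihq, one_mul]
        | inv p hp ih => rw [← mul_inv_rev, ih, inv_one]
      have hxQ : x ∈ s.Q := (Subgroup.closure_le _).2 (by
        rintro p (hp | rfl | rfl)
        · exact hp.1
        · exact s.Q.one_mem
        · exact s.hzQ) hx
      by_cases h : x = 1 ∨ x = s.z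
      · exact Or.inr h
      · exact Or.inl ⟨hxQ, h2, fun e => h (Or.inl e), fun e => h (Or.inr e)⟩
    have hEcard : Nat.card E = 12 := by
      rw [← SetLike.coe_sort_coe, hES, Nat.card_coe_set_eq, Set.ncard_union_eq ?_ (Set.toFinite _)
        (Set.toFinite _), Set.ncard_pair s.hz1.symm, ← Nat.card_coe_set_eq, s.card_A]
      rw [Set.disjoint_left]
      rintro q hq (rfl | rfl)
      · exact hq.2.2.1 rfl
      · exact hq.2.2.2 rfl
    have hEQ : E ≤ s.Q := (Subgroup.closure_le _).2 (by
      rintro p (hp | rfl | rfl)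
      · exact hp.1
      · exact s.Q.one_mem
      · exact s.hzQ)
    have := Subgroup.card_dvd_of_le hEQ
    rw [hEcard, s.hcard] at this
    norm_num at this
  have hkk : k * k = 1 := by rw [← pow_two, ← hk2, pow_orderOf_eq_one]
  have hki : k⁻¹ = k := inv_eq_of_mul_eq_one_left hkk
  set κ := ρ ⟨k, hk⟩ with hκ
  have hκ1 : κ ≠ 1 := fun h => by
    have h' : (⟨k, hk⟩ : s.K) = 1 := ρ.injective (h.trans (map_one ρ).symm)
    rw [show k = 1 from congrArg Subtype.val h', orderOf_one] at hk2
    omega
  have hκ2 : κ * κ = 1 := by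
    rw [hκ, ← map_mul, ← map_one ρ]
    exact congrArg ρ (Subtype.ext hkk)
  obtain ⟨f, i, j, hff, hfu, hi, hj, hji, hjki⟩ := involution_shape κ hκ1 hκ2
  -- `k` fixes `a f`
  have hfix : k * a f * k = a f := by
    obtain ⟨x, hx3, hy3, hxf⟩ := involution_split κ hκ2 f hff
    have h3 : ∀ w : alternatingGroup (Fin 5), w ^ 3 = 1 → (w : Equiv.Perm (Fin 5)) f = f →
        ((ρ.symm w : s.K) : G) * a f * ((ρ.symm w : s.K) : G)⁻¹ = a f := by
      intro w hw hwf
      set g := ((ρ.symm w : s.K) : G) with hg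
      have hg3 : g ^ 3 = 1 := by
        rw [hg, ← Subgroup.coe_pow, ← map_pow, hw, map_one]; rfl
      have h := hact (ρ.symm w) f
      rw [MulEquiv.apply_symm_apply, hwf, ← hg] at h
      refine h.resolve_right fun h => s.hz1 ?_
      have hgz : g * s.z = s.z * g := s.hzK g (ρ.symm w).2
      have h2 : g * (g * a f * g⁻¹) * g⁻¹ = a f := by
        rw [h]
        calc g * (a f * s.z) * g⁻¹ = g * a f * g⁻¹ * (g * s.z) * g⁻¹ := by group
          _ = a f := by rw [h, hgz]; simp [mul_assoc, hzz]
      have h1 : g * (g * (g * a f * g⁻¹) * g⁻¹) * g⁻¹ = a f :=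
        calc _ = g ^ 3 * a f * (g ^ 3)⁻¹ := by simp only [pow_succ, pow_zero, one_mul]; group
          _ = a f := by rw [hg3]; group
      rw [h2, h] at h1
      exact mul_eq_left.1 h1
    have e1 := h3 x hx3 hxf
    have e2 := h3 (x⁻¹ * κ) hy3 (by
      rw [Subgroup.coe_mul, Subgroup.coe_inv, Equiv.Perm.mul_apply, hff, Equiv.Perm.inv_eq_iff_eq]
      exact hxf.symm)
    have hprod : k = ((ρ.symm x : s.K) : G) * ((ρ.symm (x⁻¹ * κ) : s.K) : G) := by
      rw [← Subgroup.coe_mul, ← map_mul, mul_inv_cancel_left, hκ, MulEquiv.symm_apply_apply]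
    conv_lhs => arg 2; rw [← hki]
    rw [hprod, mul_inv_rev]
    calc _ = ((ρ.symm x : s.K) : G) * (((ρ.symm (x⁻¹ * κ) : s.K) : G) * a f *
          ((ρ.symm (x⁻¹ * κ) : s.K) : G)⁻¹) * ((ρ.symm x : s.K) : G)⁻¹ := by group
      _ = a f := by rw [e2, e1]
  have hiA := (haA i)
  have hjA := (haA j)
  have hfA := (haA f)
  have hkinv : ∀ q : G, k * (k * q * k) * k = q := fun q => by
    rw [show k * (k * q * k) * k = (k * k) * q * (k * k) by group, hkk, one_mul, mul_one]
  have hconj : ∀ p q : G, k * (p * q) * k = (k * p * k) * (k * q * k) := fun p q => by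
    rw [show k * p * k * (k * q * k) = k * p * (k * k) * q * k by group, hkk, mul_one, ← mul_assoc k]
  have hkQ : ∀ q ∈ s.Q, k * q * k ∈ s.Q := fun q hq => by
    have := s.hnorm k hk q hq; rwa [hki] at this
  have hkz : k * s.z * k = s.z := by rw [s.hzK k hk, mul_assoc, hkk, mul_one]
  -- moved elements do not commute with their images
  have hmove : ∀ l, (κ : Equiv.Perm (Fin 5)) l ≠ l → a l * (k * a l * k) = k * a l * k * a l * s.z ∧
      ∀ m, (κ : Equiv.Perm (Fin 5)) l ≠ m → k * a l * k * a m = a m * (k * a l * k) * s.z := by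
    intro l hl
    have h1 := hact ⟨k, hk⟩ l
    rw [← hκ] at h1
    simp only [hki] at h1
    have hzk : ∀ m, (κ : Equiv.Perm (Fin 5)) l ≠ m → k * a l * k * a m ≠ a m * (k * a l * k) := by
      intro m hm hc
      apply hnc _ _ hm
      have zm : Commute (a m) s.z := hzc _ (haA m).1
      have zl : Commute (a ((κ : Equiv.Perm (Fin 5)) l)) s.z := hzc _ (haA _).1
      rcases h1 with h1 | h1
      · rwa [h1] at hc
      · rw [h1, mul_assoc, ← zm.eq, ← mul_assoc, ← mul_assoc] at hc
        exact mul_right_cancel hc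
    refine ⟨(s.comm_cases (haA l).1 (hkQ _ (haA l).1)).resolve_left fun h => hzk l hl h.symm,
      fun m hm => (s.comm_cases (hkQ _ (haA l).1) (haA m).1).resolve_left (hzk m hm)⟩
  obtain ⟨hbi, hbim⟩ := hmove i hi
  obtain ⟨hbj, hbjm⟩ := hmove j hj
  have hκi : ∀ l, (κ : Equiv.Perm (Fin 5)) ((κ : Equiv.Perm (Fin 5)) l) = l := fun l => by
    rw [← Equiv.Perm.mul_apply, ← Subgroup.coe_mul, hκ2]; rfl
  have hfi : f ≠ i := fun e => hi (e ▸ hff)
  have hfj : f ≠ j := fun e => hj (e ▸ hff)
  have hkif : (κ : Equiv.Perm (Fin 5)) i ≠ f := fun e => hfi (by rw [← hff, ← e, hκi])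
  have hkjf : (κ : Equiv.Perm (Fin 5)) j ≠ f := fun e => hfj (by rw [← hff, ← e, hκi])
  have hkji : (κ : Equiv.Perm (Fin 5)) j ≠ i := fun e => hjki (by rw [← e, hκi])
  have hcomm' : ∀ p q, p ≠ q → a p * a q = a q * a p * s.z := fun p q hpq =>
    (s.comm_cases (haA p).1 (haA q).1).resolve_left (hnc p q hpq)
  -- the elements `n = b (k b k)`
  have hinvA : ∀ p ∈ s.A, p⁻¹ = p := fun p hp => inv_eq_of_mul_eq_one_left hp.2.1
  have hsqk : ∀ p, p * p = 1 → k * p * k * (k * p * k) = 1 := fun p hp => by
    rw [← hconj, hp, mul_one, hkk]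
  have hnQ : (a i * (k * a i * k)) ∈ s.Q ∧ (a j * (k * a j * k)) ∈ s.Q :=
    ⟨s.Q.mul_mem hiA.1 (hkQ _ hiA.1), s.Q.mul_mem hjA.1 (hkQ _ hjA.1)⟩
  have hninv : ∀ p ∈ s.A, k * (p * (k * p * k)) * k = (p * (k * p * k))⁻¹ := fun p hp => by
    rw [hconj, hkinv, mul_inv_rev, hinvA p hp, inv_eq_of_mul_eq_one_left (hsqk p hp.2.1)]
  have hnsq : ∀ p ∈ s.A, p * (k * p * k) = k * p * k * p * s.z →
      p * (k * p * k) * (p * (k * p * k)) = s.z := fun p hp h => by
    have hz' : Commute (k * p * k * p) s.z := hzc _ (s.Q.mul_mem (hkQ _ hp.1) hp.1)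
    calc p * (k * p * k) * (p * (k * p * k))
          = k * p * k * p * s.z * (p * (k * p * k)) := by rw [← h]
      _ = s.z * (k * p * k * (p * p) * (k * p * k)) := by rw [hz'.eq]; group
      _ = s.z := by rw [hp.2.1, mul_one, hsqk p hp.2.1, mul_one]
  -- commutation helpers
  have hflip : ∀ {p q : G}, p * q = q * p * s.z → q ∈ s.Q → p ∈ s.Q → q * p = p * q * s.z := by
    intro p q h _ _
    rw [h, mul_assoc, hzz, mul_one]
  have hcomp : ∀ {w p q : G}, w ∈ s.Q → p ∈ s.Q → q ∈ s.Q → w * p = p * w * s.z →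
      w * q = q * w * s.z → w * (p * q) = p * q * w := by
    intro w p q hw hp hq h1 h2
    have hz' : Commute q s.z := hzc q hq
    calc w * (p * q) = p * w * s.z * q := by rw [← mul_assoc, h1]
      _ = p * (w * q) * s.z := by rw [mul_assoc _ s.z, ← hz'.eq]; group
      _ = p * q * w * (s.z * s.z) := by rw [h2]; group
      _ = p * q * w := by rw [hzz, mul_one]
  have hki' : k * a i * k ∈ s.Q := hkQ _ hiA.1
  have hkj' : k * a j * k ∈ s.Q := hkQ _ hjA.1
  have cfnA : a f * (a i * (k * a i * k)) = (a i * (k * a i * k)) * a f := hcomp hfA.1 hiA.1 hki' (hcomm' f i hfi)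
    (hflip (hbim f hkif) hfA.1 hki')
  have cfnB : a f * (a j * (k * a j * k)) = (a j * (k * a j * k)) * a f := hcomp hfA.1 hjA.1 hkj' (hcomm' f j hfj)
    (hflip (hbjm f hkjf) hfA.1 hkj')
  have cinB : a i * (a j * (k * a j * k)) = (a j * (k * a j * k)) * a i := hcomp hiA.1 hjA.1 hkj' (hcomm' i j hji.symm)
    (hflip (hbjm i hkji) hiA.1 hkj')
  have cinA : a i * (a i * (k * a i * k)) ≠ (a i * (k * a i * k)) * a i := by
    intro h
    rw [← mul_assoc, hiA.2.1, one_mul] at h
    rw [hbi, mul_assoc (k * a i * k) (a i) s.z, mul_assoc (k * a i * k) (a i * s.z)] at h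
    have hz' : Commute (a i) s.z := hzc _ hiA.1
    rw [hz'.eq, mul_assoc s.z, hiA.2.1, mul_one] at h
    exact s.hz1 (mul_eq_left.1 h.symm)
  -- the subgroup of elements fixed modulo `z`
  let F : Subgroup G :=
    { carrier := {q | q ∈ s.Q ∧ (k * q * k = q ∨ k * q * k = q * s.z)}
      one_mem' := ⟨s.Q.one_mem, Or.inl (by rw [mul_one, hkk])⟩
      mul_mem' := fun {p q} hp hq => by
        refine ⟨s.Q.mul_mem hp.1 hq.1, ?_⟩
        have hz' : Commute q s.z := hzc q hq.1
        rw [hconj]
        rcases hp.2 with h | h <;> rcases hq.2 with h' | h' <;> rw [h, h']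
        · exact Or.inl rfl
        · exact Or.inr (mul_assoc _ _ _).symm
        · exact Or.inr (by rw [mul_assoc, ← hz'.eq, ← mul_assoc])
        · exact Or.inl (by rw [show p * s.z * (q * s.z) = p * (s.z * q) * s.z by group, ← hz'.eq,
            show p * (q * s.z) * s.z = p * q * (s.z * s.z) by group, hzz, mul_one])
      inv_mem' := fun {p} hp => by
        refine ⟨s.Q.inv_mem hp.1, ?_⟩
        have he : k * p⁻¹ * k = (k * p * k)⁻¹ := by rw [mul_inv_rev, mul_inv_rev, hki, mul_assoc]
        rcases hp.2 with h | h <;> rw [he, h]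
        · exact Or.inl rfl
        · refine Or.inr ?_
          rw [mul_inv_rev, inv_eq_of_mul_eq_one_left hzz]
          exact ((show Commute p⁻¹ s.z from hzc _ (s.Q.inv_mem hp.1))).eq.symm }
  have hFQ : F ≤ s.Q := fun q hq => hq.1
  have hF8 : Nat.card F ≤ 8 := by
    have hd : Nat.card F ∣ 2 ^ 5 := by
      have h := Subgroup.card_dvd_of_le hFQ
      rw [s.hcard] at h
      exact h
    obtain ⟨m, hm, hFm⟩ := (Nat.dvd_prime_pow Nat.prime_two).1 hd
    by_contra hlt
    have hm' : 4 ≤ m := by
      by_contra hm'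
      have h8 := Nat.pow_le_pow_right (show 0 < 2 by norm_num) (show m ≤ 3 by omega)
      rw [hFm] at hlt
      norm_num at h8
      omega
    have hidx : F.relIndex s.Q ≤ 2 := by
      have h := Subgroup.card_mul_index (F.subgroupOf s.Q)
      rw [Nat.card_congr (Subgroup.subgroupOfEquivOfLe hFQ).toEquiv, hFm, s.hcard] at h
      have h16 := Nat.pow_le_pow_right (show 0 < 2 by norm_num) hm'
      show (F.subgroupOf s.Q).index ≤ 2
      by_contra h3
      have h48 := Nat.mul_le_mul h16 (show 3 ≤ (F.subgroupOf s.Q).index by omega)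
      rw [h] at h48
      norm_num at h48
    have hiF : a i ∉ F := fun h => by
      rcases h.2 with e | e
      · rw [e] at hbi
        exact s.hz1 (mul_eq_left.1 hbi.symm)
      · have hz' : Commute (a i) s.z := hzc _ hiA.1
        rw [e] at hbi
        rw [show a i * (a i * s.z) = a i * a i * s.z by group, hiA.2.1, one_mul,
          show a i * s.z * a i * s.z = a i * (s.z * a i) * s.z by group, ← hz'.eq,
          show a i * (a i * s.z) * s.z = a i * a i * (s.z * s.z) by group, hiA.2.1, hzz,
          one_mul] at hbi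
        exact s.hz1 hbi
    have hjF : a j ∉ F := fun h => by
      rcases h.2 with e | e
      · rw [e] at hbj
        exact s.hz1 (mul_eq_left.1 hbj.symm)
      · have hz' : Commute (a j) s.z := hzc _ hjA.1
        rw [e] at hbj
        rw [show a j * (a j * s.z) = a j * a j * s.z by group, hjA.2.1, one_mul,
          show a j * s.z * a j * s.z = a j * (s.z * a j) * s.z by group, ← hz'.eq,
          show a j * (a j * s.z) * s.z = a j * a j * (s.z * s.z) by group, hjA.2.1, hzz,
          one_mul] at hbj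
        exact s.hz1 hbj
    have hij : a i * a j ∈ F := by
      have h2 : (F.subgroupOf s.Q).index = 2 := by
        rcases (show (F.subgroupOf s.Q).index = 0 ∨ (F.subgroupOf s.Q).index = 1 ∨
            (F.subgroupOf s.Q).index = 2 by
          have : (F.subgroupOf s.Q).index ≤ 2 := hidx
          omega) with h | h | h
        · exact absurd h Subgroup.index_ne_zero_of_finite
        · exact absurd (Subgroup.mem_subgroupOf.1
            ((Subgroup.index_eq_one.1 h).symm ▸ Subgroup.mem_top (⟨a i, hiA.1⟩ : s.Q))) hiF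
        · exact h
      exact Subgroup.mem_subgroupOf.1 ((Subgroup.mul_mem_iff_of_index_two h2
        (a := (⟨a i, hiA.1⟩ : s.Q)) (b := (⟨a j, hjA.1⟩ : s.Q))).2
        (iff_of_false (fun h => hiF (Subgroup.mem_subgroupOf.1 h))
          (fun h => hjF (Subgroup.mem_subgroupOf.1 h))))
    have hz' : Commute (k * a j * k) s.z := hzc _ hkj'
    have hne : a i * (k * (a i * a j) * k) ≠ k * (a i * a j) * k * a i → False := by
      intro h
      apply h
      rw [hconj]
      exact hcomp hiA.1 hki' hkj' hbi (hflip (hbjm i hkji) hiA.1 hkj')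
    apply hne
    have hnij : a i * (a i * a j) ≠ a i * a j * a i := fun h => hnc i j hji.symm (by
      rw [← mul_assoc, hiA.2.1, one_mul] at h
      calc a i * a j = a i * (a i * a j * a i) := by rw [← h]
        _ = a j * a i := by rw [← mul_assoc, ← mul_assoc, hiA.2.1, one_mul])
    rcases hij.2 with e | e <;> rw [e]
    · exact hnij
    · intro h
      apply hnij
      apply mul_right_cancel (b := s.z)
      calc a i * (a i * a j) * s.z = a i * (a i * a j * s.z) := mul_assoc _ _ _
        _ = a i * a j * s.z * a i := h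
        _ = a i * a j * a i * s.z := by rw [mul_assoc _ s.z, ← hzc _ hiA.1, ← mul_assoc]
  -- the eight elements
  have hinvF : ∀ q, q ∈ s.Q → k * q * k = q⁻¹ → q ∈ F := fun q hq h => by
    refine ⟨hq, ?_⟩
    rcases s.sq_cases hq with e | e
    · exact Or.inl (by rw [h, inv_eq_of_mul_eq_one_left e])
    · refine Or.inr ?_
      rw [h, inv_eq_iff_mul_eq_one, ← mul_assoc, e, hzz]
  let S : Set G := {q | q ∈ s.Q ∧ k * q * k = q⁻¹}
  have hmulz : ∀ q, q ∈ S → q * s.z ∈ S := fun q hq => by
    refine ⟨s.Q.mul_mem hq.1 s.hzQ, ?_⟩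
    rw [hconj, hq.2, hkz, mul_inv_rev, inv_eq_of_mul_eq_one_left hzz]
    exact (show Commute q⁻¹ s.z from hzc _ (s.Q.inv_mem hq.1)).eq
  have h1S : (1 : G) ∈ S := ⟨s.Q.one_mem, by rw [mul_one, hkk, inv_one]⟩
  have hfS : a f ∈ S := ⟨hfA.1, by rw [hfix, hinvA _ hfA]⟩
  have hn1S : (a i * (k * a i * k)) ∈ S := ⟨hnQ.1, hninv _ hiA⟩
  have hn2S : (a j * (k * a j * k)) ∈ S := ⟨hnQ.2, hninv _ hjA⟩
  let g : Fin 4 × Bool → G := fun p => ![1, a f, (a i * (k * a i * k)), (a j * (k * a j * k))] p.1 * cond p.2 s.z 1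
  have hn1sq : (a i * (k * a i * k)) * (a i * (k * a i * k)) = s.z := hnsq _ hiA hbi
  have hn2sq : (a j * (k * a j * k)) * (a j * (k * a j * k)) = s.z := hnsq _ hjA hbj
  have hgS : ∀ p, g p ∈ S := by
    rintro ⟨l, b⟩
    have hl : ![1, a f, (a i * (k * a i * k)), (a j * (k * a j * k))] l ∈ S := by fin_cases l <;> assumption
    cases b
    · show ![1, a f, (a i * (k * a i * k)), (a j * (k * a j * k))] l * 1 ∈ S
      rwa [mul_one]
    · exact hmulz _ hl
  have hginj : Function.Injective g := by
    -- separate by squares, and the last two by commutation with `a i`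
    have hsqmul : ∀ p, p ∈ s.Q → ∀ b : Bool, p * cond b s.z 1 * (p * cond b s.z 1) = p * p := by
      intro p hp b
      cases b
      · simp
      · show p * s.z * (p * s.z) = p * p
        rw [show p * s.z * (p * s.z) = p * (s.z * p) * s.z by group, ← hzc p hp,
          show p * (p * s.z) * s.z = p * p * (s.z * s.z) by group, hzz, mul_one]
    have hQm : ∀ l, ![1, a f, (a i * (k * a i * k)), (a j * (k * a j * k))] l ∈ s.Q := fun l => by
      fin_cases l
      exacts [s.Q.one_mem, hfA.1, hnQ.1, hnQ.2]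
    have hcommul : ∀ p, p ∈ s.Q → ∀ b : Bool,
        (a i * (p * cond b s.z 1) = p * cond b s.z 1 * a i ↔ a i * p = p * a i) := by
      intro p _ b
      cases b
      · simp
      · show a i * (p * s.z) = p * s.z * a i ↔ _
        rw [mul_assoc p s.z, ← hzc _ hiA.1, ← mul_assoc, ← mul_assoc]
        exact ⟨mul_right_cancel, fun h => by rw [h]⟩
    rintro ⟨l, b⟩ ⟨l', b'⟩ h
    have hsq := congrArg (fun t => t * t) h
    simp only [g] at hsq h
    rw [hsqmul _ (hQm l), hsqmul _ (hQm l')] at hsq
    have hll : l = l' := by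
      have hci : a i * ![1, a f, (a i * (k * a i * k)), (a j * (k * a j * k))] l = ![1, a f, (a i * (k * a i * k)), (a j * (k * a j * k))] l * a i ↔
          a i * ![1, a f, (a i * (k * a i * k)), (a j * (k * a j * k))] l' = ![1, a f, (a i * (k * a i * k)), (a j * (k * a j * k))] l' * a i := by
        rw [← hcommul _ (hQm l) b, h, hcommul _ (hQm l') b']
      have h01 : ∀ b b' : Bool, (1 : G) * cond b s.z 1 ≠ a f * cond b' s.z 1 := by
        intro b b' e
        cases b <;> cases b' <;> simp only [cond_true, cond_false, one_mul, mul_one] at e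
        · exact hfA.2.2.1 e.symm
        · exact (s.mul_z_mem_A hfA).2.2.1 e.symm
        · exact hfA.2.2.2 e.symm
        · exact (s.mul_z_mem_A hfA).2.2.2 e.symm
      have hz1' : (1 : G) ≠ s.z := fun e => s.hz1 e.symm
      fin_cases l <;> fin_cases l' <;> first
        | rfl
        | (exfalso; simp [hfA.2.1, hn1sq, hn2sq, hz1', s.hz1] at hsq; done)
        | exact absurd h (h01 b b')
        | exact absurd h.symm (h01 b' b)
        | exact absurd (hci.2 cinB) cinA
        | exact absurd (hci.1 cinB) cinA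
    subst hll
    refine Prod.ext rfl ?_
    have := mul_left_cancel h
    cases b <;> cases b'
    · rfl
    · exact absurd this.symm s.hz1
    · exact absurd this s.hz1
    · rfl
  have hrange : Set.range g = S ∧ S.ncard = 8 := by
    have h8 : (Set.range g).ncard = 8 := by
      rw [Set.ncard_range_of_injective hginj]
      simp [Nat.card_eq_fintype_card]
    have hsub : Set.range g ⊆ S := Set.range_subset_iff.2 hgS
    have hle : S.ncard ≤ 8 := by
      refine le_trans (Set.ncard_le_ncard (t := (F : Set G)) (fun q hq => hinvF q hq.1 hq.2)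
        (Set.toFinite _)) ?_
      rw [← Nat.card_coe_set_eq]
      exact hF8
    have heq : Set.range g = S := Set.eq_of_subset_of_ncard_le hsub (h8 ▸ hle) (Set.toFinite _)
    exact ⟨heq, heq ▸ h8⟩
  refine ⟨?_, ?_⟩
  · rw [← hrange.2, ← Nat.card_coe_set_eq]
    rfl
  intro q hq hqk
  -- `q` commutes with `a f`
  have hqf : a f * q = q * a f := by
    obtain ⟨⟨l, b⟩, rfl⟩ : q ∈ Set.range g := hrange.1.symm ▸ (show q ∈ S from ⟨hq, hqk⟩)
    have hc : Commute (a f) (![1, a f, (a i * (k * a i * k)), (a j * (k * a j * k))] l) := by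
      fin_cases l
      exacts [Commute.one_right _, Commute.refl _, cfnA, cfnB]
    have hb : Commute (a f) (cond b s.z 1) := by
      cases b
      exacts [Commute.one_right _, hzc _ hfA.1]
    exact (hc.mul_right hb).eq
  set v := k * q with hv
  have hvv : v * v = 1 := by
    rw [hv, show k * q * (k * q) = k * q * k * q by group, hqk, inv_mul_cancel]
  have hvf : v * a f = a f * v := by
    have hkf : k * a f = a f * k := by
      calc k * a f = k * a f * (k * k) := by rw [hkk, mul_one]
        _ = a f * k := by rw [← mul_assoc, hfix]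
    rw [hv, mul_assoc, ← hqf, ← mul_assoc, hkf, mul_assoc]
  -- conjugation by `v` and by `k` agree modulo `z`
  have hvconj : ∀ w ∈ s.Q, v * w * v = k * w * k ∨ v * w * v = k * w * k * s.z := by
    intro w hw
    have hqi : q⁻¹ ∈ s.Q := s.Q.inv_mem hq
    have e : v * w * v = k * (q * w * q⁻¹) * k := by
      have hvi : v⁻¹ = v := inv_eq_of_mul_eq_one_left hvv
      calc v * w * v = v * w * v⁻¹ := by rw [hvi]
        _ = k * (q * w * q⁻¹) * k := by rw [hv, mul_inv_rev, hki]; group
    rcases s.comm_cases hq hw with h | h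
    · left; rw [e, h, mul_inv_cancel_right]
    · right
      rw [e, h, mul_assoc (w * q) s.z, ← hzc _ hqi, ← mul_assoc (w * q), mul_inv_cancel_right, hconj, hkz]
  have hkey : ∀ u ∈ s.A, v * u ≠ u * v → u * (v * u * v) = v * u * v * u * s.z := by
    intro u hu hne
    obtain ⟨l, hl⟩ := hcov u hu
    have hlf : l ≠ f := by
      rintro rfl
      apply hne
      rcases hl with rfl | rfl
      · exact hvf
      · have hvz : Commute v s.z := (show Commute k s.z from s.hzK k hk).mul_left (hzc q hq)
        exact ((show Commute v (a l) from hvf).mul_right hvz).eq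
    have hκl : (κ : Equiv.Perm (Fin 5)) l ≠ l := fun e => hlf (hfu l e)
    have hal := (hmove l hκl).1
    have za : Commute (a l) s.z := hzc _ (haA l).1
    have zk : Commute (k * a l * k) s.z := hzc _ (hkQ _ (haA l).1)
    have hnc' : a l * (k * a l * k) ≠ k * a l * k * a l := fun e => by
      rw [e] at hal; exact s.hz1 (mul_eq_left.1 hal.symm)
    have hvuQ : v * u * v ∈ s.Q := by
      rcases hvconj u hu.1 with e | e <;> rw [e]
      · exact hkQ _ hu.1
      · exact s.Q.mul_mem (hkQ _ hu.1) s.hzQ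
    refine (s.comm_cases hu.1 hvuQ).resolve_left fun hc => hnc' ?_
    have hu' : u * (k * u * k) = k * u * k * u := by
      rcases hvconj u hu.1 with e | e
      · rwa [e] at hc
      · have zu : Commute u s.z := hzc _ hu.1
        rw [e] at hc
        apply mul_right_cancel (b := s.z)
        calc u * (k * u * k) * s.z = u * (k * u * k * s.z) := mul_assoc _ _ _
          _ = k * u * k * s.z * u := hc
          _ = k * u * k * u * s.z := by rw [mul_assoc _ s.z, ← zu.eq, ← mul_assoc]
    rcases hl with rfl | rfl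
    · exact hu'
    · rw [hconj, hkz] at hu'
      have h1 : Commute (a l * s.z) (k * a l * k * s.z) := hu'
      have hca : a l = a l * s.z * s.z := by rw [mul_assoc, hzz, mul_one]
      have hcb : k * a l * k = k * a l * k * s.z * s.z := by
        rw [mul_assoc (k * a l * k) s.z, hzz, mul_one]
      have zb : Commute s.z (k * a l * k * s.z) := zk.symm.mul_right (Commute.refl _)
      have za' : Commute (a l * s.z) s.z := za.mul_left (Commute.refl _)
      have h2 : Commute (a l * s.z * s.z) (k * a l * k * s.z * s.z) :=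
        (h1.mul_right za').mul_left (zb.mul_right (Commute.refl _))
      rwa [← hca, ← hcb] at h2
  refine ⟨?_, fun u hu hne => ?_⟩
  · have hset : {u : G | u ∈ s.A ∧ v * u ≠ u * v} = s.A \ {a f, a f * s.z} := by
      ext u
      simp only [Set.mem_setOf_eq, Set.mem_diff, Set.mem_insert_iff, Set.mem_singleton_iff]
      refine and_congr_right fun hu => ⟨fun hne => ?_, fun hnf hc => ?_⟩
      · rintro (rfl | rfl)
        · exact hne hvf
        · have hvz : Commute v s.z := (show Commute k s.z from s.hzK k hk).mul_left (hzc q hq)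
          exact hne ((show Commute v (a f) from hvf).mul_right hvz).eq
      · obtain ⟨l, hl⟩ := hcov u hu
        by_cases hlf : l = f
        · subst hlf; exact hnf hl
        have hκl : (κ : Equiv.Perm (Fin 5)) l ≠ l := fun e => hlf (hfu l e)
        have hfixu : v * u * v = u := by rw [hc, mul_assoc, hvv, mul_one]
        have hp := hact ⟨k, hk⟩ l
        simp only [← hκ, hki] at hp
        have hzl : Commute (a l) s.z := hzc _ (haA l).1
        have hflipz : ∀ p r : G, p = r * s.z → r = p * s.z := fun p r h => by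
          rw [h, mul_assoc, hzz, mul_one]
        have hkl : k * a l * k = a l ∨ k * a l * k = a l * s.z := by
          have hh := hvconj u hu.1
          rw [hfixu] at hh
          rcases hl with rfl | rfl
          · rcases hh with e | e
            · exact Or.inl e.symm
            · exact Or.inr (hflipz _ _ e)
          · rw [hconj, hkz] at hh
            rcases hh with e | e
            · exact Or.inl (mul_right_cancel e).symm
            · exact Or.inr (hflipz _ _ (mul_right_cancel e))
        obtain ⟨hd1, hd2⟩ := hdist _ _ hκl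
        rcases hkl with e | e <;> rcases hp with hp | hp <;> rw [e] at hp
        · exact hd1 hp.symm
        · exact hd2 (hflipz _ _ hp)
        · exact hd2 hp.symm
        · exact hd1 (mul_right_cancel hp).symm
    show Nat.card ↥{u : G | u ∈ s.A ∧ v * u ≠ u * v} = 8
    rw [Nat.card_coe_set_eq, hset, Set.ncard_diff ?_ (Set.toFinite _), ← Nat.card_coe_set_eq,
      s.card_A, Set.ncard_pair ?_]
    · intro e; exact s.hz1 (mul_eq_left.1 e.symm)
    · intro u hu
      rcases hu with rfl | rfl
      exacts [hfA, s.mul_z_mem_A hfA]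
  · have h := hkey u hu hne
    have hvu : v * u * v * (v * u * v) = 1 := by
      calc v * u * v * (v * u * v) = v * u * (v * v) * u * v := by group
        _ = 1 := by rw [hvv, mul_one, mul_assoc v u u, hu.2.1, mul_one, hvv]
    have hz' : Commute (v * u * v * u) s.z := by
      refine hzc _ (s.Q.mul_mem ?_ hu.1)
      rcases hvconj u hu.1 with e | e <;> rw [e]
      · exact hkQ _ hu.1
      · exact s.Q.mul_mem (hkQ _ hu.1) s.hzQ
    calc u * (v * u * v) * (u * (v * u * v))
          = v * u * v * u * s.z * (u * (v * u * v)) := by rw [← h]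
      _ = s.z * (v * u * v * (u * u) * (v * u * v)) := by rw [hz'.eq]; group
      _ = s.z := by rw [hu.2.1, mul_one, hvu, mul_one]

end Setting

end CfsgLib.Inv54.ExtraAlt
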