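import Mathlib

/-!
The number of conjugacy classes of a group with a self-centralizing normal subgroup of prime order.
-/

set_option autoImplicit false

namespace CfsgLib.Inv54

variable {N : Type*} [Group N] [Finite N]

/-- A group of order `p * e` with a self-centralizing normal subgroup of prime order `p` has
`k` classes where `p e k = p e + (p - 1) p + (p e - p) e`. -/
theorem conjClasses_mul_of_selfCentralizing (P : Subgroup N) [P.Normal] {p e : ℕ} (hp : p.Prime)
    (hP : Nat.card P = p) (hN : Nat.card N = p * e)
    (hC : ∀ g : N, (∀ u ∈ P, u * g = g * u) → g ∈ P) :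
    Nat.card (ConjClasses N) * (p * e) = p * e + (p - 1) * p + (p * e - p) * e := by
  classical
  haveI := Fintype.ofFinite N
  haveI : Fact p.Prime := ⟨hp⟩
  haveI := isCyclic_of_prime_card hP
  have hgen : ∀ x ∈ P, x ≠ 1 → Subgroup.zpowers x = P := fun x hx hx1 =>
    Subgroup.eq_of_le_of_card_ge (Subgroup.zpowers_le.2 hx) (by
      rw [hP, Nat.card_zpowers]
      have h := Subgroup.orderOf_dvd_natCard P hx
      rw [hP] at h
      rcases (Nat.dvd_prime hp).1 h with h | h
      · exact absurd (orderOf_eq_one_iff.1 h) hx1
      · omega)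
  have hin : ∀ x ∈ P, ∀ g, x ≠ 1 → g * x = x * g → g ∈ P := by
    intro x hx g hx1 hg
    refine hC g fun u hu => ?_
    rw [← hgen x hx hx1] at hu
    obtain ⟨i, rfl⟩ := Subgroup.mem_zpowers_iff.1 hu
    exact ((show Commute g x from hg).zpow_right i).eq.symm
  have hcomm : ∀ a b : N, a * b * a⁻¹ * b⁻¹ ∈ P := by
    intro a b
    let φ := MulAut.conjNormal (H := P)
    let ψ := IsCyclic.mulAutMulEquiv P
    have h1 : φ (a * b * a⁻¹ * b⁻¹) = 1 := by
      apply ψ.injective
      simp only [map_mul, map_inv, map_one]
      rw [mul_comm (ψ (φ a)) (ψ (φ b))]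
      group
    refine hC _ fun u hu => ?_
    have h2 := congrArg (fun f => ((f ⟨u, hu⟩ : P) : N)) h1
    simp only [φ, MulAut.conjNormal_apply, MulAut.one_apply] at h2
    exact eq_mul_inv_iff_mul_eq.1 (mul_inv_eq_iff_eq_mul.1 h2 ▸ by group)
  have hidx : P.index = e := by
    have h := P.card_mul_index
    rw [hP, hN] at h
    exact Nat.eq_of_mul_eq_mul_left hp.pos h
  have hcard : ∀ x : N, Nat.card (Subgroup.centralizer ({x} : Set N)) =
      if x = 1 then p * e else if x ∈ P then p else e := by
    intro x
    split_ifs with h1 h2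
    · subst h1
      rw [show Subgroup.centralizer ({(1 : N)} : Set N) = ⊤ from
        eq_top_iff.2 fun g _ => Subgroup.mem_centralizer_singleton_iff.2 (by simp),
        Subgroup.card_top, hN]
    · rw [show Subgroup.centralizer ({x} : Set N) = P from le_antisymm
        (fun g hg => hin x h2 g h1 (Subgroup.mem_centralizer_singleton_iff.1 hg)) ?_, hP]
      intro g hg
      rw [← hgen x h2 h1] at hg
      obtain ⟨i, rfl⟩ := Subgroup.mem_zpowers_iff.1 hg
      exact Subgroup.mem_centralizer_singleton_iff.2 ((Commute.refl x).zpow_left i).eq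
    · set C := Subgroup.centralizer ({x} : Set N) with hCdef
      have hle : Nat.card C ≤ e := by
        rw [← hidx, Subgroup.index_eq_card]
        refine Nat.card_le_card_of_injective (fun c : C => ((c : N) : N ⧸ P)) fun c d hcd => ?_
        rw [QuotientGroup.eq] at hcd
        by_contra hne
        have hy : (c : N)⁻¹ * d ∈ C := mul_mem (inv_mem c.2) d.2
        refine h2 (hin _ hcd x (fun h => hne (Subtype.ext (inv_mul_eq_one.1 h))) ?_)
        exact (Subgroup.mem_centralizer_singleton_iff.1 hy).symm
      have hle' : C.index ≤ p := by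
        rw [← hP, Subgroup.index_eq_card]
        refine Nat.card_le_card_of_injective (fun q => (⟨q.out * x * q.out⁻¹ * x⁻¹, hcomm _ _⟩ : P))
          fun q q' h => ?_
        have h' := mul_right_cancel (congrArg Subtype.val h)
        rw [← q.out_eq', ← q'.out_eq']
        refine QuotientGroup.eq.2 (Subgroup.mem_centralizer_singleton_iff.2 ?_)
        calc q.out⁻¹ * q'.out * x = q.out⁻¹ * (q'.out * x * q'.out⁻¹) * q'.out := by group
          _ = q.out⁻¹ * (q.out * x * q.out⁻¹) * q'.out := by rw [h']
          _ = _ := by group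
      have hmul := C.index_mul_card
      rw [hN] at hmul
      refine le_antisymm hle (Nat.le_of_mul_le_mul_left ?_ hp.pos)
      rw [← hmul]
      exact Nat.mul_le_mul_right _ hle'
  have h := card_comm_eq_card_conjClasses_mul_card N
  rw [hN] at h
  rw [← h, Nat.card_congr (Equiv.subtypeProdEquivSigmaSubtype fun x y : N => Commute x y),
    Nat.card_sigma]
  have hsub : ∀ x : N, Nat.card {y : N // Commute x y} =
      if x = 1 then p * e else if x ∈ P then p else e := fun x => by
    rw [← hcard x]
    exact Nat.card_congr (Equiv.subtypeEquivRight fun y =>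
      ⟨fun h => Subgroup.mem_centralizer_singleton_iff.2 h.eq.symm,
        fun h => (Subgroup.mem_centralizer_singleton_iff.1 h).symm⟩)
  rw [Finset.sum_congr rfl fun x _ => hsub x, ← Finset.sum_filter_add_sum_filter_not _ (· ∈ P)]
  have hA : (Finset.univ.filter (· ∈ P)).card = p := by
    rw [← hP, Nat.card_eq_fintype_card, Fintype.card_subtype]
  have hB : (Finset.univ.filter (fun x : N => x ∉ P)).card = p * e - p := by
    rw [Finset.filter_not, Finset.card_sdiff_of_subset (Finset.filter_subset _ _), hA, Finset.card_univ,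
      ← Nat.card_eq_fintype_card, hN]
  have h1 : (1 : N) ∈ Finset.univ.filter (· ∈ P) := by simp
  rw [← Finset.add_sum_erase _ _ h1, if_pos rfl,
    Finset.sum_congr rfl (g := fun _ => p) fun x hx => by
      simp only [Finset.mem_erase, Finset.mem_filter] at hx
      rw [if_neg hx.1, if_pos hx.2.2],
    Finset.sum_congr rfl (s₁ := Finset.univ.filter fun x => ¬ x ∈ P) (g := fun _ => e) fun x hx => by
      simp only [Finset.mem_filter] at hx
      have hx1 : x ≠ 1 := fun e1 => hx.2 (by rw [e1]; exact P.one_mem)
      rw [if_neg hx1, if_neg hx.2],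
    Finset.sum_const, Finset.sum_const, Finset.card_erase_of_mem h1, hA, hB, smul_eq_mul, smul_eq_mul]

end CfsgLib.Inv54
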