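import Cfsg.Agent.MElevenUnique.Involutions
import Cfsg.Agent.DefectOne.Counting
import Cfsg.Agent.BlocksCyclic.Main
import Cfsg.Agent.BlocksFrobenius.PrimeOrder
import Cfsg.Agent.Blocks.Height
import Cfsg.Agent.Characters.Linear
import Cfsg.Agent.PRational.Basic
import Cfsg.Agent.Inv54.PrimeFrobeniusClasses

/-!
Degree restrictions for the irreducible characters of a simple group of order 7920.
-/

set_option autoImplicit false
set_option linter.unusedSectionVars false

namespace CfsgLib.Inv54.Order7920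

open Cfsg CfsgLib.MElevenUnique
open scoped ComplexConjugate

universe u

variable {G : Type u} [Group G] [Fintype G]

/-- A character constant at a nontrivial element equal to its degree is the trivial one. -/
theorem eq_one_of_kernel [IsSimpleGroup G] (χ : IrrCharacter G) {u : G} (hu : u ≠ 1)
    (h : (χ : G → ℂ) u = (χ : G → ℂ) 1) : (χ : G → ℂ) = fun _ => 1 := by
  obtain ⟨n, ρ, hρ, he⟩ := χ.2
  have hker : u ∈ MonoidHom.ker ρ :=
    MonoidHom.mem_ker.2 ((Characters.char_eq_finrank_iff ρ u).1 (by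
      rw [← Representation.char_one ρ, he, h]))
  have htop : MonoidHom.ker ρ = ⊤ := by
    rcases IsSimpleGroup.eq_bot_or_eq_top_of_normal _ (MonoidHom.normal_ker ρ) with e | e
    · rw [e, Subgroup.mem_bot] at hker
      exact absurd hker hu
    · exact e
  have hconst : ∀ g, (χ : G → ℂ) g = (χ : G → ℂ) 1 := fun g => by
    have hg : ρ g = 1 := MonoidHom.mem_ker.1 (htop ▸ Subgroup.mem_top g)
    rw [← he, Representation.char_one ρ]
    exact (Characters.char_eq_finrank_iff ρ g).2 hg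
  by_contra hne
  have h0 := Characters.classInner_isIrr_ne χ.2 Characters.isIrr_one hne
  simp only [Cfsg.classInner, map_one, mul_one, hconst, Finset.sum_const, Finset.card_univ,
    nsmul_eq_mul, ← Nat.card_eq_fintype_card] at h0
  rw [← mul_assoc, inv_mul_cancel₀ Characters.natCard_ne_zero, one_mul] at h0
  exact Characters.irr_one_ne_zero χ.2 h0

variable [IsSimpleGroup G]

theorem charDegree_one_of_eq {χ : IrrCharacter G} (h : (χ : G → ℂ) = fun _ => 1) :
    Cfsg.charDegree (χ : G → ℂ) = 1 := by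
  rw [Cfsg.charDegree, h]; simp

variable (hG : Nat.card G = 7920)
include hG

/-- A nontrivial irreducible character has degree at least eight. -/
theorem eight_le (χ : IrrCharacter G) (hne : (χ : G → ℂ) ≠ fun _ => 1) :
    8 ≤ Cfsg.charDegree (χ : G → ℂ) := by
  classical
  haveI := Fact.mk Nat.prime_three
  set d := Cfsg.charDegree (χ : G → ℂ) with hd
  by_contra hlt
  obtain ⟨P⟩ : Nonempty (Sylow 3 G) := inferInstance
  obtain ⟨u, hu, hu1⟩ := exists_ne_one_sylow hG P
  have hc : ∀ v ∈ (P : Subgroup G), v ≠ 1 → (χ : G → ℂ) v = (χ : G → ℂ) u := fun v hv hv1 => by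
    obtain ⟨g, -, hg⟩ := transitive_three hG P hu hv hu1 hv1
    exact (Characters.classFunction_isConj (Characters.isClassFunction_of_isIrr χ.2)
      (isConj_iff.2 ⟨g, hg⟩)).symm
  obtain ⟨a, ha⟩ := Characters.classInner_characters
    (Characters.isCharacter_restrict (P : Subgroup G) (Characters.isCharacter_of_isIrr χ.2))
    Characters.isCharacter_one
  have hsum : (8 : ℂ) * (χ : G → ℂ) u = ((9 * a - d : ℤ) : ℂ) := by
    have h1 : (1 : (P : Subgroup G)) ∈ (Finset.univ : Finset (P : Subgroup G)) := Finset.mem_univ _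
    simp only [Cfsg.classInner, map_one, mul_one, card_sylow3 hG P] at ha
    have hrest : ∀ v ∈ (Finset.univ : Finset (P : Subgroup G)).erase 1,
        (χ : G → ℂ) (v : G) = (χ : G → ℂ) u := fun v hv =>
      hc v v.2 fun e => (Finset.mem_erase.1 hv).1 (Subtype.ext e)
    rw [← Finset.add_sum_erase _ _ h1, Finset.sum_congr rfl hrest,
      Finset.sum_const, Finset.card_erase_of_mem h1, Finset.card_univ, ← Nat.card_eq_fintype_card,
      card_sylow3 hG P, Subgroup.coe_one, ← Blocks.charDegree_cast, ← hd, nsmul_eq_mul] at ha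
    push_cast at ha ⊢
    linear_combination (9 : ℂ) * ha
  obtain ⟨c, hcz⟩ := PRational.exists_int_of_isIntegral_of_mul
    (Characters.character_isIntegral (Characters.isCharacter_of_isIrr χ.2) u) (b := 8) (by norm_num)
    (by exact_mod_cast hsum)
  rw [hcz] at hsum
  have hsum' : 8 * c = 9 * (a : ℤ) - d := by exact_mod_cast hsum
  have hb : |c| ≤ (d : ℤ) := by
    obtain ⟨n, ρ, hρ, he⟩ := χ.2
    have h1 := Characters.norm_char_le ρ u
    rw [he, hcz, Complex.norm_intCast] at h1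
    have h2 : (Module.finrank ℂ (Fin n → ℂ) : ℕ) = d := by
      rw [hd, Cfsg.charDegree, ← he, Representation.char_one]; simp
    rw [h2] at h1
    exact_mod_cast h1
  have hcd : c = (d : ℤ) := by
    have := abs_le.1 hb
    omega
  refine hne (eq_one_of_kernel χ hu1 ?_)
  rw [hcz, hcd, ← Blocks.charDegree_cast, Int.cast_natCast]

/-- Only the trivial character has degree one. -/
theorem card_degree_one :
    Nat.card {χ : IrrCharacter G // Cfsg.charDegree (χ : G → ℂ) = 1} = 1 := by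
  rw [Nat.card_eq_one_iff_exists]
  refine ⟨⟨⟨_, Characters.isIrr_one⟩, charDegree_one_of_eq rfl⟩, fun χ => ?_⟩
  refine Subtype.ext (Subtype.ext ?_)
  by_contra hne
  have := eight_le hG χ.1 hne
  rw [χ.2] at this
  omega

theorem sum_sq : ∑ χ : IrrCharacter G, Cfsg.charDegree (χ : G → ℂ) ^ 2 = 7920 := by
  have h := Characters.sum_degree_sq (G := G)
  simp only [← Blocks.charDegree_cast, hG] at h
  exact_mod_cast h

/-- The counting data at a prime dividing the order once. -/
theorem defect_one {p e : ℕ} [Fact p.Prime] (P : Sylow p G) (hP : Nat.card (P : Subgroup G) = p)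
    (hsq : ¬ p ^ 2 ∣ 7920) (hN : Nat.card (Ng (P : Subgroup G)) = p * e)
    (hC : Nat.card (Cs (P : Subgroup G)) = p) :
    Nat.card {χ : IrrCharacter G // ¬ p ∣ Cfsg.charDegree (χ : G → ℂ)} * (p * e) =
        p * e + (p - 1) * p + (p * e - p) * e ∧
      ((Nat.card {χ : IrrCharacter G // ¬ p ∣ Cfsg.charDegree (χ : G → ℂ)} = e + (p - 1) / e ∧
          1 < e ∧ e < p) →
        ∀ χ : IrrCharacter G, ¬ p ∣ Cfsg.charDegree (χ : G → ℂ) →
          ((Cfsg.charDegree (χ : G → ℂ) : ℤ) ≡ 1 [ZMOD p] ∨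
            (Cfsg.charDegree (χ : G → ℂ) : ℤ) ≡ -1 [ZMOD p] ∨
            (Cfsg.charDegree (χ : G → ℂ) : ℤ) ≡ (e : ℤ) [ZMOD p] ∨
            (Cfsg.charDegree (χ : G → ℂ) : ℤ) ≡ -(e : ℤ) [ZMOD p])) := by
  classical
  have hp : p.Prime := Fact.out
  haveI := isCyclic_of_prime_card hP
  have hCP : Cs (P : Subgroup G) = (P : Subgroup G) :=
    (Subgroup.eq_of_le_of_card_ge (fun a ha => mem_Cs.2 fun b hb =>
      congrArg Subtype.val (IsCyclic.commutative.is_comm.comm (⟨b, hb⟩ : (P : Subgroup G)) ⟨a, ha⟩))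
      (le_of_eq (by rw [hC, hP]))).symm
  have hdiv : p ∣ Nat.card G := hP ▸ Subgroup.card_subgroup_dvd_card _
  have hsq' : ¬ p ^ 2 ∣ Nat.card G := hG.symm ▸ hsq
  obtain ⟨L, rfl⟩ := DefectOne.exists_local hdiv hsq' P
  refine ⟨?_, fun ⟨hk, he1, hep⟩ χ hχ => ?_⟩
  · rw [L.counting.1]
    refine conjClasses_mul_of_selfCentralizing ((L.P : Subgroup G).subgroupOf L.N) hp ?_ hN ?_
    · rw [Nat.card_congr (Subgroup.subgroupOfEquivOfLe Subgroup.le_normalizer).toEquiv, hP]
    · intro g hg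
      refine Subgroup.mem_subgroupOf.2 (hCP ▸ mem_Cs.2 fun b hb => ?_)
      exact congrArg Subtype.val (hg ⟨b, Subgroup.le_normalizer hb⟩ (Subgroup.mem_subgroupOf.2 hb))
  obtain ⟨M, hM⟩ := Blocks.exists_isPModular p hp
  haveI := Blocks.IsPModular.isPrime hM
  obtain ⟨x, hxP, hx⟩ := BlocksCyclic.exists_generator hP
  obtain ⟨θ, hθ, hθC⟩ := BlocksCyclic.exists_theta hP hxP hx
  obtain ⟨hcard, hdeg⟩ := BlocksCyclic.principalBlock_structure hM L.P hP hxP hx hθ hθC
  have hrange : Nat.card θ.range = e := by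
    have h1 := θ.ker.index_mul_card
    rw [Subgroup.index_ker, hN] at h1
    have h2 : Nat.card θ.ker = p := by
      rw [show θ.ker = (Cs (L.P : Subgroup G)).subgroupOf _ from by ext n; exact hθC n]
      exact (Nat.card_congr (Subgroup.subgroupOfEquivOfLe (Cs_le_Ng _)).toEquiv).trans hC
    rw [h2, mul_comm p e] at h1
    exact Nat.eq_of_mul_eq_mul_right hp.pos h1
  have hquot : Nat.card ((ZMod p)ˣ ⧸ θ.range) = (p - 1) / e := by
    have h1 := Subgroup.card_eq_card_quotient_mul_card_subgroup θ.range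
    rw [Nat.card_eq_fintype_card (α := (ZMod p)ˣ), ZMod.card_units, hrange] at h1
    rw [h1, Nat.mul_div_cancel _ (by omega)]
  rw [hrange, hquot, ← hk] at hcard
  have hsub : ∀ ψ ∈ Cfsg.principalBlock M G, ¬ p ∣ Cfsg.charDegree (ψ : G → ℂ) := by
    intro ψ hψ h
    have h0 : (Cfsg.charDegree (ψ : G → ℂ) : ℤ) ≡ 0 [ZMOD p] :=
      Int.modEq_zero_iff_dvd.2 (Int.natCast_dvd_natCast.2 h)
    have key : ∀ z : ℤ, (Cfsg.charDegree (ψ : G → ℂ) : ℤ) ≡ z [ZMOD p] → (p : ℤ) ∣ z := fun z hz =>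
      Int.modEq_zero_iff_dvd.1 (hz.symm.trans h0)
    have hnot : ∀ m : ℕ, 0 < m → m < p → ¬ (p : ℤ) ∣ (m : ℤ) := fun m h1 h2 h3 =>
      absurd (Nat.le_of_dvd h1 (Int.natCast_dvd_natCast.1 h3)) (not_le.2 h2)
    have h2 := hdeg ψ hψ
    rw [hrange] at h2
    rcases h2 with h2 | h2 | h2 | h2
    · exact hnot 1 one_pos hp.one_lt (by exact_mod_cast key _ h2)
    · exact hnot 1 one_pos hp.one_lt (by exact_mod_cast dvd_neg.1 (key _ h2))
    · exact hnot e (by omega) hep (key _ h2)
    · exact hnot e (by omega) hep (dvd_neg.1 (key _ h2))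
  have hset : Cfsg.principalBlock M G = {ψ : IrrCharacter G | ¬ p ∣ Cfsg.charDegree (ψ : G → ℂ)} :=
    Set.eq_of_subset_of_ncard_le hsub (le_of_eq hcard.symm) (Set.toFinite _)
  have h2 := hdeg χ (hset ▸ hχ)
  rwa [hrange] at h2

theorem card_Cs_five [Fact (Nat.Prime 5)] (Y : Sylow 5 G) : Nat.card (Cs (Y : Subgroup G)) = 5 := by
  haveI := Fact.mk Nat.prime_three
  haveI := Fact.mk Nat.prime_two
  have hY := card_sylow5 hG Y
  haveI := isCyclic_of_prime_card hY
  have h10 := (five hG Y).2.1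
  have h5 : 5 ∣ Nat.card (Cs (Y : Subgroup G)) := by
    have hle : (Y : Subgroup G) ≤ Cs (Y : Subgroup G) := fun a ha => mem_Cs.2 fun b hb =>
      congrArg Subtype.val (IsCyclic.commutative.is_comm.comm (⟨b, hb⟩ : (Y : Subgroup G)) ⟨a, ha⟩)
    have h := Subgroup.card_dvd_of_le hle
    rwa [hY] at h
  by_contra hne
  have h2 : 2 ∣ Nat.card (Cs (Y : Subgroup G)) := by
    have := Nat.le_of_dvd (by norm_num) h10
    generalize Nat.card (Cs (Y : Subgroup G)) = c at *
    interval_cases c <;> omega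
  obtain ⟨⟨v, hvC⟩, hv⟩ := exists_prime_orderOf_dvd_card' (G := Cs (Y : Subgroup G)) 2 h2
  rw [← Subgroup.orderOf_coe] at hv
  simp only at hv
  have h5v : 5 ∣ Nat.card (Cg v) := hY ▸ Subgroup.card_dvd_of_le (le_Cg_of_mem_Cs hvC)
  have hfix := card_modEq_fix (X := Sylow 3 G) (p := 2) (hv ▸ pow_orderOf_eq_one v)
  rw [card_sylow_three hG] at hfix
  obtain ⟨⟨Q, hQ⟩⟩ : Nonempty (MulAction.fixedBy (Sylow 3 G) v) :=
    (Nat.card_pos_iff.1 (show 0 < fixCard (Sylow 3 G) v by omega)).1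
  rw [(invol_data hG hv (smul_sylow_eq_iff.1 hQ)).1] at h5v
  omega

/-- Seven degrees are prime to eleven, with restricted residues. -/
theorem eleven_data :
    Nat.card {χ : IrrCharacter G // ¬ 11 ∣ Cfsg.charDegree (χ : G → ℂ)} = 7 ∧
      ∀ χ : IrrCharacter G, ¬ 11 ∣ Cfsg.charDegree (χ : G → ℂ) →
        Cfsg.charDegree (χ : G → ℂ) % 11 = 1 ∨ Cfsg.charDegree (χ : G → ℂ) % 11 = 10 ∨
        Cfsg.charDegree (χ : G → ℂ) % 11 = 5 ∨ Cfsg.charDegree (χ : G → ℂ) % 11 = 6 := by
  haveI := Fact.mk (show Nat.Prime 11 by norm_num)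
  obtain ⟨P⟩ : Nonempty (Sylow 11 G) := inferInstance
  obtain ⟨hn, hC⟩ := eleven hG P
  have h1 := Small.card_sylow_mul_card_normalizer P
  rw [hn, hG] at h1
  change 144 * Nat.card (Ng (P : Subgroup G)) = 7920 at h1
  obtain ⟨hk, hres⟩ := defect_one hG (e := 5) P (card_sylow11 hG P) (by norm_num) (by omega) hC
  refine ⟨by omega, fun χ hχ => ?_⟩
  have h := hres ⟨by omega, by norm_num, by norm_num⟩ χ hχ
  simp only [Int.ModEq] at h
  push_cast at h
  omega

/-- Five degrees are prime to five, with restricted residues. -/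
theorem five_data :
    Nat.card {χ : IrrCharacter G // ¬ 5 ∣ Cfsg.charDegree (χ : G → ℂ)} = 5 ∧
      ∀ χ : IrrCharacter G, ¬ 5 ∣ Cfsg.charDegree (χ : G → ℂ) →
        Cfsg.charDegree (χ : G → ℂ) % 5 = 1 ∨ Cfsg.charDegree (χ : G → ℂ) % 5 = 4 := by
  haveI := Fact.mk (show Nat.Prime 5 by norm_num)
  obtain ⟨Y⟩ : Nonempty (Sylow 5 G) := inferInstance
  obtain ⟨hk, hres⟩ := defect_one hG (e := 4) Y (card_sylow5 hG Y) (by norm_num) (five hG Y).1
    (card_Cs_five hG Y)
  refine ⟨by omega, fun χ hχ => ?_⟩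
  have h := hres ⟨by omega, by norm_num, by norm_num⟩ χ hχ
  simp only [Int.ModEq] at h
  push_cast at h
  omega

/-- The possible degrees. -/
theorem degree_mem (χ : IrrCharacter G) :
    Cfsg.charDegree (χ : G → ℂ) ∈ ({1, 10, 16, 45, 60, 11, 44, 55, 66} : Finset ℕ) := by
  by_cases hne : (χ : G → ℂ) = fun _ => 1
  · rw [charDegree_one_of_eq hne]; simp
  have h8 := eight_le hG χ hne
  have hdvd := Blocks.charDegree_dvd_card χ
  rw [hG] at hdvd
  have hle : Cfsg.charDegree (χ : G → ℂ) ^ 2 ≤ 7920 := (sum_sq hG) ▸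
    Finset.single_le_sum (f := fun ψ : IrrCharacter G => Cfsg.charDegree (ψ : G → ℂ) ^ 2)
      (fun _ _ => Nat.zero_le _) (Finset.mem_univ χ)
  have h11 := (eleven_data hG).2 χ
  have h5 := (five_data hG).2 χ
  generalize Cfsg.charDegree (χ : G → ℂ) = d at *
  have h88 : d ≤ 88 := by
    by_contra h
    have := Nat.pow_le_pow_left (show 89 ≤ d by omega) 2
    omega
  interval_cases d <;> simp_all (config := {decide := true})

theorem arith {a c d e g j k l : ℕ} (h7 : a + c + d + e = 6) (h5 : c + g + j + l = 4)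
    (hs : 100 * a + 256 * c + 2025 * d + 3600 * e + 121 * g + 1936 * j + 3025 * k + 4356 * l = 7919) :
    a = 3 ∧ c = 2 ∧ d = 1 ∧ e = 0 ∧ g = 1 ∧ j = 1 ∧ k = 1 ∧ l = 0 := by
  have he : e ≤ 2 := by omega
  have hd : d ≤ 3 := by omega
  have hk : k ≤ 2 := by omega
  have hl : l ≤ 1 := by omega
  interval_cases e <;> interval_cases d <;> interval_cases k <;> interval_cases l <;> omega

theorem degrees :
    Nat.card (IrrCharacter G) = 10 ∧ ∀ n : ℕ,
      Nat.card {χ : IrrCharacter G // Cfsg.charDegree (χ : G → ℂ) = n} =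
        (if n = 1 ∨ n = 11 ∨ n = 44 ∨ n = 45 ∨ n = 55 then 1 else if n = 10 then 3
          else if n = 16 then 2 else 0) := by
  classical
  set f := fun χ : IrrCharacter G => Cfsg.charDegree (χ : G → ℂ) with hf
  set m := fun n => (Finset.univ.filter fun χ : IrrCharacter G => f χ = n).card with hm
  have hmn : ∀ n, Nat.card {χ : IrrCharacter G // Cfsg.charDegree (χ : G → ℂ) = n} = m n := fun n => by
    rw [Nat.card_eq_fintype_card, Fintype.card_subtype]
  have hsum : ∀ F : ℕ → ℕ, ∑ χ, F (f χ) =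
      ∑ n ∈ ({1, 10, 16, 45, 60, 11, 44, 55, 66} : Finset ℕ), m n * F n := fun F => by
    rw [← Finset.sum_fiberwise_of_maps_to (fun χ _ => degree_mem hG χ) (fun χ => F (f χ))]
    refine Finset.sum_congr rfl fun n _ => ?_
    rw [Finset.sum_congr rfl fun χ hχ => congrArg F (Finset.mem_filter.1 hχ).2, Finset.sum_const,
      smul_eq_mul]
  have h1 : m 1 = 1 := (hmn 1) ▸ card_degree_one hG
  have hS2 := hsum fun n => n ^ 2
  rw [sum_sq hG] at hS2
  have hq : ∀ q : ℕ, Nat.card {χ : IrrCharacter G // ¬ q ∣ f χ} =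
      ∑ χ, if q ∣ f χ then 0 else 1 := fun q => by
    rw [Nat.card_eq_fintype_card, Fintype.card_subtype, Finset.card_filter]
    exact Finset.sum_congr rfl fun χ _ => ite_not _ _ _
  have hS7 := (hq 11).symm.trans (eleven_data hG).1
  have hS5 := (hq 5).symm.trans (five_data hG).1
  rw [hsum fun n => if 11 ∣ n then 0 else 1] at hS7
  rw [hsum fun n => if 5 ∣ n then 0 else 1] at hS5
  simp (config := {decide := true}) [Finset.sum_insert, h1] at hS2 hS7 hS5
  obtain ⟨ea, ec, ed, ee, eg, ej, ek, el⟩ := arith hG (a := m 10) (c := m 16) (d := m 45) (e := m 60)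
    (g := m 11) (j := m 44) (k := m 55) (l := m 66) (by omega) (by omega) (by omega)
  refine ⟨?_, fun n => ?_⟩
  · rw [Nat.card_eq_fintype_card, ← Finset.card_univ, Finset.card_eq_sum_ones, hsum fun _ => 1]
    simp (config := {decide := true}) [Finset.sum_insert, h1, ea, ec, ed, ee, eg, ej, ek, el]
  · rw [hmn]
    by_cases hn : n ∈ ({1, 10, 16, 45, 60, 11, 44, 55, 66} : Finset ℕ)
    · simp only [Finset.mem_insert, Finset.mem_singleton] at hn
      rcases hn with rfl | rfl | rfl | rfl | rfl | rfl | rfl | rfl | rfl <;>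
        simp [h1, ea, ec, ed, ee, eg, ej, ek, el]
    · have h0 : m n = 0 := Finset.card_eq_zero.2 (Finset.filter_eq_empty_iff.2
        fun χ _ e => hn (e ▸ degree_mem hG χ))
      simp only [Finset.mem_insert, Finset.mem_singleton, not_or] at hn
      rw [h0, if_neg (by omega), if_neg (by omega), if_neg (by omega)]

end CfsgLib.Inv54.Order7920
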