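import Mathlib.Tactic
import Mathlib.RingTheory.Int.Basic

/-!
# The arithmetic for an element of order 4 with centraliser of order 4

The two equations of the principal block and the data of `C(A)` leave three orders when `b = 1`
and two families when `a = b`.
-/

set_option autoImplicit false

namespace CfsgLib.Inv54.SigmaArith

/-- `x - δ = 4 s`. -/
theorem shape {N a b x : ℕ} {δ : ℤ} (hδ : δ = 1 ∨ δ = -1) (hN : N % 16 = 8) (ha : Odd a)
    (hb : Odd b) (hx : 0 < x) (hxδ : (x : ℤ) ≠ δ)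
    (E : (N : ℤ) * ((x : ℤ) - δ) ^ 2 =
      64 * a * b * ((a : ℤ) + b) ^ 2 * x * ((x : ℤ) + δ)) :
    ∃ s : ℤ, 0 < s ∧ (x : ℤ) - δ = 4 * s := by
  obtain ⟨n, hn⟩ : ∃ n : ℤ, (N : ℤ) = 16 * n + 8 := ⟨(N / 16 : ℕ), by omega⟩
  obtain ⟨c, hc⟩ : ∃ c : ℤ, (a : ℤ) + b = 2 * c := by
    obtain ⟨i, hi⟩ := ha
    obtain ⟨j, hj⟩ := hb
    exact ⟨i + j + 1, by rw [hi, hj]; push_cast; ring⟩
  rw [hn, hc] at E
  obtain ⟨r, hr | hr⟩ := Int.even_or_odd' ((x : ℤ) - δ)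
  · obtain ⟨q, hq | hq⟩ := Int.even_or_odd' r
    · refine ⟨q, ?_, by omega⟩
      rcases hδ with rfl | rfl <;> omega
    · exfalso
      obtain ⟨p, hp⟩ : ∃ p : ℤ, (x : ℤ) + δ = 4 * p := by
        rcases hδ with rfl | rfl
        · exact ⟨q + 1, by omega⟩
        · exact ⟨q, by omega⟩
      rw [hr, hp, hq] at E
      have : (32 : ℤ) * ((2 * n + 1) * (2 * q + 1) ^ 2) =
          32 * (2 * (16 * a * b * c ^ 2 * x * p)) := by linear_combination E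
      have h2 := mul_left_cancel₀ (by norm_num) this
      have : Odd ((2 * n + 1) * (2 * q + 1) ^ 2) :=
        (odd_two_mul_add_one n).mul ((odd_two_mul_add_one q).pow)
      rw [h2] at this
      exact absurd (even_two_mul _) (Int.not_even_iff_odd.2 this)
  · exfalso
    obtain ⟨p, hp⟩ : ∃ p : ℤ, (x : ℤ) + δ = 2 * p + 1 := by
      rcases hδ with rfl | rfl
      · exact ⟨r + 1, by omega⟩
      · exact ⟨r - 1, by omega⟩
    rw [hr, hp] at E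
    have : (8 : ℤ) * ((2 * n + 1) * (2 * r + 1) ^ 2) =
        8 * (2 * (16 * a * b * c ^ 2 * x * (2 * p + 1))) := by linear_combination E
    have h2 := mul_left_cancel₀ (by norm_num) this
    have : Odd ((2 * n + 1) * (2 * r + 1) ^ 2) :=
      (odd_two_mul_add_one n).mul ((odd_two_mul_add_one r).pow)
    rw [h2] at this
    exact absurd (even_two_mul _) (Int.not_even_iff_odd.2 this)

theorem coprime_P (s : ℤ) {δ : ℤ} (hδ : δ = 1 ∨ δ = -1) :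
    IsCoprime (s ^ 2) ((4 * s + δ) * (2 * s + δ)) := by
  refine IsCoprime.pow_left ⟨-(8 * s + 6 * δ), 1, ?_⟩
  rcases hδ with rfl | rfl <;> ring

/-- `a = b`. -/
theorem equal {N a x : ℕ} {δ : ℤ} (hδ : δ = 1 ∨ δ = -1) (hN : N % 16 = 8) (ha : Odd a)
    (hx : 0 < x) (hxδ : (x : ℤ) ≠ δ) (hdvd : 24 * a ^ 4 ∣ N)
    (E : (N : ℤ) * ((x : ℤ) - δ) ^ 2 =
      64 * a * a * ((a : ℤ) + a) ^ 2 * x * ((x : ℤ) + δ)) :
    N = 24 * a ^ 4 * 7 ∨ N = 24 * a ^ 4 * 15 := by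
  obtain ⟨s, hs, hxs⟩ := shape hδ hN ha ha hx hxδ E
  obtain ⟨m, rfl⟩ := hdvd
  have hx' : (x : ℤ) = 4 * s + δ := by linarith
  have ha0 : (a : ℤ) ^ 4 * 128 ≠ 0 := by
    have := ha.pos
    positivity
  have e : (a : ℤ) ^ 4 * 128 * (3 * m * s ^ 2) =
      (a : ℤ) ^ 4 * 128 * (4 * ((4 * s + δ) * (2 * s + δ))) := by
    push_cast at E
    rw [hx'] at E
    linear_combination E
  have e' := mul_left_cancel₀ ha0 e
  have h4 : s ^ 2 ∣ 4 := (coprime_P s hδ).dvd_of_dvd_mul_right ⟨3 * m, by linarith⟩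
  have hs2 : s ≤ 2 := by
    have := Int.le_of_dvd (by norm_num) h4
    nlinarith
  obtain rfl | rfl : s = 1 ∨ s = 2 := by omega
  · exfalso
    have h16 : 16 ∣ 24 * a ^ 4 * m := by
      obtain rfl | rfl : m = 20 ∨ m = 4 := by
        rcases hδ with rfl | rfl
        · left; norm_num at e'; omega
        · right; norm_num at e'; omega
      · exact ⟨30 * a ^ 4, by ring⟩
      · exact ⟨6 * a ^ 4, by ring⟩
    omega
  · rcases hδ with rfl | rfl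
    · right; norm_num at e'; rw [show m = 15 by omega]
    · left; norm_num at e'; rw [show m = 7 by omega]

theorem small_pairs {p q : ℕ} (hp : 3 ≤ p) (hpq : p ≤ q) (h8 : p * q % 8 = 4)
    (hsum : (p + q) % 2 = 1) (hdvd : 2 * ((p - 2) * (q - 2)) ∣ p * q + 4) :
    (p = 3 ∧ q = 4) ∨ (p = 3 ∧ q = 12) ∨ (p = 4 ∧ q = 5) := by
  have hq2 : 0 < q - 2 := by omega
  have hb : p ≤ 7 ∧ q ≤ 16 := by
    obtain ⟨p', rfl⟩ : ∃ p', p = p' + 3 := ⟨p - 3, by omega⟩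
    obtain ⟨q', rfl⟩ : ∃ q', q = q' + 3 := ⟨q - 3, by omega⟩
    simp only [show ∀ n : ℕ, n + 3 - 2 = n + 1 from fun n => by omega] at hdvd
    match p', hdvd with
    | 0, hdvd =>
      have h1 : q' + 1 ∣ 3 * (q' + 1) + 10 := by
        have h2 : q' + 1 ∣ 2 * ((0 + 1) * (q' + 1)) := ⟨2, by ring⟩
        rw [show 3 * (q' + 1) + 10 = (0 + 3) * (q' + 3) + 4 by ring]
        exact h2.trans hdvd
      have := Nat.le_of_dvd (by norm_num) ((Nat.dvd_add_right ⟨3, by ring⟩).1 h1)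
      omega
    | 1, hdvd =>
      have h1 : 4 * (q' + 1) ∣ 4 * (q' + 1) + 12 := by convert hdvd using 1 <;> ring
      have := Nat.le_of_dvd (by norm_num) ((Nat.dvd_add_right dvd_rfl).1 h1)
      omega
    | r + 2, hdvd =>
      have h1 := Nat.le_of_dvd (by positivity) hdvd
      constructor <;> nlinarith
  obtain ⟨hp7, hq16⟩ := hb
  interval_cases p <;> interval_cases q <;> omega

/-- `b = 1`. -/
theorem one {N a x : ℕ} {δ : ℤ} (hδ : δ = 1 ∨ δ = -1) (hN : N % 16 = 8) (ha : Odd a)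
    (ha1 : 1 < a) (hx : 0 < x) (hxδ : (x : ℤ) ≠ δ) (hdvd : a ∣ N) (Q : ℤ)
    (E : (N : ℤ) * ((x : ℤ) - δ) ^ 2 = 64 * a * ((a : ℤ) + 1) ^ 2 * x * ((x : ℤ) + δ))
    (hQ : Q ^ 2 * (((a : ℤ) + 1) ^ 2 * ((x : ℤ) + δ) ^ 2 - 4 * a * ((x : ℤ) - δ) ^ 2) =
      (((x : ℤ) + δ) * ((x : ℤ) - δ) * ((a : ℤ) - 1)) ^ 2) :
    (N = 2520 ∧ a = 3) ∨ (N = 7560 ∧ a = 5) ∨ (N = 37800 ∧ a = 9 ∧ x = 7) := by
  have E' : (N : ℤ) * ((x : ℤ) - δ) ^ 2 =
      64 * a * (1 : ℕ) * ((a : ℤ) + (1 : ℕ)) ^ 2 * x * ((x : ℤ) + δ) := by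
    push_cast; linarith
  obtain ⟨s, hs, hxs⟩ := shape hδ hN ha odd_one hx hxδ E'
  obtain ⟨n, rfl⟩ := hdvd
  have hx' : (x : ℤ) = 4 * s + δ := by linarith
  have ha0 : (a : ℤ) * 16 ≠ 0 := by positivity
  rw [hx'] at E hQ
  push_cast at E
  have e : (a : ℤ) * 16 * ((n : ℤ) * s ^ 2) =
      (a : ℤ) * 16 * (((4 * s + δ) * (2 * s + δ)) * (8 * ((a : ℤ) + 1) ^ 2)) := by
    linear_combination E
  have e' := mul_left_cancel₀ ha0 e
  set P := (4 * s + δ) * (2 * s + δ) with hP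
  have h8 : s ^ 2 ∣ 8 * ((a : ℤ) + 1) ^ 2 :=
    (coprime_P s hδ).dvd_of_dvd_mul_left ⟨n, by rw [← hP]; linarith⟩
  -- `s` divides `a + 1`
  obtain ⟨k, hk⟩ : s ∣ (a : ℤ) + 1 := by
    have hns : s ^ 2 ∣ (4 * ((a : ℤ) + 1)) ^ 2 := h8.trans ⟨2, by ring⟩
    obtain ⟨c, hc⟩ := (Int.pow_dvd_pow_iff two_ne_zero).1 hns
    have hn : (n : ℤ) * 2 = c ^ 2 * P := by
      refine mul_left_cancel₀ (pow_ne_zero 2 hs.ne') ?_
      linear_combination (2 : ℤ) * e' + P * (4 * ((a : ℤ) + 1) + s * c) * hc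
    obtain ⟨c', hc' | hc'⟩ := Int.even_or_odd' c
    · obtain ⟨c'', hc'' | hc''⟩ := Int.even_or_odd' c'
      · exact ⟨c'', by rw [hc', hc''] at hc; linarith⟩
      · exfalso
        rw [hc', hc''] at hn
        have hn2 : (n : ℤ) = 2 * ((2 * c'' + 1) ^ 2 * P) := by linarith
        have hodd : Odd ((a : ℤ) * ((2 * c'' + 1) ^ 2 * P)) := by
          refine (Int.odd_coe_nat a |>.2 ha).mul ((odd_two_mul_add_one c'').pow.mul ?_)
          rw [hP]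
          rcases hδ with rfl | rfl
          · exact Odd.mul ⟨2 * s, by ring⟩ ⟨s, by ring⟩
          · exact Odd.mul ⟨2 * s - 1, by ring⟩ ⟨s - 1, by ring⟩
        obtain ⟨w, hw⟩ := hodd
        have hNw : ((a * n : ℕ) : ℤ) = 4 * w + 2 := by
          push_cast
          rw [hn2]
          linear_combination (2 : ℤ) * hw
        omega
    · exfalso
      rw [hc'] at hn
      have hodd : Odd ((2 * c' + 1) ^ 2 * P) := by
        refine (odd_two_mul_add_one c').pow.mul ?_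
        rw [hP]
        rcases hδ with rfl | rfl
        · exact Odd.mul ⟨2 * s, by ring⟩ ⟨s, by ring⟩
        · exact Odd.mul ⟨2 * s - 1, by ring⟩ ⟨s - 1, by ring⟩
      rw [← hn] at hodd
      exact absurd ⟨(n : ℤ), by ring⟩ (Int.not_even_iff_odd.2 hodd)
  have hkpos : 0 < k := by
    by_contra hc
    have : s * k ≤ 0 := mul_nonpos_of_nonneg_of_nonpos hs.le (by omega)
    omega
  have hnk : (n : ℤ) = 8 * k ^ 2 * P := by
    refine mul_left_cancel₀ (pow_ne_zero 2 hs.ne') ?_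
    linear_combination e' + 8 * P * ((a : ℤ) + 1 + s * k) * hk
  have hkodd : Odd k := by
    rw [← Int.not_even_iff_odd]
    rintro ⟨k', rfl⟩
    obtain ⟨j, hj⟩ := Int.natCast_dvd_natCast.1 (show ((16 : ℕ) : ℤ) ∣ ((a * n : ℕ) : ℤ) from
      ⟨a * 2 * k' ^ 2 * P, by push_cast; rw [hnk]; ring⟩)
    omega
  -- the square
  set L := k * (2 * s + δ) with hL
  have hsq : ∃ z : ℤ, L ^ 2 - 16 * a = z ^ 2 := by
    set D := ((a : ℤ) + 1) ^ 2 * (4 * s + δ + δ) ^ 2 - 4 * a * (4 * s + δ - δ) ^ 2 with hD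
    set R := (4 * s + δ + δ) * (4 * s + δ - δ) * ((a : ℤ) - 1) with hR
    have hR0 : R ≠ 0 := by
      refine mul_ne_zero (mul_ne_zero ?_ (by omega)) (by omega)
      rcases hδ with rfl | rfl <;> omega
    have hQ0 : Q ≠ 0 := fun e => hR0 (by
      rw [e] at hQ
      exact pow_eq_zero_iff two_ne_zero |>.1 (by rw [← hQ]; ring))
    obtain ⟨r, hr⟩ := (Int.pow_dvd_pow_iff two_ne_zero).1 (⟨D, hQ.symm⟩ : Q ^ 2 ∣ R ^ 2)
    have hDr : D = r ^ 2 := mul_left_cancel₀ (pow_ne_zero 2 hQ0) (by rw [hQ, hr]; ring)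
    have hD' : D = (2 * s) ^ 2 * (L ^ 2 - 16 * a) := by
      rw [hD, hk, hL]; ring
    obtain ⟨z, hz⟩ := (Int.pow_dvd_pow_iff two_ne_zero).1
      (⟨L ^ 2 - 16 * a, hDr.symm.trans hD'⟩ : (2 * s) ^ 2 ∣ r ^ 2)
    refine ⟨z, mul_left_cancel₀ (pow_ne_zero 2 (show (2 * s : ℤ) ≠ 0 by omega)) ?_⟩
    rw [← hD', hDr, hz]; ring
  obtain ⟨z₀, hz₀⟩ := hsq
  obtain ⟨z, hz0, hz⟩ : ∃ z : ℤ, 0 ≤ z ∧ L ^ 2 - 16 * a = z ^ 2 :=
    ⟨|z₀|, abs_nonneg _, by rw [sq_abs]; exact hz₀⟩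
  have hLpos : 0 < L := mul_pos hkpos (by rcases hδ with rfl | rfl <;> omega)
  have hzL : z < L := by nlinarith
  have hLodd : Odd L := hkodd.mul (by
    rcases hδ with rfl | rfl
    · exact ⟨s, by ring⟩
    · exact ⟨s - 1, by ring⟩)
  have hzodd : Odd z := by
    rw [← Int.not_even_iff_odd]
    rintro ⟨z', rfl⟩
    obtain ⟨L', hL'⟩ := hLodd
    rw [hL'] at hz
    have : 2 * (2 * L' ^ 2 + 2 * L' - 8 * a - 2 * z' ^ 2) + 1 = 0 := by linear_combination hz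
    omega
  obtain ⟨p, hp⟩ : ∃ p, L - z = 2 * p := (hLodd.sub_odd hzodd).two_dvd
  obtain ⟨q, hq⟩ : ∃ q, L + z = 2 * q := (hLodd.add_odd hzodd).two_dvd
  have hpq : p * q = 4 * a := by
    have : (2 * p) * (2 * q) = 4 * (4 * (a : ℤ)) := by
      rw [← hp, ← hq]; linear_combination hz
    linarith
  have hsum : p + q = L := by linarith
  have key : (p - 2) * (q - 2) = -2 * k * δ := by
    rw [hL] at hsum
    linear_combination hpq - 2 * hsum + 4 * hk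
  have hka : k ≤ (a : ℤ) + 1 := by
    rw [hk]; exact le_mul_of_one_le_left hkpos.le hs
  rcases hδ with rfl | rfl
  · exfalso
    have hp1 : p = 1 := by
      by_contra hne
      have : 0 ≤ (p - 2) * (q - 2) := mul_nonneg (by omega) (by omega)
      omega
    rw [hp1] at key hpq
    obtain ⟨j, hj⟩ := ha
    omega
  · have hp3 : 3 ≤ p := by
      by_contra hne
      obtain rfl | rfl : p = 1 ∨ p = 2 := by omega
      · omega
      · omega
    obtain ⟨P', rfl⟩ : ∃ P' : ℕ, p = (P' : ℤ) := ⟨p.toNat, by omega⟩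
    obtain ⟨Q', rfl⟩ : ∃ Q' : ℕ, q = (Q' : ℤ) := ⟨q.toNat, by omega⟩
    have h1 : P' * Q' = 4 * a := by exact_mod_cast hpq
    have h2 : (P' + Q') % 2 = 1 := by
      obtain ⟨j, hj⟩ := hLodd
      omega
    have h3 : P' * Q' % 8 = 4 := by
      obtain ⟨j, hj⟩ := ha
      omega
    have h4 : 2 * ((P' - 2) * (Q' - 2)) ∣ P' * Q' + 4 := by
      refine Int.natCast_dvd_natCast.1 ?_
      push_cast [Nat.cast_sub (show 2 ≤ P' by omega), Nat.cast_sub (show 2 ≤ Q' by omega)]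
      exact ⟨s, by rw [key, hpq]; linear_combination 4 * hk⟩
    have hQ'P' : P' ≤ Q' := by omega
    rcases small_pairs (by omega) hQ'P' h3 h2 h4 with ⟨rfl, rfl⟩ | ⟨rfl, rfl⟩ | ⟨rfl, rfl⟩
    · left
      norm_num at key
      have hk1 : k = 1 := by omega
      have ha3 : a = 3 := by omega
      subst ha3 hk1
      norm_num at hk
      have hs4 : s = 4 := by omega
      subst hs4
      norm_num [hP] at hnk
      omega
    · right; right
      norm_num at key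
      have hk5 : k = 5 := by omega
      have ha9 : a = 9 := by omega
      subst ha9 hk5
      norm_num at hk
      have hs2 : s = 2 := by omega
      subst hs2
      norm_num [hP] at hnk
      refine ⟨by omega, rfl, by omega⟩
    · right; left
      norm_num at key
      have hk3 : k = 3 := by omega
      have ha5 : a = 5 := by omega
      subst ha5 hk3
      norm_num at hk
      have hs2 : s = 2 := by omega
      subst hs2
      norm_num [hP] at hnk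
      omega

/-- The quotient when `b = 1`. -/
theorem side_one {h w a x : ℕ} {δ : ℤ} (hδ : δ = 1 ∨ δ = -1) (hx : 2 ≤ x) (ha : Odd a)
    (hw : w ∣ a) (E1 : (h : ℤ) * ((x : ℤ) - δ) ^ 2 = 64 * x * ((x : ℤ) + δ))
    (E2 : (w : ℤ) * ((x : ℤ) - δ) = 2 * ((x : ℤ) + δ)) : h = 24 ∨ (h = 120 ∧ 3 ∣ a) := by
  have hwodd : Odd (w : ℤ) := (Int.odd_coe_nat w).2 (ha.of_dvd_nat hw)
  obtain ⟨j, hj⟩ := hwodd
  obtain ⟨s, hs⟩ : ∃ s : ℤ, (x : ℤ) - δ = 4 * s := by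
    have h2 : 2 * j * ((x : ℤ) - δ) + ((x : ℤ) - δ) = 2 * ((x : ℤ) + δ) := by
      rw [← E2, hj]; ring
    obtain ⟨r, hr | hr⟩ := Int.even_or_odd' ((x : ℤ) - δ)
    · obtain ⟨q, hq | hq⟩ := Int.even_or_odd' r
      · exact ⟨q, by omega⟩
      · exfalso
        rw [hr, hq] at h2
        ring_nf at h2
        rcases hδ with rfl | rfl <;> omega
    · exfalso
      rw [hr] at h2
      ring_nf at h2
      omega
  have hx' : (x : ℤ) = 4 * s + δ := by linarith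
  rw [hx'] at E1 E2
  have h1 : (w : ℤ) * s = 2 * s + δ := by linarith
  have hs1 : s = 1 := by
    have hd : s ∣ δ := ⟨(w : ℤ) - 2, by linear_combination -h1⟩
    have : s ∣ 1 := by rcases hδ with rfl | rfl <;> simpa using hd
    have h0 : 0 ≤ s := by rcases hδ with rfl | rfl <;> omega
    exact Int.eq_one_of_dvd_one h0 this
  subst hs1
  rcases hδ with rfl | rfl
  · right
    norm_num at E1 h1
    exact ⟨by omega, by rwa [show w = 3 by omega] at hw⟩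
  · left
    norm_num at E1
    omega

/-- The quotient when `b > 1`. -/
theorem side_big {h w b : ℕ} (E1 : (h : ℤ) * ((3 : ℤ) - -1) ^ 2 =
      64 * (b : ℤ) ^ 3 * 3 * ((3 : ℤ) + -1))
    (E2 : (w : ℤ) * ((3 : ℤ) - -1) = 2 * (b : ℤ) ^ 2 * ((3 : ℤ) + -1)) :
    h = 24 * b ^ 3 ∧ w = b * b := by
  constructor
  · have : (h : ℤ) = ((24 * b ^ 3 : ℕ) : ℤ) := by push_cast; linarith
    exact_mod_cast this
  · have : (w : ℤ) = ((b * b : ℕ) : ℤ) := by push_cast; linarith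
    exact_mod_cast this

/-- The second equation in factored form. -/
theorem factored {N a b x x₂ x₃ : ℕ} {δ δ₂ δ₃ : ℤ} (hδ₂ : δ₂ = 1 ∨ δ₂ = -1)
    (hδ₃ : δ₃ = 1 ∨ δ₃ = -1) (hδ : δ = 1 ∨ δ = -1) (hab : 0 < a * b) (hx : 0 < x)
    (hrel : δ₂ * x₂ + δ₃ * x₃ = -(1 + δ * x))
    (E1 : (N : ℤ) * ((x : ℤ) - δ) ^ 2 =
      64 * a * b * ((a : ℤ) + b) ^ 2 * x * ((x : ℤ) + δ))
    (E2 : (N : ℤ) * ((x * x₂ * x₃ : ℤ) + δ * x₂ * x₃ + δ₂ * x * x₃ + δ₃ * x * x₂) =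
      256 * ((a : ℤ) * b) ^ 2 * (x * x₂ * x₃)) :
    (δ₂ * x₂ - δ₃ * x₃) ^ 2 *
        (((a : ℤ) + b) ^ 2 * ((x : ℤ) + δ) ^ 2 - 4 * a * b * ((x : ℤ) - δ) ^ 2) =
      (((x : ℤ) + δ) * ((x : ℤ) - δ) * ((a : ℤ) - b)) ^ 2 := by
  have hδc : δ * δ = 1 := by rcases hδ with rfl | rfl <;> rfl
  have h2c : δ₂ * δ₂ = 1 := by rcases hδ₂ with rfl | rfl <;> rfl
  have h3c : δ₃ * δ₃ = 1 := by rcases hδ₃ with rfl | rfl <;> rfl
  have e : (N : ℤ) * ((x : ℤ) + δ) * ((δ₂ * x₂) * (δ₃ * x₃) - δ * x) =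
      256 * ((a : ℤ) * b) ^ 2 * x * ((δ₂ * x₂) * (δ₃ * x₃)) := by
    linear_combination (δ₂ * δ₃) * E2 - ((N : ℤ) * x) * hrel -
      ((N : ℤ) * δ₃ * x * x₃) * h2c - ((N : ℤ) * δ₂ * x * x₂) * h3c - ((N : ℤ) * x) * hδc
  have hne : (64 : ℤ) * a * b * x ≠ 0 := by
    have h1 : (0 : ℤ) < (a : ℤ) * b := by exact_mod_cast hab
    have h2 : (0 : ℤ) < x := by exact_mod_cast hx
    nlinarith
  have hPi : ((a : ℤ) + b) ^ 2 * ((x : ℤ) + δ) ^ 2 * ((δ₂ * x₂) * (δ₃ * x₃) - δ * x) =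
      4 * a * b * ((δ₂ * x₂) * (δ₃ * x₃)) * ((x : ℤ) - δ) ^ 2 := by
    refine mul_left_cancel₀ hne ?_
    linear_combination (((x : ℤ) - δ) ^ 2) * e -
      (((x : ℤ) + δ) * ((δ₂ * x₂) * (δ₃ * x₃) - δ * x)) * E1
  linear_combination (-4 : ℤ) * hPi +
    ((δ₂ * x₂ + δ₃ * x₃ - (1 + δ * x)) *
      (((a : ℤ) + b) ^ 2 * ((x : ℤ) + δ) ^ 2 - 4 * a * b * ((x : ℤ) - δ) ^ 2)) * hrel +
    ((((a : ℤ) + b) ^ 2 * ((x : ℤ) + δ) ^ 2 - 4 * a * b * ((x : ℤ) - δ) ^ 2) *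
      ((x : ℤ) ^ 2 - 1)) * hδc

end CfsgLib.Inv54.SigmaArith
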