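import Cfsg.Agent.Inv54.SigmaQuotient
import Cfsg.Agent.Inv54.SigmaArith
import Cfsg.Agent.Inv54.OrderSevenNineTwenty
import Cfsg.Agent.BSW.DihedralEight
import Cfsg.Agent.ClassPairs.Basic
import Cfsg.Agent.GaloisConj.Basic
import Cfsg.Agent.Small.CosetRep
import Cfsg.Agent.Small.OrderTools
import Cfsg.Agent.S0984

/-!
# Simple groups with a dihedral Sylow 2-subgroup of order 8 and `C(σ) = ⟨σ⟩`

Such a group is isomorphic to `A₆`, `A₇` or `L₂(7)`.
-/

set_option autoImplicit false
set_option linter.style.haveILetI false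
set_option linter.unusedSectionVars false

namespace CfsgLib.Inv54.SigmaGroup

open Cfsg CfsgLib.Blocks CfsgLib.PrincipalBlock CfsgLib.Characters CfsgLib.Inv54.DihedralBlock
open scoped ComplexConjugate

universe u

variable {G : Type u} [Group G] [Fintype G] {P : Sylow 2 G} {σ τ : G}

/-- There is no subgroup of index two in a simple group of non-prime order. -/
theorem no_index_two [IsSimpleGroup G] (hG : ¬ IsMulCommutative G) (H : Subgroup G) :
    H.index ≠ 2 := by
  intro h
  haveI : H.Normal := Subgroup.normal_of_index_eq_two h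
  rcases IsSimpleGroup.eq_bot_or_eq_top_of_normal H inferInstance with e | e
  · rw [e, Subgroup.index_bot] at h
    haveI : Fact (Nat.Prime 2) := ⟨Nat.prime_two⟩
    haveI := isCyclic_of_prime_card (α := G) h
    exact hG IsCyclic.commutative
  · rw [e, Subgroup.index_top] at h
    omega

theorem small_fourth : ∀ a : ℕ, a < 246 → 360 * a ^ 4 ∣ 1307674368000 → Odd a →
    a = 1 ∨ a = 3 := by decide +kernel

/-- No simple group of order `29160` has a subgroup of index `15`. -/
theorem index_fifteen_false [IsSimpleGroup G] (hN : Nat.card G = 29160) (H : Subgroup G)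
    (hH : H.index = 15) : False := by
  classical
  haveI : Fact (Nat.Prime 3) := ⟨Nat.prime_three⟩
  have htop : H ≠ ⊤ := fun e => by rw [e, Subgroup.index_top] at hH; omega
  haveI : Nontrivial (G ⧸ H) := Finite.one_lt_card_iff_nontrivial.1 (by
    rw [← Subgroup.index_eq_card, hH]; norm_num)
  haveI := Fintype.ofFinite (G ⧸ H)
  have hmax : IsCoatom H := by
    refine ⟨htop, fun K hK => ?_⟩
    by_contra hne
    have h1 := Subgroup.relIndex_mul_index hK.le
    rw [hH] at h1
    have h2 : H.relIndex K ≠ 1 := fun e =>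
      not_le_of_gt hK (Subgroup.relIndex_eq_one.1 e)
    have h3 : K.index ≠ 1 := fun e => hne (Subgroup.index_eq_one.1 e)
    have h4 := CfsgLib.Small.card_dvd_factorial_index K hne
    rw [hN] at h4
    have hd : K.index ∈ Nat.divisors 15 := Nat.mem_divisors.2 ⟨⟨_, by rw [← h1, mul_comm]⟩, by norm_num⟩
    rw [show Nat.divisors 15 = {1, 3, 5, 15} from by decide +kernel] at hd
    simp only [Finset.mem_insert, Finset.mem_singleton] at hd
    rcases hd with e | e | e | e
    · exact h3 e
    · rw [e] at h4; norm_num [Nat.factorial] at h4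
    · rw [e] at h4; norm_num [Nat.factorial] at h4
    · rw [e] at h1; omega
  haveI hprim : MulAction.IsPreprimitive G (G ⧸ H) := by
    rw [← MulAction.isCoatom_stabilizer_iff_preprimitive G ((1 : G) : G ⧸ H),
      MulAction.stabilizer_quotient]
    exact hmax
  let f : G →* Equiv.Perm (G ⧸ H) := MulAction.toPermHom G (G ⧸ H)
  have hf : Function.Injective f := CfsgLib.Small.toPermHom_coset_injective htop
  have hcard : Nat.card f.range = 29160 := by
    rw [← Nat.card_congr (MonoidHom.ofInjective hf).toEquiv, hN]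
  let ψ : (G ⧸ H) →ₑ[f.rangeRestrict] (G ⧸ H) :=
    { toFun := id
      map_smul' := fun _ _ => rfl }
  have hprim' : MulAction.IsPreprimitive f.range (G ⧸ H) :=
    MulAction.IsPreprimitive.of_surjective (f := ψ) Function.surjective_id
  have hperm : Nat.card (Equiv.Perm (G ⧸ H)) = 1307674368000 := by
    rw [Nat.card_perm, ← Subgroup.index_eq_card, hH]; norm_num [Nat.factorial]
  -- a three cycle in the image
  obtain ⟨x, y, z, hxy, hxz, hyz⟩ : ∃ x y z : G ⧸ H, x ≠ y ∧ x ≠ z ∧ y ≠ z := by
    have h3 : 2 < Fintype.card (G ⧸ H) := by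
      rw [← Nat.card_eq_fintype_card, ← Subgroup.index_eq_card, hH]; norm_num
    exact Fintype.two_lt_card_iff.1 h3
  set c := Equiv.swap x y * Equiv.swap x z with hc
  have hc3 : c.IsThreeCycle := Equiv.Perm.isThreeCycle_swap_mul_swap_same hxy hxz hyz
  obtain ⟨Q, hQ⟩ := (IsPGroup.of_card (p := 3) (n := 1)
    (show Nat.card (Subgroup.zpowers c) = 3 ^ 1 by
      rw [Nat.card_zpowers, hc3.orderOf, pow_one])).exists_le_sylow
  let R : Sylow 3 f.range := default
  have hv1 : (29160 : ℕ).factorization 3 = 6 := by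
    rw [Nat.factorization_def _ (by norm_num)]
    rw [show (29160 : ℕ) = 3 ^ 6 * 40 by norm_num, padicValNat.mul (by norm_num) (by norm_num),
      padicValNat.prime_pow, padicValNat.eq_zero_of_not_dvd (by norm_num)]
  have hv2 : (1307674368000 : ℕ).factorization 3 = 6 := by
    rw [Nat.factorization_def _ (by norm_num)]
    rw [show (1307674368000 : ℕ) = 3 ^ 6 * 1793792000 by norm_num,
      padicValNat.mul (by norm_num) (by norm_num),
      padicValNat.prime_pow, padicValNat.eq_zero_of_not_dvd (by norm_num)]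
  let S₁ : Subgroup (Equiv.Perm (G ⧸ H)) := (R : Subgroup f.range).map f.range.subtype
  have hS₁ : Nat.card S₁ = 3 ^ 6 := by
    rw [Subgroup.card_map_of_injective f.range.subtype_injective, R.card_eq_multiplicity, hcard, hv1]
  let T : Sylow 3 (Equiv.Perm (G ⧸ H)) := Sylow.ofCard S₁ (by rw [hS₁, hperm, hv2])
  obtain ⟨g, hg⟩ := MulAction.exists_smul_eq (Equiv.Perm (G ⧸ H)) Q T
  have hgc : g * c * g⁻¹ ∈ f.range := by
    have h1 : g * c * g⁻¹ ∈ (T : Subgroup (Equiv.Perm (G ⧸ H))) := by
      rw [← hg, Sylow.coe_subgroup_smul]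
      exact Subgroup.mem_map_of_mem _ (hQ (Subgroup.mem_zpowers c))
    exact Subgroup.map_subtype_le _ h1
  have hle := Equiv.Perm.alternatingGroup_le_of_isPreprimitive_of_isThreeCycle_mem hprim'
    (g := g * c * g⁻¹) (by
      rw [Equiv.Perm.IsThreeCycle, Equiv.Perm.cycleType_conj]
      exact hc3) hgc
  have h5 := Subgroup.card_le_of_le hle
  have h6 := two_mul_nat_card_alternatingGroup (α := G ⧸ H)
  rw [hperm] at h6
  rw [hcard] at h5
  omega

namespace Base

variable (B : Base P σ τ)
include B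

theorem card_P8 : Nat.card (P : Subgroup G) = 8 := B.setup.card_P

theorem card_mod : Nat.card G % 16 = 8 := by
  haveI : Fact (Nat.Prime 2) := ⟨Nat.prime_two⟩
  have h := P.not_dvd_index
  have h2 := (P : Subgroup G).card_mul_index
  rw [B.card_P8] at h2
  omega

theorem card_C : Nat.card (Subgroup.centralizer ({σ ^ 2} : Set G)) =
    8 * (Nat.card (B.setup.core ⊓ Subgroup.centralizer ({τ} : Set G) : Subgroup G) *
      Nat.card (B.setup.core ⊓ Subgroup.centralizer ({σ * τ} : Set G) : Subgroup G)) := by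
  let S := B.setup
  rw [S.card_centralizer S.J_ne, S.card_P_centralizer S.J_ne, if_pos S.J_sq,
    inf_eq_left.2 S.core_le, B.card_core]
  ring

/-- `A = B = 1`. -/
theorem classify_trivial [IsSimpleGroup G] (hG : ¬ IsMulCommutative G)
    (ha : Nat.card (B.setup.core ⊓ Subgroup.centralizer ({τ} : Set G) : Subgroup G) = 1)
    (hb : Nat.card (B.setup.core ⊓ Subgroup.centralizer ({σ * τ} : Set G) : Subgroup G) = 1) :
    Nonempty (G ≃* ↥(alternatingGroup (Fin 6))) ∨
      ∃ (F : Type) (_ : Field F) (_ : Fintype F), Fintype.card F = 7 ∧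
        Nonempty (G ≃* Matrix.ProjectiveSpecialLinearGroup (Fin 2) F) := by
  let S := B.setup
  refine (CfsgLib.BSW.dihedral_eight (no_index_two hG) S.J_order ?_ (S.P_le_C S.memσ)
    (S.P_le_C S.memτ) (pow_two σ).symm ?_ S.ordτ S.rel).2.2
  · rw [B.card_C, ha, hb]
  · exact S.ordσ

open Classical in
/-- `A = B` of order at least three. -/
theorem equal_false [IsSimpleGroup G] {a : ℕ} (ha : 1 < a)
    (hA : Nat.card B.fixA = a)
    (hb : Nat.card (B.setup.core ⊓ Subgroup.centralizer ({σ * τ} : Set G) : Subgroup G) = a)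
    (hact : Nat.card B.actA = a * (24 * a ^ 3)) {x : ℕ} {δ : ℤ} (hδ : δ = 1 ∨ δ = -1)
    (hx : 0 < x) (hxδ : (x : ℤ) ≠ δ)
    (E : (Nat.card G : ℤ) * ((x : ℤ) - δ) ^ 2 =
      64 * a * a * ((a : ℤ) + a) ^ 2 * x * ((x : ℤ) + δ)) : False := by
  have haodd : Odd a := by
    rw [← hA]
    exact B.setup.core_odd.of_dvd_nat (Subgroup.card_dvd_of_le inf_le_left)
  have hdvd : 24 * a ^ 4 ∣ Nat.card G := by
    rw [show 24 * a ^ 4 = a * (24 * a ^ 3) by ring, ← hact]
    exact Subgroup.card_subgroup_dvd_card _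
  have hidx := B.actA.card_mul_index
  rw [hact, show a * (24 * a ^ 3) = 24 * a ^ 4 by ring] at hidx
  have hpos : 0 < 24 * a ^ 4 := by positivity
  rcases SigmaArith.equal hδ B.card_mod haodd hx hxδ hdvd E with e | e <;> rw [e] at hidx <;>
    have hi := Nat.eq_of_mul_eq_mul_left hpos hidx
  · have htop : B.actA ≠ ⊤ := fun h => by rw [h, Subgroup.index_top] at hi; omega
    have h1 := CfsgLib.Small.card_dvd_factorial_index _ htop
    rw [e, hi] at h1
    have h2 := Nat.le_of_dvd (Nat.factorial_pos 7) h1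
    have h81 : 81 ≤ a ^ 4 := by
      have : 3 ≤ a := by obtain ⟨j, rfl⟩ := haodd; omega
      calc 81 = 3 ^ 4 := by norm_num
        _ ≤ a ^ 4 := Nat.pow_le_pow_left this 4
    norm_num [Nat.factorial] at h2
    omega
  · have htop : B.actA ≠ ⊤ := fun h => by rw [h, Subgroup.index_top] at hi; omega
    have h1 := CfsgLib.Small.card_dvd_factorial_index _ htop
    have hfac : Nat.factorial 15 = 1307674368000 := by norm_num [Nat.factorial]
    rw [e, hi, show 24 * a ^ 4 * 15 = 360 * a ^ 4 by ring, hfac] at h1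
    have h2 : a < 246 := by
      have h3 := Nat.le_of_dvd (by norm_num) h1
      by_contra hlt
      have := Nat.pow_le_pow_left (show 246 ≤ a by omega) 4
      omega
    obtain rfl : a = 3 := (small_fourth a h2 h1 haodd).resolve_left (by omega)
    exact index_fifteen_false (by rw [e]; norm_num) B.actA hi

/-- The case `|G| = 7560`. -/
theorem false_7560 (hN : Nat.card G = 7560) (hA : Nat.card B.fixA = 5)
    (hact : Nat.card B.actA = 120) : False := by
  classical
  haveI : Fact (Nat.Prime 5) := ⟨by norm_num⟩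
  have hv : (7560 : ℕ).factorization 5 = 1 := by
    rw [Nat.factorization_def _ (by norm_num)]
    rw [show (7560 : ℕ) = 5 * 1512 by norm_num, padicValNat.mul (by norm_num) (by norm_num),
      padicValNat.self (by norm_num), padicValNat.eq_zero_of_not_dvd (by norm_num)]
  let Q : Sylow 5 G := Sylow.ofCard B.fixA (by rw [hA, hN, hv]; norm_num)
  have hQ : (Q : Subgroup G) = B.fixA := rfl
  set Nm := Subgroup.normalizer (B.fixA : Set G) with hNm
  have hle : B.actA ≤ Nm := fun g hg => Subgroup.mem_normalizer_iff.2 fun x =>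
    ⟨fun hx => B.conj_mem_fixA hg hx, fun hx => by
      have := B.conj_mem_fixA (inv_mem hg) hx
      rwa [show g⁻¹ * (g * x * g⁻¹) * g⁻¹⁻¹ = x by group] at this⟩
  have h120 : 120 ∣ Nat.card Nm := hact ▸ Subgroup.card_dvd_of_le hle
  have hn5 := card_sylow_modEq_one 5 G
  rw [Q.card_eq_index_normalizer] at hn5
  have hidx := Nm.card_mul_index
  rw [hN] at hidx
  change (Subgroup.normalizer (B.fixA : Set G)).index ≡ 1 [MOD 5] at hn5
  -- the normaliser modulo the centraliser
  have h480 : Nat.card Nm ∣ 480 := by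
    haveI : IsCyclic B.fixA := isCyclic_of_prime_card hA
    haveI : Finite (MulAut B.fixA) :=
      Finite.of_injective (fun e : MulAut B.fixA => (e : B.fixA → B.fixA)) DFunLike.coe_injective
    let φ : Nm →* MulAut B.fixA := Subgroup.normalizerMonoidHom B.fixA
    have h1 : Nat.card φ.range ∣ 4 := by
      have := Subgroup.card_subgroup_dvd_card φ.range
      rwa [IsCyclic.card_mulAut, hA, Nat.totient_prime (by norm_num)] at this
    have h2 : Nat.card φ.ker ∣ 120 := by
      have h3 : φ.ker.map Nm.subtype ≤ B.actA := by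
        rintro _ ⟨g, hg, rfl⟩
        rw [SetLike.mem_coe, Subgroup.normalizerMonoidHom_ker, Subgroup.mem_subgroupOf] at hg
        exact Or.inl fun x hx => by
          show (g : G) * x * (g : G)⁻¹ = x
          rw [← Subgroup.mem_centralizer_iff.1 hg x hx, mul_inv_cancel_right]
      have h4 := Subgroup.card_dvd_of_le h3
      rwa [Subgroup.card_map_of_injective Nm.subtype_injective, hact] at h4
    have h5 : Nat.card φ.ker * Nat.card φ.range = Nat.card Nm := by
      rw [← Subgroup.index_ker, Subgroup.card_mul_index]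
    rw [← h5]
    exact Nat.mul_dvd_mul h2 h1
  obtain ⟨m, hm⟩ := h120
  rw [hm] at h480 hidx
  have hm4 : m ∣ 4 := Nat.dvd_of_mul_dvd_mul_left (by norm_num : 0 < 120) h480
  have hmle := Nat.le_of_dvd (by norm_num) hm4
  have hmod : Nm.index % 5 = 1 := hn5
  interval_cases m <;> omega

/-- A subgroup of order 25 and a rational character of degree 7. -/
theorem false_37800 [IsSimpleGroup G] (hN : Nat.card G = 37800) (χ : IrrCharacter G)
    (hne : χ ≠ trivChar G) (h7 : Cfsg.charDegree (χ : G → ℂ) = 7)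
    (hrat : ∀ (g : G) (k : ℕ), Nat.Coprime k 37800 → (χ : G → ℂ) (g ^ k) = (χ : G → ℂ) g) :
    False := by
  classical
  haveI : Fact (Nat.Prime 5) := ⟨by norm_num⟩
  have hχ1 : (χ : G → ℂ) 1 = 7 := by rw [← charDegree_cast, h7]; norm_num
  have hint : ∀ (Q : Subgroup G), ∃ m : ℕ, (∑ q : Q, (χ : G → ℂ) q) = Nat.card Q * (m : ℂ) ∧
      ∃ r : ℕ, (∑ q : Q, (χ : G → ℂ) q * conj ((χ : G → ℂ) q)) = Nat.card Q * (r : ℂ) := by
    intro Q
    have hres := Characters.isCharacter_restrict Q (Characters.isCharacter_of_isIrr χ.2)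
    obtain ⟨m, hm⟩ := Characters.classInner_characters hres Characters.isCharacter_one
    obtain ⟨r, hr⟩ := Characters.classInner_characters hres hres
    have hQ0 : (Nat.card Q : ℂ) ≠ 0 := Nat.cast_ne_zero.2 Nat.card_pos.ne'
    simp only [Cfsg.classInner, map_one, mul_one] at hm hr
    exact ⟨m, by rw [← hm, mul_inv_cancel_left₀ hQ0], r, by rw [← hr, mul_inv_cancel_left₀ hQ0]⟩
  -- elements of order five
  have hfive : ∀ g : G, g ^ 5 = 1 → g ≠ 1 → (χ : G → ℂ) g = 2 := by
    intro g hg hg1
    have ho : orderOf g = 5 := orderOf_eq_prime hg hg1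
    obtain ⟨m, hm, -⟩ := hint (Subgroup.zpowers g)
    have hcov : ∀ q : Subgroup.zpowers g, q ≠ 1 → (χ : G → ℂ) q = (χ : G → ℂ) g := by
      rintro ⟨q, hq⟩ hq1
      obtain ⟨i, rfl⟩ := mem_powers_iff_mem_zpowers.2 hq
      have hi : ∃ k : ℕ, Nat.Coprime k 37800 ∧ k % 5 = i % 5 := by
        have hi5 : i % 5 ≠ 0 := fun h => hq1 (Subtype.ext (by
          show g ^ i = 1
          rw [← pow_mod_orderOf, ho, h, pow_zero]))
        have key : ∀ r : Fin 5, (r : ℕ) ≠ 0 → ∃ k : Fin 100, Nat.Coprime k 37800 ∧ (k : ℕ) % 5 = r := by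
          decide +kernel
        obtain ⟨k, hk1, hk2⟩ := key ⟨i % 5, Nat.mod_lt _ (by norm_num)⟩ hi5
        exact ⟨k, hk1, hk2⟩
      obtain ⟨k, hk1, hk2⟩ := hi
      show (χ : G → ℂ) (g ^ i) = _
      rw [← pow_mod_orderOf, ho, ← hk2, ← hrat g k hk1, ← pow_mod_orderOf g k, ho]
    rw [← Finset.add_sum_erase _ _ (Finset.mem_univ (1 : Subgroup.zpowers g)),
      Finset.sum_congr rfl fun q hq => hcov q (Finset.mem_erase.1 hq).1, Finset.sum_const,
      Finset.card_erase_of_mem (Finset.mem_univ _), Finset.card_univ, ← Nat.card_eq_fintype_card,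
      Nat.card_zpowers, ho, OneMemClass.coe_one, hχ1, nsmul_eq_mul] at hm
    push_cast at hm
    obtain ⟨c, hc⟩ := PRational.exists_int_of_isIntegral_of_mul
      (Characters.character_isIntegral (Characters.isCharacter_of_isIrr χ.2) g) (b := 4)
      (a := 5 * (m : ℤ) - 7) (by norm_num) (by push_cast; linear_combination hm)
    rw [hc] at hm ⊢
    have hm' : (7 : ℤ) + 4 * c = 5 * m := (Int.cast_inj (α := ℂ)).1 (by
      push_cast; linear_combination hm)
    have hb : |c| ≤ 7 := by
      obtain ⟨n, ρ, hρ, he⟩ := χ.2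
      have h1 := Characters.norm_char_le ρ g
      rw [he, hc, Complex.norm_intCast] at h1
      have h2 : (Module.finrank ℂ (Fin n → ℂ) : ℕ) = 7 := by
        rw [← h7, Cfsg.charDegree, ← he, Representation.char_one]; simp
      rw [h2] at h1
      exact_mod_cast h1
    have hc7 : c ≠ 7 := fun e => hne (Subtype.ext ((Order7920.eq_one_of_kernel χ hg1 (by
      rw [hc, hχ1, e]; norm_num)).trans (funext fun g => (trivChar_apply g).symm)))
    have : c = 2 := by
      have := abs_le.1 hb
      omega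
    rw [this]; norm_num
  -- the Sylow subgroup
  let Q : Sylow 5 G := default
  have hv : (37800 : ℕ).factorization 5 = 2 := by
    rw [Nat.factorization_def _ (by norm_num)]
    rw [show (37800 : ℕ) = 5 ^ 2 * 1512 by norm_num, padicValNat.mul (by norm_num) (by norm_num),
      padicValNat.prime_pow, padicValNat.eq_zero_of_not_dvd (by norm_num)]
  have hQ : Nat.card (Q : Subgroup G) = 25 := by
    rw [Q.card_eq_multiplicity, hN, hv]; norm_num
  obtain ⟨-, -, r, hr⟩ := hint (Q : Subgroup G)
  rw [hQ] at hr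
  by_cases hcyc : ∃ g ∈ (Q : Subgroup G), g ^ 5 ≠ 1
  · obtain ⟨g, hgQ, hg5⟩ := hcyc
    have hg25 : orderOf g = 25 := by
      have h1 : orderOf g ∣ 5 ^ 2 := by
        have := Subgroup.orderOf_dvd_natCard _ hgQ
        rwa [hQ] at this
      obtain ⟨i, hi, e⟩ := (Nat.dvd_prime_pow (by norm_num)).1 h1
      interval_cases i
      · rw [pow_zero, orderOf_eq_one_iff] at e
        exact absurd (by rw [e, one_pow]) hg5
      · exact absurd (orderOf_dvd_iff_pow_eq_one.1 (by rw [e]; norm_num)) hg5
      · rw [e]; norm_num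
    have heq : Subgroup.zpowers g = (Q : Subgroup G) := Subgroup.eq_of_le_of_card_ge
      (Subgroup.zpowers_le.2 hgQ) (by rw [hQ, Nat.card_zpowers, hg25])
    have hcov : ∀ q : (Q : Subgroup G), (q : G) ^ 5 ≠ 1 → (χ : G → ℂ) q = (χ : G → ℂ) g := by
      rintro ⟨q, hq⟩ hq5
      rw [← heq] at hq
      obtain ⟨i, rfl⟩ := mem_powers_iff_mem_zpowers.2 hq
      have hi5 : i % 25 % 5 ≠ 0 := fun h => hq5 (by
        show (g ^ i) ^ 5 = 1
        rw [← pow_mul, ← orderOf_dvd_iff_pow_eq_one, hg25]
        omega)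
      have key : ∀ r : Fin 25, (r : ℕ) % 5 ≠ 0 →
          ∃ k : Fin 300, Nat.Coprime k 37800 ∧ (k : ℕ) % 25 = r := by decide +kernel
      obtain ⟨k, hk1, hk2⟩ := key ⟨i % 25, Nat.mod_lt _ (by norm_num)⟩ hi5
      show (χ : G → ℂ) (g ^ i) = _
      simp only at hk2
      rw [← pow_mod_orderOf, hg25, ← hk2, ← hrat g k hk1, ← pow_mod_orderOf g k, hg25]
    have hsplit : ∀ F : G → ℂ, (∀ q : (Q : Subgroup G), (q : G) ^ 5 ≠ 1 → F q = F g) →
        (∀ q : (Q : Subgroup G), (q : G) ^ 5 = 1 → (q : G) ≠ 1 → F q = F (g ^ 5)) →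
        ∑ q : (Q : Subgroup G), F q = F 1 + 4 * F (g ^ 5) + 20 * F g := by
      intro F h1 h2
      let e : Fin (orderOf g) ≃ (Q : Subgroup G) :=
        (finEquivZPowers (isOfFinOrder_of_finite g)).trans (Equiv.setCongr (by rw [heq]))
      have he : ∀ i, ((e i : (Q : Subgroup G)) : G) = g ^ (i : ℕ) := fun i => rfl
      rw [← e.sum_comp, ← (finCongr hg25.symm).sum_comp]
      have hv : ∀ i : Fin 25, F ((e (finCongr hg25.symm i) : (Q : Subgroup G)) : G) =
          if (i : ℕ) = 0 then F 1 else if (i : ℕ) % 5 = 0 then F (g ^ 5) else F g := by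
        intro i
        set q := e (finCongr hg25.symm i) with hq
        have hqg : (q : G) = g ^ (i : ℕ) := he _
        have hiff : (q : G) ^ 5 = 1 ↔ (i : ℕ) % 5 = 0 := by
          rw [hqg, ← pow_mul, ← orderOf_dvd_iff_pow_eq_one, hg25]; omega
        split_ifs with i0 i5
        · rw [hqg, i0, pow_zero]
        · refine h2 q (hiff.2 i5) ?_
          rw [hqg, ne_eq, ← orderOf_dvd_iff_pow_eq_one, hg25]
          omega
        · exact h1 q (fun h => i5 (hiff.1 h))
      rw [Finset.sum_congr rfl fun i _ => hv i]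
      simp [Fin.sum_univ_succ]
      ring
    have hg5five : (χ : G → ℂ) (g ^ 5) = 2 :=
      hfive _ (by rw [← pow_mul, ← orderOf_dvd_iff_pow_eq_one, hg25]) hg5
    have h2five : ∀ q : (Q : Subgroup G), (q : G) ^ 5 = 1 → (q : G) ≠ 1 →
        (χ : G → ℂ) q = (χ : G → ℂ) (g ^ 5) := fun q h h' => by rw [hfive _ h h', hg5five]
    obtain ⟨m, hm, -⟩ := hint (Q : Subgroup G)
    rw [hQ, hsplit _ hcov h2five, hg5five, hχ1] at hm
    rw [hsplit (fun z => (χ : G → ℂ) z * conj ((χ : G → ℂ) z))
      (fun q h => by simp only [hcov q h]) (fun q h h' => by simp only [h2five q h h']),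
      hg5five, hχ1] at hr
    push_cast at hm hr
    obtain ⟨d, hd⟩ := PRational.exists_int_of_isIntegral_of_mul
      (Characters.character_isIntegral (Characters.isCharacter_of_isIrr χ.2) g) (b := 20)
      (a := 25 * (m : ℤ) - 15) (by norm_num) (by push_cast; linear_combination hm)
    rw [hd] at hr
    have hr' : (65 : ℤ) + 20 * (d * d) = 25 * r := by
      have : (((65 : ℤ) + 20 * (d * d) : ℤ) : ℂ) = ((25 * r : ℤ) : ℂ) := by
        push_cast
        simp only [map_ofNat, map_intCast] at hr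
        linear_combination hr
      exact_mod_cast this
    obtain ⟨j, hj⟩ : ∃ j, d = 5 * j + d % 5 := ⟨d / 5, (Int.mul_ediv_add_emod d 5).symm⟩
    have h0 := Int.emod_nonneg d (by norm_num : (5 : ℤ) ≠ 0)
    have h5 := Int.emod_lt_of_pos d (by norm_num : (0 : ℤ) < 5)
    generalize d % 5 = e at hj h0 h5
    subst hj
    interval_cases e <;> ring_nf at hr' <;> omega
  · push Not at hcyc
    have hsum : ∑ q : (Q : Subgroup G), (χ : G → ℂ) q * conj ((χ : G → ℂ) q) = 145 := by
      rw [← Finset.add_sum_erase _ _ (Finset.mem_univ (1 : (Q : Subgroup G))),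
        Finset.sum_congr rfl fun q hq => by
          rw [hfive _ (hcyc q q.2) fun e => (Finset.mem_erase.1 hq).1 (Subtype.ext e)],
        Finset.sum_const, Finset.card_erase_of_mem (Finset.mem_univ _), Finset.card_univ,
        ← Nat.card_eq_fintype_card, hQ, OneMemClass.coe_one, hχ1, map_ofNat, map_ofNat]
      norm_num
    rw [hsum] at hr
    have : (145 : ℕ) = 25 * r := by exact_mod_cast hr
    omega

/-- `B = 1 < A`. -/
theorem classify_one [IsSimpleGroup G]
    (ha : 1 < Nat.card B.fixA)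
    (hb : Nat.card (B.setup.core ⊓ Subgroup.centralizer ({σ * τ} : Set G) : Subgroup G) = 1) :
    Nonempty (G ≃* ↥(alternatingGroup (Fin 7))) := by
  classical
  obtain ⟨M, hM⟩ := exists_isPModular 2 Nat.prime_two
  haveI : M.IsPrime := IsPModular.isPrime hM
  obtain ⟨X, A', B', x, x₂, x₃, δ, δ₂, δ₃, hδ, hδ₂, hδ₃, hX, hA', hB', hxδ, hXne, hAne, hBne,
    hXσ, hrel, E1, E2, hfour⟩ := B.equations hM
  obtain ⟨h, w, y, ε, hact, hε, hy, hw, S1, S2, -⟩ := B.side M hM ha
  set a := Nat.card B.fixA with hadef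
  rw [show Nat.card (B.setup.core ⊓ Subgroup.centralizer ({τ} : Set G) : Subgroup G) = a from rfl,
    hb] at E1 E2
  rw [hb] at S1 S2
  have haodd : Odd a := B.setup.core_odd.of_dvd_nat (Subgroup.card_dvd_of_le inf_le_left)
  have hK : Nat.card B.setup.core = a := by rw [B.card_core, hb, mul_one]; rfl
  rw [hK] at hw
  have hh := SigmaArith.side_one (h := h) hε hy haodd hw (by push_cast at S1; linarith)
    (by push_cast at S2; linarith)
  have hx0 : 0 < x := hX ▸ Nat.pos_of_ne_zero (charDegree_ne_zero X)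
  have hdvd : a ∣ Nat.card G := Subgroup.card_subgroup_dvd_card _
  have hfac := SigmaArith.factored hδ₂ hδ₃ hδ (by omega) hx0 hrel E1 E2
  rcases SigmaArith.one hδ B.card_mod haodd ha hx0 hxδ hdvd (δ₂ * x₂ - δ₃ * x₃)
      (by push_cast at E1; linarith) (by push_cast at hfac; linarith) with
    ⟨hN, -⟩ | ⟨hN, ha5⟩ | ⟨hN, ha9, hx7⟩
  · exact Cfsg.Agent.S0984.result hN
  · exfalso
    have h24 : h = 24 := hh.resolve_right fun h' => by omega
    rw [h24, ha5] at hact
    exact B.false_7560 hN ha5 hact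
  · exfalso
    rw [hN, ha9, hx7] at E1
    obtain rfl : δ = -1 := hδ.resolve_left fun e => by subst e; norm_num at E1
    rw [hx7] at hrel hX
    refine B.false_37800 hN X hXne hX fun g k hk => ?_
    have hirr := GaloisConj.isIrrCharacter_pow X.2 (k := k) (by rw [hN]; exact hk)
    set χ' : IrrCharacter G := ⟨fun g => (X : G → ℂ) (g ^ k), hirr⟩ with hχ'
    suffices hXX : χ' = X by
      exact congrFun (congrArg Subtype.val hXX) g
    have hkodd : k % 2 = 1 := by
      have := Nat.Coprime.coprime_dvd_right (show 2 ∣ 37800 by norm_num) hk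
      exact Nat.odd_iff.1 (Nat.coprime_two_right.1 this)
    have hval : (χ' : G → ℂ) σ = -1 := by
      show (X : G → ℂ) (σ ^ k) = -1
      have hconj : IsConj σ (σ ^ k) := by
        rw [← pow_mod_orderOf, B.setup.ordσ]
        obtain e | e : k % (2 * 2) = 1 ∨ k % (2 * 2) = 3 := by omega
        · rw [e, pow_one]
        · rw [e, show σ ^ 3 = σ⁻¹ from
            eq_inv_of_mul_eq_one_left (by rw [← pow_succ, B.σ4])]
          have := B.setup.isConj_inv 1
          rwa [pow_one] at this
      rw [← Characters.classFunction_isConj (Characters.isClassFunction_of_isIrr X.2) hconj, hXσ]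
      norm_num
    have hdeg : Cfsg.charDegree (χ' : G → ℂ) = 7 := by
      rw [← hX, Cfsg.charDegree, Cfsg.charDegree, hχ']
      simp only [one_pow]
    have hlin : ∀ χ : IrrCharacter G, χ ≠ trivChar G → Cfsg.charDegree (χ : G → ℂ) ≠ 1 := by
      intro χ hχ h1
      obtain ⟨f, hf⟩ := Characters.exists_hom_of_degree_one (Characters.isCharacter_of_isIrr χ.2)
        (by rw [← charDegree_cast, h1, Nat.cast_one])
      rcases IsSimpleGroup.eq_bot_or_eq_top_of_normal f.ker inferInstance with e | e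
      · exact CfsgLib.Small.not_comm_of_card hN (by norm_num) ⟨⟨fun a b =>
          (MonoidHom.ker_eq_bot_iff f).1 e (by rw [map_mul, map_mul, mul_comm])⟩⟩
      · exact hχ (Subtype.ext (funext fun g => by
          rw [trivChar_apply]
          simp [hf, MonoidHom.mem_ker.1 (e ▸ Subgroup.mem_top g : g ∈ f.ker)]))
    have h13 : ∀ χ : IrrCharacter G, Cfsg.charDegree (χ : G → ℂ) ≠ 13 := by
      intro χ h
      obtain ⟨n, -, -, hn, hd⟩ := ClassPairs.exists_irr_degree χ
      rw [← hn, h, hN] at hd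
      omega
    rcases hfour χ' (by rw [hval]; norm_num) with e | e | e | e
    · rw [e, Cfsg.charDegree, trivChar_apply] at hdeg
      simp at hdeg
    · exact e
    · exfalso
      rw [e, hA'] at hdeg
      have h1 := hlin B' hBne
      have h2 := h13 B'
      rw [hB'] at h1 h2
      rcases hδ₂ with rfl | rfl <;> rcases hδ₃ with rfl | rfl <;> omega
    · exfalso
      rw [e, hB'] at hdeg
      have h1 := hlin A' hAne
      have h2 := h13 A'
      rw [hA'] at h1 h2
      rcases hδ₂ with rfl | rfl <;> rcases hδ₃ with rfl | rfl <;> omega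

/-- The classification. -/
theorem classify [IsSimpleGroup G] (hG : ¬ IsMulCommutative G) :
    Nonempty (G ≃* ↥(alternatingGroup (Fin 6))) ∨ Nonempty (G ≃* ↥(alternatingGroup (Fin 7))) ∨
      ∃ (F : Type) (_ : Field F) (_ : Fintype F), Fintype.card F = 7 ∧
        Nonempty (G ≃* Matrix.ProjectiveSpecialLinearGroup (Fin 2) F) := by
  classical
  let S := B.setup
  set a := Nat.card (S.core ⊓ Subgroup.centralizer ({τ} : Set G) : Subgroup G) with ha
  set b := Nat.card (S.core ⊓ Subgroup.centralizer ({σ * τ} : Set G) : Subgroup G) with hb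
  have hsa : Nat.card B.swap.fixA = b := by
    rw [hb]; unfold fixA; rw [B.swap_A_eq]
  have hsb : Nat.card (B.swap.setup.core ⊓ Subgroup.centralizer ({σ * (σ * τ)} : Set G) :
      Subgroup G) = a := by rw [B.swap_B_eq]
  obtain h1 | h1 : a = 1 ∨ 1 < a := by have : 0 < a := Nat.card_pos; omega
  · obtain h2 | h2 : b = 1 ∨ 1 < b := by have : 0 < b := Nat.card_pos; omega
    · rcases B.classify_trivial hG h1 h2 with h | h
      exacts [Or.inl h, Or.inr (Or.inr h)]
    · exact Or.inr (Or.inl (B.swap.classify_one (by rw [hsa]; exact h2) (by rw [hsb, h1])))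
  · obtain h2 | h2 : b = 1 ∨ 1 < b := by have : 0 < b := Nat.card_pos; omega
    · exact Or.inr (Or.inl (B.classify_one h1 h2))
    exfalso
    obtain ⟨M, hM⟩ := exists_isPModular 2 Nat.prime_two
    haveI : M.IsPrime := IsPModular.isPrime hM
    obtain ⟨X, A', B', x, x₂, x₃, δ, δ₂, δ₃, hδ, -, -, hX, -, -, hxδ, -, -, -, -, -, E1, -, -⟩ :=
      B.equations hM
    obtain ⟨h, w, y, ε, hact, hε, hy, hw, S1, S2, hbig⟩ := B.side M hM h1
    obtain ⟨h', w', y', ε', hact', hε', hy', hw', S1', S2', hbig'⟩ := B.swap.side M hM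
      (by rw [hsa]; exact h2)
    obtain ⟨rfl, rfl⟩ := hbig (by rw [← hb]; exact h2)
    obtain ⟨rfl, rfl⟩ := hbig' (by rw [hsb]; exact h1)
    rw [← hb] at S1 S2
    rw [hsb] at S1' S2'
    obtain ⟨hh, hwb⟩ := SigmaArith.side_big (b := b) S1 S2
    obtain ⟨-, hwa⟩ := SigmaArith.side_big (b := a) S1' S2'
    rw [hwb, B.card_core, ← ha, ← hb] at hw
    rw [hwa, B.swap.card_core] at hw'
    rw [show Nat.card (B.swap.setup.core ⊓ Subgroup.centralizer ({σ * τ} : Set G) : Subgroup G) = b
      from hsa, hsb] at hw'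
    have hba : b ∣ a := Nat.dvd_of_mul_dvd_mul_right (by omega) hw
    have hab : a ∣ b := Nat.dvd_of_mul_dvd_mul_right (by omega) hw'
    have e : b = a := Nat.dvd_antisymm hba hab
    refine B.equal_false (a := a) h1 rfl (hb.symm.trans e) ?_ hδ
      (hX ▸ Nat.pos_of_ne_zero (charDegree_ne_zero X)) hxδ ?_
    · rw [hact, hh, e]; rfl
    · rw [← ha, ← hb, e] at E1
      exact E1

end Base

end CfsgLib.Inv54.SigmaGroup
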