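import Cfsg.Agent.Inv54.DihedralOrder

/-!
# A dihedral Sylow 2-subgroup of order 8, one class of involutions and `C(σ) = ⟨σ⟩`

The core `K` of `C(σ ^ 2)` is the product of `A = C_K(τ)` and `B = C_K(σ τ)`; the principal block
gives `|G| (x - δ) ^ 2 = 64 a b (a + b) ^ 2 x (x + δ)` and a second equation from the pairs of
involutions with product in `σ K`.
-/

set_option autoImplicit false
set_option linter.style.haveILetI false
set_option linter.unusedSectionVars false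

namespace CfsgLib.Inv54.SigmaGroup

open Cfsg CfsgLib.Blocks CfsgLib.PrincipalBlock CfsgLib.Characters CfsgLib.Inv54.DihedralBlock
open scoped ComplexConjugate

universe u

variable {G : Type u} [Group G] [Fintype G] {P : Sylow 2 G} {σ τ : G}

/-- The configuration. -/
structure Base (P : Sylow 2 G) (σ τ : G) : Prop where
  setup : Setup P σ τ 2
  cent : Subgroup.centralizer ({σ} : Set G) ≤ Subgroup.zpowers σ
  conjτ : IsConj (σ ^ 2) τ
  conjστ : IsConj (σ ^ 2) (σ * τ)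

theorem four_cases : ∀ i : ZMod (2 * 2), i = 0 ∨ i = 1 ∨ i = 2 ∨ i = 3 := by decide

namespace Base

variable (B : Base P σ τ)
include B

theorem ττ : τ * τ = 1 := Small.mul_self_of_orderOf_two B.setup.ordτ

theorem σ4 : σ ^ 4 = 1 := B.setup.pow_eq_one.2 dvd_rfl

theorem tau_sigma : τ * σ = σ⁻¹ * τ := by
  have h := B.setup.rel
  rw [mul_inv_eq_iff_eq_mul] at h
  exact h

theorem tau_sigma_inv : τ * σ⁻¹ = σ * τ := by
  have h := congrArg (fun z => σ * z * σ⁻¹) B.tau_sigma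
  simp only [mul_assoc, mul_inv_cancel, mul_one, mul_inv_cancel_left] at h
  exact h.symm

theorem u_mem : σ * τ ∈ (P : Subgroup G) := mul_mem B.setup.memσ B.setup.memτ

theorem u_sq : σ * τ * (σ * τ) = 1 := by
  rw [mul_assoc, ← mul_assoc τ, B.tau_sigma, mul_assoc σ⁻¹, B.ττ, mul_one, mul_inv_cancel]

theorem u_order : orderOf (σ * τ) = 2 := by
  refine Small.orderOf_eq_two_iff_sq.2 ⟨fun e => B.setup.notMem ?_, B.u_sq⟩
  rw [eq_inv_of_mul_eq_one_right e]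
  exact inv_mem (Subgroup.mem_zpowers σ)

theorem sigma_tau_conj : σ * τ * σ⁻¹ = τ * σ ^ 2 := by
  rw [mul_assoc, B.tau_sigma_inv, ← mul_assoc, ← pow_two]
  exact (B.setup.J_central B.setup.memτ).symm

theorem sigma_u_conj : σ * (σ * τ) * σ⁻¹ = σ * τ * σ ^ 2 := by
  rw [mul_assoc, mul_assoc, B.tau_sigma_inv, ← mul_assoc σ, ← pow_two]
  exact (B.setup.J_central B.u_mem).symm

theorem core_t {k : G} (hk : k ∈ B.setup.core) : σ ^ 2 * k = k * σ ^ 2 :=
  (Subgroup.mem_centralizer_singleton_iff.1 (B.setup.core_le hk)).symm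

theorem invert_σ {k : G} (hk : k ∈ B.setup.core) : σ * k * σ⁻¹ = k⁻¹ := by
  let S := B.setup
  have hσC := S.P_le_C S.memσ
  let c : S.core → S.core := fun k => ⟨σ * k * σ⁻¹, S.core_conj hσC k.2⟩
  let f : S.core → S.core := fun k => k⁻¹ * c k
  have hf : Function.Bijective f := by
    refine Finite.injective_iff_bijective.1 fun a b e => ?_
    have e' : (a : G)⁻¹ * (σ * a * σ⁻¹) = (b : G)⁻¹ * (σ * b * σ⁻¹) := congrArg Subtype.val e
    have h1 : (b : G) * (a : G)⁻¹ ∈ Subgroup.centralizer ({σ} : Set G) := by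
      rw [Subgroup.mem_centralizer_singleton_iff]
      calc (b : G) * (a : G)⁻¹ * σ = b * ((a : G)⁻¹ * (σ * a * σ⁻¹)) * σ * (a : G)⁻¹ := by group
        _ = σ * ((b : G) * (a : G)⁻¹) := by rw [e']; group
    have h2 : (b : G) * (a : G)⁻¹ ∈ (P : Subgroup G) :=
      (Subgroup.zpowers_le.2 S.memσ) (B.cent h1)
    exact Subtype.ext (mul_inv_eq_one.1 (S.core_inf (mul_mem b.2 (inv_mem a.2)) h2)).symm
  obtain ⟨a, ha⟩ := hf.2 ⟨k, hk⟩
  have hk' : k = (a : G)⁻¹ * (σ * a * σ⁻¹) := (congrArg Subtype.val ha).symm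
  have ht := B.core_t a.2
  rw [hk']
  calc σ * ((a : G)⁻¹ * (σ * a * σ⁻¹)) * σ⁻¹
      = σ * (a : G)⁻¹ * σ⁻¹ * (σ ^ 2 * a) * σ⁻¹ * σ⁻¹ := by rw [pow_two]; group
    _ = ((a : G)⁻¹ * (σ * a * σ⁻¹))⁻¹ := by rw [ht, pow_two]; group

theorem core_comm {a b : G} (ha : a ∈ B.setup.core) (hb : b ∈ B.setup.core) : a * b = b * a := by
  have h := B.invert_σ (mul_mem (inv_mem ha) (inv_mem hb))
  rw [show σ * (a⁻¹ * b⁻¹) * σ⁻¹ = (σ * a⁻¹ * σ⁻¹) * (σ * b⁻¹ * σ⁻¹) by group,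
    B.invert_σ (inv_mem ha), B.invert_σ (inv_mem hb), inv_inv, inv_inv, mul_inv_rev, inv_inv,
    inv_inv] at h
  exact h

theorem mem_core {c : G} (hc : c ∈ Subgroup.centralizer ({σ ^ 2} : Set G))
    (ho : Odd (orderOf c)) : c ∈ B.setup.core := by
  let S := B.setup
  obtain ⟨hp, hk⟩ := S.pr_spec hc
  have hpow : ∀ i : ℕ, S.pr (c ^ i) = S.pr c ^ i := fun i => by
    induction i with
    | zero => rw [pow_zero, pow_zero, S.pr_of_core S.core.one_mem]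
    | succ i ih => rw [pow_succ, S.pr_mul (pow_mem hc i) hc, ih, pow_succ]
  have h1 : S.pr c = 1 := by
    haveI : Fact (Nat.Prime 2) := ⟨Nat.prime_two⟩
    obtain ⟨j, hj⟩ := P.isPGroup'.exists_card_eq
    refine orderOf_eq_one_iff.1 (Nat.eq_one_of_dvd_coprimes
      ((Nat.coprime_two_right.2 ho).pow_right j) (orderOf_dvd_of_pow_eq_one ?_)
      (hj ▸ Subgroup.orderOf_dvd_natCard _ hp))
    rw [← hpow, pow_orderOf_eq_one, S.pr_of_core S.core.one_mem]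
  rwa [h1, inv_one, mul_one] at hk

theorem odd_orderOf_core {k : G} (hk : k ∈ B.setup.core) : Odd (orderOf k) :=
  B.setup.core_odd.of_dvd_nat (B.setup.core.orderOf_dvd_natCard hk)

theorem closure_pair : Subgroup.closure ({σ, σ * τ} : Set G) = (P : Subgroup G) := by
  refine le_antisymm ((Subgroup.closure_le _).2 ?_) fun x hx => ?_
  · rintro x (rfl | rfl)
    exacts [B.setup.memσ, B.u_mem]
  · have hσ : σ ∈ Subgroup.closure ({σ, σ * τ} : Set G) := Subgroup.subset_closure (by simp)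
    have hτ : τ ∈ Subgroup.closure ({σ, σ * τ} : Set G) := by
      have h2 : σ * τ ∈ Subgroup.closure ({σ, σ * τ} : Set G) := Subgroup.subset_closure (by simp)
      have := mul_mem (inv_mem hσ) h2
      rwa [inv_mul_cancel_left] at this
    obtain ⟨i, rfl | rfl⟩ := B.setup.elems x hx
    exacts [pow_mem hσ i, mul_mem hτ (pow_mem hσ i)]

/-- The configuration with the other reflection. -/
theorem swap : Base P σ (σ * τ) where
  setup := setup_of_generators P le_rfl ⟨1, rfl⟩ B.setup.ordσ B.u_order (by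
    rw [mul_inv_rev, show σ * τ * σ * (τ⁻¹ * σ⁻¹) = σ * (τ * σ * τ⁻¹) * σ⁻¹ by group, B.setup.rel]
    group) B.closure_pair
  cent := B.cent
  conjτ := B.conjστ
  conjστ := B.conjτ.trans (isConj_iff.2 ⟨σ, by rw [mul_assoc σ τ, B.tau_sigma_inv]⟩)

theorem mem_core_swap {k : G} : k ∈ B.swap.setup.core ↔ k ∈ B.setup.core :=
  ⟨fun h => B.mem_core (B.swap.setup.core_le h) (B.swap.odd_orderOf_core h),
    fun h => B.swap.mem_core (B.setup.core_le h) (B.odd_orderOf_core h)⟩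

theorem conj_core {k : G} (hk : k ∈ B.setup.core) {p : G} (hp : p ∈ (P : Subgroup G)) :
    p * k * p⁻¹ ∈ B.setup.core := B.setup.core_conj (B.setup.P_le_C hp) hk

theorem commute_t_core {k ρ : G} (hk : k ∈ B.setup.core) (hρ : k * ρ = ρ * k) :
    k * (ρ * σ ^ 2) = ρ * σ ^ 2 * k := by
  rw [← mul_assoc, hρ, mul_assoc, ← B.core_t hk, ← mul_assoc]

theorem inf_centralizer_mul_t (ρ : G) :
    B.setup.core ⊓ Subgroup.centralizer ({ρ * σ ^ 2} : Set G) =
      B.setup.core ⊓ Subgroup.centralizer ({ρ} : Set G) := by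
  ext k
  simp only [Subgroup.mem_inf, Subgroup.mem_centralizer_singleton_iff]
  refine and_congr_right fun hk => ⟨fun h => ?_, fun h => B.commute_t_core hk h⟩
  rw [← mul_assoc, mul_assoc ρ, B.core_t hk, ← mul_assoc] at h
  exact mul_right_cancel h

theorem swap_A_eq : B.swap.setup.core ⊓ Subgroup.centralizer ({σ * τ} : Set G) =
    B.setup.core ⊓ Subgroup.centralizer ({σ * τ} : Set G) := by
  ext k
  simp only [Subgroup.mem_inf, B.mem_core_swap]

theorem swap_B_eq : B.swap.setup.core ⊓ Subgroup.centralizer ({σ * (σ * τ)} : Set G) =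
    B.setup.core ⊓ Subgroup.centralizer ({τ} : Set G) := by
  rw [show σ * (σ * τ) = τ * σ ^ 2 by
    rw [← mul_assoc, ← pow_two]; exact (B.setup.J_central B.setup.memτ).symm,
    ← B.inf_centralizer_mul_t τ]
  ext k
  simp only [Subgroup.mem_inf, B.mem_core_swap]

theorem eq_one_of_both {k : G} (hk : k ∈ B.setup.core) (h1 : k * τ = τ * k)
    (h2 : k * (σ * τ) = σ * τ * k) : k = 1 := by
  have h3 : k ∈ Subgroup.centralizer ({σ} : Set G) := by
    rw [Subgroup.mem_centralizer_singleton_iff]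
    apply mul_right_cancel (b := τ)
    rw [mul_assoc, h2, mul_assoc, mul_assoc σ k, h1]
  exact B.setup.core_inf hk (Subgroup.zpowers_le.2 B.setup.memσ (B.cent h3))

/-- `|K| = a b`. -/
theorem card_core : Nat.card B.setup.core =
    Nat.card (B.setup.core ⊓ Subgroup.centralizer ({τ} : Set G) : Subgroup G) *
      Nat.card (B.setup.core ⊓ Subgroup.centralizer ({σ * τ} : Set G) : Subgroup G) := by
  let S := B.setup
  rw [← Nat.card_prod]
  refine (Nat.card_congr (Equiv.ofBijective (fun x : (S.core ⊓ Subgroup.centralizer ({τ} : Set G) :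
    Subgroup G) × (S.core ⊓ Subgroup.centralizer ({σ * τ} : Set G) : Subgroup G) =>
    (⟨(x.1 : G) * x.2, mul_mem x.1.2.1 x.2.2.1⟩ : S.core)) ⟨?_, ?_⟩)).symm
  · rintro ⟨⟨a, ha⟩, ⟨b, hb⟩⟩ ⟨⟨a', ha'⟩, ⟨b', hb'⟩⟩ e
    have e' : a * b = a' * b' := congrArg Subtype.val e
    have h1 : a'⁻¹ * a = b' * b⁻¹ := by
      calc a'⁻¹ * a = a'⁻¹ * (a * b) * b⁻¹ := by group
        _ = b' * b⁻¹ := by rw [e']; group
    have hA := mul_mem (inv_mem ha') ha
    have hB : a'⁻¹ * a ∈ S.core ⊓ Subgroup.centralizer ({σ * τ} : Set G) :=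
      h1 ▸ mul_mem hb' (inv_mem hb)
    have h2 := B.eq_one_of_both hA.1 (Subgroup.mem_centralizer_singleton_iff.1 hA.2)
      (Subgroup.mem_centralizer_singleton_iff.1 hB.2)
    have h3 : a' = a := inv_mul_eq_one.1 h2
    subst h3
    exact Prod.ext rfl (Subtype.ext (mul_left_cancel e'))
  · rintro ⟨k, hk⟩
    obtain ⟨j, hj⟩ := B.odd_orderOf_core hk
    have hk' : k = (k ^ (j + 1)) * k ^ (j + 1) := by
      rw [← pow_add, show j + 1 + (j + 1) = 2 * j + 1 + 1 by ring, pow_succ, ← hj,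
        pow_orderOf_eq_one, one_mul]
    set m := k ^ (j + 1) with hm
    have hmK : m ∈ S.core := pow_mem hk _
    have hτm : τ * m * τ⁻¹ ∈ S.core := B.conj_core hmK S.memτ
    have hum : σ * τ * m * (σ * τ)⁻¹ = (τ * m * τ⁻¹)⁻¹ := by
      rw [show σ * τ * m * (σ * τ)⁻¹ = σ * (τ * m * τ⁻¹) * σ⁻¹ by group, B.invert_σ hτm]
    have hτi : τ⁻¹ = τ := inv_eq_of_mul_eq_one_right B.ττ
    have hui : (σ * τ)⁻¹ = σ * τ := inv_eq_of_mul_eq_one_right B.u_sq
    refine ⟨(⟨m * (τ * m * τ⁻¹), ⟨mul_mem hmK hτm, ?_⟩⟩,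
      ⟨m * (σ * τ * m * (σ * τ)⁻¹), ⟨mul_mem hmK (B.conj_core hmK B.u_mem), ?_⟩⟩), Subtype.ext ?_⟩
    · refine Subgroup.mem_centralizer_singleton_iff.2 ?_
      have e : τ * (m * (τ * m * τ⁻¹)) * τ⁻¹ = (τ * m * τ⁻¹) * m := by
        rw [show τ * (m * (τ * m * τ⁻¹)) * τ⁻¹ = τ * m * τ * m * (τ * τ)⁻¹ by group, B.ττ, hτi]
        group
      rw [B.core_comm hτm hmK, mul_inv_eq_iff_eq_mul] at e
      exact e.symm
    · refine Subgroup.mem_centralizer_singleton_iff.2 ?_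
      have e : σ * τ * (m * (σ * τ * m * (σ * τ)⁻¹)) * (σ * τ)⁻¹ =
          (σ * τ * m * (σ * τ)⁻¹) * m := by
        rw [show σ * τ * (m * (σ * τ * m * (σ * τ)⁻¹)) * (σ * τ)⁻¹ =
          σ * τ * m * (σ * τ) * m * (σ * τ * (σ * τ))⁻¹ by group, B.u_sq, hui]
        group
      rw [B.core_comm (B.conj_core hmK B.u_mem) hmK, mul_inv_eq_iff_eq_mul] at e
      exact e.symm
    · show m * (τ * m * τ⁻¹) * (m * (σ * τ * m * (σ * τ)⁻¹)) = k
      rw [hum, hk', mul_assoc m, ← mul_assoc (τ * m * τ⁻¹) m, B.core_comm hτm hmK,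
        mul_assoc m (τ * m * τ⁻¹), mul_inv_cancel, mul_one]

open Classical in
/-- The principal block gives two equations. -/
theorem equations {M : Ideal AlgInt} [M.IsPrime] (hM : Cfsg.IsPModular 2 M) :
    ∃ (X A' B' : IrrCharacter G) (x x₂ x₃ : ℕ) (δ δ₂ δ₃ : ℤ), (δ = 1 ∨ δ = -1) ∧
      (δ₂ = 1 ∨ δ₂ = -1) ∧ (δ₃ = 1 ∨ δ₃ = -1) ∧ Cfsg.charDegree (X : G → ℂ) = x ∧
      Cfsg.charDegree (A' : G → ℂ) = x₂ ∧ Cfsg.charDegree (B' : G → ℂ) = x₃ ∧ (x : ℤ) ≠ δ ∧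
      X ≠ trivChar G ∧ A' ≠ trivChar G ∧ B' ≠ trivChar G ∧ (X : G → ℂ) σ = δ ∧
      (δ₂ * x₂ + δ₃ * x₃ : ℤ) = -(1 + δ * x) ∧
      (Nat.card G : ℤ) * ((x : ℤ) - δ) ^ 2 = 64 *
        Nat.card (B.setup.core ⊓ Subgroup.centralizer ({τ} : Set G) : Subgroup G) *
        Nat.card (B.setup.core ⊓ Subgroup.centralizer ({σ * τ} : Set G) : Subgroup G) *
        ((Nat.card (B.setup.core ⊓ Subgroup.centralizer ({τ} : Set G) : Subgroup G) : ℤ) +
          Nat.card (B.setup.core ⊓ Subgroup.centralizer ({σ * τ} : Set G) : Subgroup G)) ^ 2 *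
        x * ((x : ℤ) + δ) ∧
      (Nat.card G : ℤ) * ((x * x₂ * x₃ : ℤ) + δ * x₂ * x₃ + δ₂ * x * x₃ + δ₃ * x * x₂) = 256 *
        ((Nat.card (B.setup.core ⊓ Subgroup.centralizer ({τ} : Set G) : Subgroup G) : ℤ) *
          Nat.card (B.setup.core ⊓ Subgroup.centralizer ({σ * τ} : Set G) : Subgroup G)) ^ 2 *
        (x * x₂ * x₃) ∧
      (∀ χ : IrrCharacter G, (χ : G → ℂ) σ ≠ 0 →
        χ = trivChar G ∨ χ = X ∨ χ = A' ∨ χ = B') := by
  let S := B.setup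
  haveI := S.ne_zero
  set cA := Nat.card (S.core ⊓ Subgroup.centralizer ({τ} : Set G) : Subgroup G) with hcA
  set cB := Nat.card (S.core ⊓ Subgroup.centralizer ({σ * τ} : Set G) : Subgroup G) with hcB
  have hK : Nat.card S.core = cA * cB := B.card_core
  obtain ⟨ζ, hζ⟩ : ∃ ζ : ℂ, IsPrimitiveRoot ζ (2 * 2) :=
    ⟨_, Complex.isPrimitiveRoot_exp (2 * 2) (by norm_num)⟩
  obtain ⟨X, A, B', Y, δ, a, b, hδ, ha, hb, n1, n2, n3, n4, n5, n6, hY, -, hmem, hv, hrel⟩ :=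
    S.principal_block hM hζ
  have hσ1 : σ ^ 1 ≠ 1 := by rw [ne_eq, S.pow_eq_one]; norm_num
  have hζ2 : ζ ^ 2 = -1 := by
    have h1 : ζ ^ 2 * ζ ^ 2 = 1 := by
      rw [← pow_add]; exact hζ.pow_eq_one
    exact (mul_self_eq_one_iff.1 h1).resolve_left
      (hζ.pow_ne_one_of_pos_of_lt two_ne_zero (by norm_num))
  have hζ0 : ζ ≠ 0 := hζ.ne_zero (by norm_num)
  obtain ⟨vX1, vA1, vB1, vY1⟩ := hv 1 hσ1
  obtain ⟨vX2, vA2, vB2, -⟩ := hv 2 S.J_ne
  have vY1' : (Y 1 : G → ℂ) σ = 0 := by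
    have := vY1 1 le_rfl (by norm_num)
    rw [pow_one, one_mul, pow_one] at this
    rw [this]
    field_simp
    linear_combination (δ : ℂ) * hζ2
  rw [pow_one] at vX1 vA1 vB1
  norm_num at vA1 vB1 vA2 vB2
  set x := Cfsg.charDegree (X : G → ℂ) with hxdef
  have hx : (X : G → ℂ) 1 = (x : ℂ) := (charDegree_cast X).symm
  set x₂ := Cfsg.charDegree (A : G → ℂ) with hx2def
  have hx2 : (A : G → ℂ) 1 = (x₂ : ℂ) := (charDegree_cast A).symm
  set x₃ := Cfsg.charDegree (B' : G → ℂ) with hx3def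
  have hx3 : (B' : G → ℂ) 1 = (x₃ : ℂ) := (charDegree_cast B').symm
  have hrel1 := (hrel 1 (by rw [orderOf_one]; exact odd_one) 1 le_rfl (by norm_num)).1
  rw [hx, hx2, hx3] at hrel1
  have hrel2 : (a * x₂ + b * x₃ : ℤ) = -(1 + δ * x) := by
    have e : ((a * x₂ + b * x₃ : ℤ) : ℂ) = ((-(1 + δ * x) : ℤ) : ℂ) := by
      push_cast
      linear_combination hrel1
    exact_mod_cast e
  -- the order formula
  obtain ⟨hxne, horder⟩ := S.order_formula hM B.conjτ B.conjστ X ((hmem X).2 (by tauto)) n1.symm δ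
    hδ fun l hl => (hv l hl).1
  have hcC : Nat.card (Subgroup.centralizer ({σ ^ 2} : Set G)) = 8 * (cA * cB) := by
    rw [S.card_centralizer S.J_ne, S.card_P_centralizer S.J_ne, if_pos S.J_sq,
      inf_eq_left.2 S.core_le, hK]
    ring
  have hP4 : ∀ i, Nat.card ((P : Subgroup G) ⊓ Subgroup.centralizer ({τ * pw σ i} : Set G) :
      Subgroup G) = 4 := fun i : ZMod (2 * 2) => S.card_P_refl i
  have f0 : τ * pw σ (0 : ZMod (2 * 2)) = τ := by rw [S.pw_eq_one.2 rfl, mul_one]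
  have f3 : τ * pw σ (3 : ZMod (2 * 2)) = σ * τ := by
    show τ * σ ^ 3 = σ * τ
    have e := S.inverts 3
    rw [mul_inv_eq_iff_eq_mul] at e
    rw [e]
    congr 1
    refine inv_eq_of_mul_eq_one_right ?_
    rw [← pow_succ, B.σ4]
  have hcτ : Nat.card (Subgroup.centralizer ({σ ^ 2, τ} : Set G)) = cA * 4 := by
    have e := hP4 0
    rw [f0] at e
    rw [S.card_pair_centralizer S.memτ, e]
  have hcu : Nat.card (Subgroup.centralizer ({σ ^ 2, σ * τ} : Set G)) = cB * 4 := by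
    have e := hP4 3
    rw [f3] at e
    rw [S.card_pair_centralizer B.u_mem, e]
  rw [hcC, hcτ, hcu, hx] at horder
  rw [hx] at hxne
  have hA0 : (cA : ℂ) ≠ 0 := Nat.cast_ne_zero.2 Nat.card_pos.ne'
  have hB0 : (cB : ℂ) ≠ 0 := Nat.cast_ne_zero.2 Nat.card_pos.ne'
  have E1 : (Nat.card G : ℂ) * ((x : ℂ) - δ) ^ 2 =
      64 * cA * cB * ((cA : ℂ) + cB) ^ 2 * x * ((x : ℂ) + δ) := by
    rw [horder]
    push_cast
    field_simp
    ring
  -- pairs with product in `σ K`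
  have h10 : (1 : ZMod (2 * 2)) ≠ 0 := by decide
  have hsec := S.section_count hM B.conjτ B.conjστ h10
  have hpw1 : pw σ (1 : ZMod (2 * 2)) = σ := by
    show σ ^ (1 : ZMod (2 * 2)).val = σ
    rw [show (1 : ZMod (2 * 2)).val = 1 from rfl, pow_one]
  rw [hpw1, hcC] at hsec
  have hn : ∀ i : ZMod (2 * 2), (S.above (τ * pw σ i)).card *
      Nat.card (S.core ⊓ Subgroup.centralizer ({τ * pw σ i} : Set G) : Subgroup G) = cA * cB :=
    fun i => (S.card_above_mul (S.refl_mem i) (S.refl_sq i)).trans hK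
  have hcApos : 0 < cA := Nat.card_pos
  have hcBpos : 0 < cB := Nat.card_pos
  have f2 : τ * pw σ (2 : ZMod (2 * 2)) = τ * σ ^ 2 := rfl
  have f1 : τ * pw σ (1 : ZMod (2 * 2)) = σ * τ * σ ^ 2 := by
    rw [hpw1, ← f3]
    show τ * σ = τ * σ ^ 3 * σ ^ 2
    rw [mul_assoc, ← pow_add, show 3 + 2 = 4 + 1 from rfl, pow_add, B.σ4, one_mul, pow_one]
  have k0 : (S.above (τ * pw σ (0 : ZMod (2 * 2)))).card = cB := by
    have e := hn 0
    rw [f0, ← hcA] at e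
    rw [f0]
    exact Nat.eq_of_mul_eq_mul_left hcApos (by linarith)
  have k3 : (S.above (τ * pw σ (3 : ZMod (2 * 2)))).card = cA := by
    have e := hn 3
    rw [f3, ← hcB] at e
    rw [f3]
    exact Nat.eq_of_mul_eq_mul_right hcBpos e
  have k2 : (S.above (τ * pw σ (2 : ZMod (2 * 2)))).card = cB := by
    have e := hn 2
    rw [f2, B.inf_centralizer_mul_t τ, ← hcA] at e
    rw [f2]
    exact Nat.eq_of_mul_eq_mul_left hcApos (by linarith)
  have k1 : (S.above (τ * pw σ (1 : ZMod (2 * 2)))).card = cA := by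
    have e := hn 1
    rw [f1, B.inf_centralizer_mul_t (σ * τ), ← hcB] at e
    rw [f1]
    exact Nat.eq_of_mul_eq_mul_right hcBpos e
  have hN : (∑ i : ZMod (2 * 2), (S.above (τ * pw σ i)).card *
      (S.above (τ * pw σ (i + 1))).card) = 4 * (cA * cB) := by
    rw [show (Finset.univ : Finset (ZMod (2 * 2))) = {0, 1, 2, 3} from
        (Finset.eq_univ_iff_forall.2 fun i => by simpa using four_cases i).symm,
      Finset.sum_insert (by decide), Finset.sum_insert (by decide), Finset.sum_pair (by decide),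
      show (0 : ZMod (2 * 2)) + 1 = 1 from rfl, show (1 : ZMod (2 * 2)) + 1 = 2 from rfl,
      show (2 : ZMod (2 * 2)) + 1 = 3 from rfl, show (3 : ZMod (2 * 2)) + 1 = 0 from rfl,
      k0, k1, k2, k3]
    ring
  rw [hN, hK] at hsec
  have hblk : ∀ χ, χ ∈ Cfsg.principalBlock M G ↔
      χ = trivChar G ∨ χ = X ∨ χ = A ∨ χ = B' ∨ χ = Y 1 := fun χ => by
    rw [hmem]
    refine or_congr_right (or_congr_right (or_congr_right (or_congr_right
      ⟨fun ⟨i, i1, i2, e⟩ => by rw [e, show i = 1 by omega], fun e => ⟨1, le_rfl, by norm_num, e⟩⟩)))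
  obtain ⟨y1, y2, y3, y4⟩ := hY 1 le_rfl (by norm_num)
  rw [← Finset.sum_filter, show (Finset.univ.filter fun χ => χ ∈ Cfsg.principalBlock M G) =
      ({trivChar G, X, A, B', Y 1} : Finset _) by ext χ; simp [hblk],
    Finset.sum_insert (by simp [n1, n2, n3, y1]), Finset.sum_insert (by simp [n4, n5, y2]),
    Finset.sum_insert (by simp [n6, y3]), Finset.sum_pair y4] at hsec
  simp only [trivChar_apply, vX1, vX2, vA1, vA2, vB1, vB2, vY1', hx, hx2, hx3, map_one,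
    map_intCast, map_neg, map_zero, zero_mul, add_zero, one_mul, div_one] at hsec
  have hx0 : (x : ℂ) ≠ 0 := Nat.cast_ne_zero.2 (charDegree_ne_zero X)
  have hx20 : (x₂ : ℂ) ≠ 0 := Nat.cast_ne_zero.2 (charDegree_ne_zero A)
  have hx30 : (x₃ : ℂ) ≠ 0 := Nat.cast_ne_zero.2 (charDegree_ne_zero B')
  have hac : (a : ℂ) * a = 1 := by rcases ha with rfl | rfl <;> norm_num
  have hbc : (b : ℂ) * b = 1 := by rcases hb with rfl | rfl <;> norm_num
  have hδc : (δ : ℂ) * δ = 1 := by rcases hδ with rfl | rfl <;> norm_num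
  have hd : (1 + (δ : ℂ) * ((δ : ℂ) * δ / x) + ((a : ℂ) * (-(a : ℂ) * -(a : ℂ) / x₂) +
      (b : ℂ) * (-(b : ℂ) * -(b : ℂ) / x₃))) * ((x : ℂ) * x₂ * x₃) =
      (x : ℂ) * x₂ * x₃ + δ * x₂ * x₃ + a * x * x₃ + b * x * x₂ := by
    field_simp
    linear_combination ((δ : ℂ) * x₂ * x₃) * hδc + ((a : ℂ) * x * x₃) * hac +
      ((b : ℂ) * x * x₂) * hbc
  have E2 : (Nat.card G : ℂ) * ((x : ℂ) * x₂ * x₃ + δ * x₂ * x₃ + a * x * x₃ + b * x * x₂) =
      256 * ((cA : ℂ) * cB) ^ 2 * ((x : ℂ) * x₂ * x₃) := by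
    push_cast at hsec
    refine mul_left_cancel₀ (mul_ne_zero hA0 hB0) ?_
    linear_combination ((x : ℂ) * x₂ * x₃) * hsec - (Nat.card G : ℂ) * ((cA : ℂ) * cB) * hd
  refine ⟨X, A, B', x, x₂, x₃, δ, a, b, hδ, ha, hb, rfl, rfl, rfl,
    fun e => hxne (by exact_mod_cast e), n1.symm, n2.symm, n3.symm,
    vX1, hrel2, ?_, ?_, fun χ hχ => ?_⟩
  · exact_mod_cast E1
  · exact_mod_cast E2
  · -- only four characters do not vanish at `σ`
    have hcen : Nat.card (Subgroup.centralizer ({σ} : Set G)) ≤ 4 := by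
      refine (Nat.le_of_dvd Nat.card_pos (Subgroup.card_dvd_of_le B.cent)).trans ?_
      rw [Nat.card_zpowers, S.ordσ]
    by_contra hc
    push Not at hc
    obtain ⟨c1, c2, c3, c4⟩ := hc
    have hχ1 : χ ≠ trivChar G := c1
    have hχA : χ ≠ A := c3
    have hχB : χ ≠ B' := c4
    have hcol := Characters.sum_irr_mul_conj_of_isConj (IsConj.refl σ)
    have hre := congrArg Complex.re hcol
    simp only [Complex.re_sum, Complex.mul_conj, Complex.ofReal_re, Complex.natCast_re] at hre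
    have hsub : ∑ ξ ∈ ({χ, trivChar G, X, A, B'} : Finset (IrrCharacter G)),
        Complex.normSq ((ξ : G → ℂ) σ) ≤ ∑ ξ : IrrCharacter G, Complex.normSq ((ξ : G → ℂ) σ) :=
      Finset.sum_le_sum_of_subset_of_nonneg (Finset.subset_univ _)
        fun _ _ _ => Complex.normSq_nonneg _
    rw [Finset.sum_insert (by simp [hχ1, c2, hχA, hχB]),
      Finset.sum_insert (by simp [n1, n2, n3]),
      Finset.sum_insert (by simp [n4, n5]), Finset.sum_pair n6, trivChar_apply, vX1, vA1, vB1,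
      hre] at hsub
    have hpos := Complex.normSq_pos.2 hχ
    have hnorm : ∀ {z : ℤ}, z = 1 ∨ z = -1 → Complex.normSq (z : ℂ) = 1 := by
      rintro z (rfl | rfl) <;> simp
    rw [map_one, hnorm hδ, hnorm ha, hnorm hb] at hsub
    have : (Nat.card (Subgroup.centralizer ({σ} : Set G)) : ℝ) ≤ 4 := by exact_mod_cast hcen
    linarith

open Classical in
theorem exists_pull {ρ : G} (hρ : IsConj (σ ^ 2) ρ) (hρP : ρ ∈ (P : Subgroup G))
    (hρ1 : ρ ≠ σ ^ 2) :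
    ∃ g : G, g * σ ^ 2 * g⁻¹ = ρ ∧ (g⁻¹ * σ ^ 2 * g = τ ∨ g⁻¹ * σ ^ 2 * g = σ * τ) := by
  haveI : Fact (Nat.Prime 2) := ⟨Nat.prime_two⟩
  let S := B.setup
  obtain ⟨g₀, hg₀⟩ := isConj_iff.1 hρ
  set C := Subgroup.centralizer ({ρ} : Set G) with hC
  have htρ : σ ^ 2 ∈ C := Subgroup.mem_centralizer_singleton_iff.2 (S.J_central hρP).symm
  have hQ : (P : Subgroup G).map (MulAut.conj g₀).toMonoidHom ≤ C := by
    rintro _ ⟨p, hp, rfl⟩
    rw [Subgroup.mem_centralizer_singleton_iff]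
    show g₀ * p * g₀⁻¹ * ρ = ρ * (g₀ * p * g₀⁻¹)
    rw [← hg₀, conj_mul, conj_mul, S.J_central hp]
  let T : Sylow 2 C := (g₀ • P).subtype hQ
  have hp2 : IsPGroup 2 (Subgroup.zpowers (⟨σ ^ 2, htρ⟩ : C)) := by
    refine IsPGroup.of_card (n := 1) ?_
    rw [Nat.card_zpowers, ← Subgroup.orderOf_coe, S.J_order, pow_one]
  obtain ⟨T', hT'⟩ := hp2.exists_le_sylow
  obtain ⟨c, hc⟩ := MulAction.exists_smul_eq C T T'
  have hmem : (⟨σ ^ 2, htρ⟩ : C) ∈ T' := hT' (Subgroup.mem_zpowers _)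
  rw [← hc] at hmem
  replace hmem : (⟨σ ^ 2, htρ⟩ : C) ∈ ((c • T : Sylow 2 C) : Subgroup C) := hmem
  rw [Sylow.coe_subgroup_smul, Subgroup.mem_smul_pointwise_iff_exists] at hmem
  obtain ⟨q, hq, hqe⟩ := hmem
  obtain ⟨p, hp, hpe⟩ : ∃ p ∈ (P : Subgroup G), g₀ * p * g₀⁻¹ = (q : G) := by
    have hq' : (q : G) ∈ ((g₀ • P : Sylow 2 G) : Subgroup G) := hq
    rw [Sylow.coe_subgroup_smul, Subgroup.mem_smul_pointwise_iff_exists] at hq'
    obtain ⟨p, hp, hpe⟩ := hq'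
    exact ⟨p, hp, hpe⟩
  set g := (c : G) * g₀ with hg
  have h1 : g * σ ^ 2 * g⁻¹ = ρ := by
    rw [hg, show (c : G) * g₀ * σ ^ 2 * ((c : G) * g₀)⁻¹ = c * (g₀ * σ ^ 2 * g₀⁻¹) * (c : G)⁻¹ by
      group, hg₀, Subgroup.mem_centralizer_singleton_iff.1 c.2, mul_inv_cancel_right]
  have h2 : g * p * g⁻¹ = σ ^ 2 := by
    have e : (c : G) * (q : G) * (c : G)⁻¹ = σ ^ 2 := congrArg Subtype.val hqe
    rw [hg, show (c : G) * g₀ * p * ((c : G) * g₀)⁻¹ = c * (g₀ * p * g₀⁻¹) * (c : G)⁻¹ by group,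
      hpe, e]
  have hp' : g⁻¹ * σ ^ 2 * g = p := by rw [← h2]; group
  haveI := S.ne_zero
  have hpp : p * p = 1 := by
    rw [← hp', show g⁻¹ * σ ^ 2 * g * (g⁻¹ * σ ^ 2 * g) = g⁻¹ * (σ ^ 2 * σ ^ 2) * g by group,
      S.J_sq]
    group
  have hp1 : p ≠ 1 := fun e => S.J_ne (by rw [← h2, e, mul_one, mul_inv_cancel])
  have hpt : p ≠ σ ^ 2 := fun e => hρ1 (by rw [e] at h2; rw [← h1, h2])
  rcases S.pr_cases (S.P_le_C hp) hpp hp1 with e | ⟨i, hi⟩
  · exact absurd e hpt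
  rw [S.pr_of_mem hp] at hi
  have hnorm : ∀ r : G, p = r * σ ^ 2 → σ * r * σ⁻¹ = r * σ ^ 2 →
      (g * σ) * σ ^ 2 * (g * σ)⁻¹ = ρ ∧ (g * σ)⁻¹ * σ ^ 2 * (g * σ) = r := by
    intro r hr hσr
    refine ⟨?_, ?_⟩
    · rw [show g * σ * σ ^ 2 * (g * σ)⁻¹ = g * σ ^ 2 * g⁻¹ by group, h1]
    · rw [show (g * σ)⁻¹ * σ ^ 2 * (g * σ) = σ⁻¹ * (g⁻¹ * σ ^ 2 * g) * σ by group, hp', hr,
        ← hσr]
      group
  rcases four_cases i with rfl | rfl | rfl | rfl
  · refine ⟨g, h1, Or.inl ?_⟩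
    rw [hp', hi, S.pw_eq_one.2 rfl, mul_one]
  · refine ⟨g * σ, (hnorm (σ * τ) ?_ B.sigma_u_conj).1, Or.inr (hnorm (σ * τ) ?_ B.sigma_u_conj).2⟩
    all_goals
      rw [hi]
      show τ * σ ^ (1 : ZMod (2 * 2)).val = _
      rw [show (1 : ZMod (2 * 2)).val = 1 from rfl, pow_one]
      have e : σ * τ = τ * σ ^ 3 := by
        have e := S.inverts 3
        rw [mul_inv_eq_iff_eq_mul] at e
        rw [e]
        congr 1
        symm
        refine inv_eq_of_mul_eq_one_right ?_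
        rw [← pow_succ, B.σ4]
      rw [e, mul_assoc, ← pow_add, show 3 + 2 = 4 + 1 from rfl, pow_add, B.σ4, one_mul, pow_one]
  · exact ⟨g * σ, (hnorm τ hi B.sigma_tau_conj).1, Or.inl (hnorm τ hi B.sigma_tau_conj).2⟩
  · refine ⟨g, h1, Or.inr ?_⟩
    rw [hp', hi]
    show τ * σ ^ 3 = σ * τ
    have e := S.inverts 3
    rw [mul_inv_eq_iff_eq_mul] at e
    rw [e]
    congr 1
    refine inv_eq_of_mul_eq_one_right ?_
    rw [← pow_succ, B.σ4]

/-- Some element interchanges `σ ^ 2` and `τ`. -/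
theorem exists_swap_t : ∃ g : G, g * σ ^ 2 * g⁻¹ = τ ∧ g * τ * g⁻¹ = σ ^ 2 := by
  let S := B.setup
  have hτt : τ ≠ σ ^ 2 := fun e => S.notMem (e ▸ pow_mem (Subgroup.mem_zpowers σ) 2)
  have hut : σ * τ ≠ σ ^ 2 := fun e => S.notMem (by
    rw [eq_inv_mul_of_mul_eq e]
    exact mul_mem (inv_mem (Subgroup.mem_zpowers σ)) (pow_mem (Subgroup.mem_zpowers σ) 2))
  have hback : ∀ {g r : G}, g⁻¹ * σ ^ 2 * g = r → g * r * g⁻¹ = σ ^ 2 := fun {g r} h => by
    rw [← h]; group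
  obtain ⟨g, hg1, hg2 | hg2⟩ := B.exists_pull B.conjτ S.memτ hτt
  · exact ⟨g, hg1, hback hg2⟩
  replace hg2 := hback hg2
  obtain ⟨f, hf1, hf2 | hf2⟩ := B.exists_pull B.conjστ B.u_mem hut
  · -- both cross; `g σ f` fixes `τ` and exchanges `σ ^ 2` and `τ σ ^ 2`
    replace hf2 := hback hf2
    set h := g * σ * f with hh
    have hσt : σ * σ ^ 2 * σ⁻¹ = σ ^ 2 := by group
    have hgt : g * (σ * τ * σ ^ 2) * g⁻¹ = σ ^ 2 * τ := by
      rw [← conj_mul, hg2, hg1]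
    have h1 : h * σ ^ 2 * h⁻¹ = τ * σ ^ 2 := by
      rw [hh, show g * σ * f * σ ^ 2 * (g * σ * f)⁻¹ = g * (σ * (f * σ ^ 2 * f⁻¹) * σ⁻¹) * g⁻¹ by
        group, hf1, B.sigma_u_conj, hgt, ← S.J_central S.memτ]
    have h2 : h * τ * h⁻¹ = τ := by
      rw [hh, show g * σ * f * τ * (g * σ * f)⁻¹ = g * (σ * (f * τ * f⁻¹) * σ⁻¹) * g⁻¹ by group,
        hf2, hσt, hg1]
    have h3 : h * (τ * σ ^ 2) * h⁻¹ = σ ^ 2 := by
      rw [← conj_mul, h2, h1, ← mul_assoc, B.ττ, one_mul]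
    refine ⟨σ * h * σ⁻¹, ?_, ?_⟩
    · rw [show σ * h * σ⁻¹ * σ ^ 2 * (σ * h * σ⁻¹)⁻¹ = σ * (h * σ ^ 2 * h⁻¹) * σ⁻¹ by group, h1,
        ← conj_mul, hσt, B.sigma_tau_conj, mul_assoc, S.J_sq, mul_one]
    · have e : σ⁻¹ * τ * σ = τ * σ ^ 2 := by
        rw [mul_assoc, B.tau_sigma, ← mul_assoc, ← mul_inv_rev, ← pow_two,
          inv_eq_of_mul_eq_one_right S.J_sq]
        exact (S.J_central S.memτ).symm
      rw [show σ * h * σ⁻¹ * τ * (σ * h * σ⁻¹)⁻¹ = σ * (h * (σ⁻¹ * τ * σ) * h⁻¹) * σ⁻¹ by group,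
        e, h3, hσt]
  · -- the other four-group is normalised by `f`
    replace hf2 := hback hf2
    refine ⟨g * f * g⁻¹, ?_, ?_⟩
    · have e : g⁻¹ * σ ^ 2 * g = σ * τ := by rw [← hg2]; group
      rw [show g * f * g⁻¹ * σ ^ 2 * (g * f * g⁻¹)⁻¹ = g * (f * (g⁻¹ * σ ^ 2 * g) * f⁻¹) * g⁻¹ by
        group, e, hf2, hg1]
    · have e : g⁻¹ * τ * g = σ ^ 2 := by rw [← hg1]; group
      rw [show g * f * g⁻¹ * τ * (g * f * g⁻¹)⁻¹ = g * (f * (g⁻¹ * τ * g) * f⁻¹) * g⁻¹ by group,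
        e, hf1, hg2]

end Base

end CfsgLib.Inv54.SigmaGroup
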