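import Cfsg.Agent.Inv54.SigmaGroup
import Cfsg.Agent.Inv54.DihedralSigma

/-!
# The quotient by `A` of the subgroup centralising or inverting `A`

With `A = C_K(τ)` not trivial, the elements centralising or inverting `A` form a subgroup `Hs`, and
`Hs / A` satisfies `DihedralSigma.Data` with core of order `b`.
-/

set_option autoImplicit false
set_option linter.style.haveILetI false
set_option linter.unusedSectionVars false

namespace CfsgLib.Inv54.SigmaGroup

open Cfsg CfsgLib.Inv54.DihedralBlock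

universe u

theorem setup_mem_core {G : Type u} [Group G] [Finite G] {P : Sylow 2 G} {σ τ : G} {h : ℕ}
    (S : Setup P σ τ h) {c : G} (hc : c ∈ Subgroup.centralizer ({σ ^ h} : Set G))
    (ho : Odd (orderOf c)) : c ∈ S.core := by
  obtain ⟨hp, hk⟩ := S.pr_spec hc
  have hpow : ∀ i : ℕ, S.pr (c ^ i) = S.pr c ^ i := fun i => by
    induction i with
    | zero => rw [pow_zero, pow_zero, S.pr_of_core S.core.one_mem]
    | succ i ih => rw [pow_succ, S.pr_mul (pow_mem hc i) hc, ih, pow_succ]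
  have h1 : S.pr c = 1 := by
    haveI : Fact (Nat.Prime 2) := ⟨Nat.prime_two⟩
    obtain ⟨j, hj⟩ := P.isPGroup'.exists_card_eq
    refine orderOf_eq_one_iff.1 (Nat.eq_one_of_dvd_coprimes
      ((Nat.coprime_two_right.2 ho).pow_right j) (orderOf_dvd_of_pow_eq_one ?_)
      (hj ▸ Subgroup.orderOf_dvd_natCard _ hp))
    rw [← hpow, pow_orderOf_eq_one, S.pr_of_core S.core.one_mem]
  rwa [h1, inv_one, mul_one] at hk

variable {G : Type u} [Group G] [Fintype G] {P : Sylow 2 G} {σ τ : G}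

namespace Base

variable (B : Base P σ τ)
include B

/-- `C_K(τ)`. -/
noncomputable def fixA : Subgroup G := B.setup.core ⊓ Subgroup.centralizer ({τ} : Set G)

theorem fixA_core {x : G} (hx : x ∈ B.fixA) : x ∈ B.setup.core := hx.1

theorem fixA_τ {x : G} (hx : x ∈ B.fixA) : x * τ = τ * x :=
  Subgroup.mem_centralizer_singleton_iff.1 hx.2

theorem fixA_comm {x y : G} (hx : x ∈ B.fixA) (hy : y ∈ B.fixA) : x * y = y * x :=
  B.core_comm hx.1 hy.1

theorem fixA_u {x : G} (hx : x ∈ B.fixA) : σ * τ * x * (σ * τ)⁻¹ = x⁻¹ := by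
  rw [show σ * τ * x * (σ * τ)⁻¹ = σ * (τ * x * τ⁻¹) * σ⁻¹ by group, ← B.fixA_τ hx,
    mul_inv_cancel_right, B.invert_σ hx.1]

theorem fixA_eq_one {x : G} (hx : x ∈ B.fixA) (h : x⁻¹ = x) : x = 1 := by
  refine orderOf_eq_one_iff.1 (Nat.eq_one_of_dvd_coprimes
    (Nat.coprime_two_right.2 (B.odd_orderOf_core hx.1)) dvd_rfl ?_)
  refine orderOf_dvd_of_pow_eq_one ?_
  rw [pow_two]
  nth_rewrite 1 [← h]
  exact inv_mul_cancel x

/-- The elements that centralise or invert `A`. -/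
noncomputable def actA : Subgroup G where
  carrier := {g | (∀ x ∈ B.fixA, g * x * g⁻¹ = x) ∨ ∀ x ∈ B.fixA, g * x * g⁻¹ = x⁻¹}
  one_mem' := Or.inl fun x _ => by simp
  mul_mem' := by
    intro g h hg hh
    have e : ∀ x, g * h * x * (g * h)⁻¹ = g * (h * x * h⁻¹) * g⁻¹ := fun x => by group
    rcases hg with hg | hg <;> rcases hh with hh | hh
    · exact Or.inl fun x hx => by rw [e, hh x hx, hg x hx]
    · exact Or.inr fun x hx => by rw [e, hh x hx, hg _ (inv_mem hx)]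
    · exact Or.inr fun x hx => by rw [e, hh x hx, hg x hx]
    · exact Or.inl fun x hx => by rw [e, hh x hx, hg _ (inv_mem hx), inv_inv]
  inv_mem' := by
    intro g hg
    rcases hg with hg | hg
    · refine Or.inl fun x hx => ?_
      conv_lhs => rw [← hg x hx]
      group
    · refine Or.inr fun x hx => ?_
      conv_lhs => rw [show x = g * x⁻¹ * g⁻¹ by rw [hg _ (inv_mem hx), inv_inv]]
      group

theorem conj_mem_fixA {g x : G} (hg : g ∈ B.actA) (hx : x ∈ B.fixA) : g * x * g⁻¹ ∈ B.fixA := by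
  rcases hg with hg | hg
  · rw [hg x hx]; exact hx
  · rw [hg x hx]; exact inv_mem hx

theorem core_le_actA : B.setup.core ≤ B.actA := fun k hk => Or.inl fun x hx => by
  rw [B.core_comm hk hx.1, mul_inv_cancel_right]

theorem σ_mem_actA : σ ∈ B.actA := Or.inr fun _ hx => B.invert_σ hx.1

theorem τ_mem_actA : τ ∈ B.actA := Or.inl fun _ hx => by
  rw [← B.fixA_τ hx, mul_inv_cancel_right]

theorem u_mem_actA : σ * τ ∈ B.actA := mul_mem B.σ_mem_actA B.τ_mem_actA

theorem P_le_actA : (P : Subgroup G) ≤ B.actA := by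
  intro p hp
  obtain ⟨i, rfl | rfl⟩ := B.setup.elems p hp
  exacts [pow_mem B.σ_mem_actA i, mul_mem B.τ_mem_actA (pow_mem B.σ_mem_actA i)]

/-- Elements centralising `σ ^ 2` and `τ` centralise `A`. -/
theorem act_pair {z x : G} (h1 : z * σ ^ 2 = σ ^ 2 * z) (h2 : z * τ = τ * z) (hx : x ∈ B.fixA) :
    z * x * z⁻¹ = x := by
  let S := B.setup
  have hzC := Subgroup.mem_centralizer_singleton_iff.2 h1
  obtain ⟨hp, hk⟩ := S.pr_spec hzC
  have hpτ : S.pr z * τ = τ * S.pr z := by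
    have e := congrArg S.pr h2
    rwa [S.pr_mul hzC (S.P_le_C S.memτ), S.pr_mul (S.P_le_C S.memτ) hzC,
      S.pr_of_mem S.memτ] at e
  have hpx : S.pr z * x * (S.pr z)⁻¹ = x := by
    have hpow : ∀ i : ℕ, σ ^ i * τ = τ * σ ^ i → σ ^ i * x * (σ ^ i)⁻¹ = x := by
      intro i hi
      have e1 := S.inverts i
      rw [← hi, mul_inv_cancel_right] at e1
      have e2 : σ ^ (i + i) = 1 := by rw [pow_add]; nth_rewrite 2 [e1]; rw [mul_inv_cancel]
      obtain ⟨r, hr⟩ := S.pow_eq_one.1 e2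
      have hi2 : i = 2 * r := by omega
      rw [hi2, pow_mul, (Commute.pow_left (show Commute (σ ^ 2) x from B.core_t hx.1) r).eq,
        mul_inv_cancel_right]
    obtain ⟨i, hi | hi⟩ := S.elems _ hp
    · rw [hi] at hpτ ⊢
      exact hpow i hpτ
    · rw [hi] at hpτ ⊢
      have hc : σ ^ i * τ = τ * σ ^ i := by
        rw [mul_assoc] at hpτ
        exact mul_left_cancel hpτ
      rw [show τ * σ ^ i * x * (τ * σ ^ i)⁻¹ = τ * (σ ^ i * x * (σ ^ i)⁻¹) * τ⁻¹ by group,
        hpow i hc, ← B.fixA_τ hx, mul_inv_cancel_right]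
  calc z * x * z⁻¹ = (z * (S.pr z)⁻¹) * (S.pr z * x * (S.pr z)⁻¹) * (z * (S.pr z)⁻¹)⁻¹ := by group
    _ = x := by rw [hpx, B.core_comm hk hx.1, mul_inv_cancel_right]

theorem exists_fusing : ∃ g ∈ B.actA, g * σ ^ 2 * g⁻¹ = τ := by
  let S := B.setup
  obtain ⟨g, hg1, hg2⟩ := B.exists_swap_t
  refine ⟨g, Or.inr fun x hx => ?_, hg1⟩
  have hgA : ∀ {y : G}, y ∈ B.fixA → g * y * g⁻¹ ∈ B.fixA := by
    intro y hy
    have hc1 : g * y * g⁻¹ * τ = τ * (g * y * g⁻¹) := by
      rw [← hg1, conj_mul, conj_mul, B.core_t hy.1]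
    have hc2 : g * y * g⁻¹ * σ ^ 2 = σ ^ 2 * (g * y * g⁻¹) := by
      rw [← hg2, conj_mul, conj_mul, B.fixA_τ hy]
    refine ⟨B.mem_core (Subgroup.mem_centralizer_singleton_iff.2 hc2) ?_,
      Subgroup.mem_centralizer_singleton_iff.2 hc1⟩
    rw [show g * y * g⁻¹ = MulAut.conj g y from rfl, MulEquiv.orderOf_eq]
    exact B.odd_orderOf_core hy.1
  set q := g * σ * g⁻¹ with hq
  set r := σ * g * σ⁻¹ with hr
  have hστσ : σ⁻¹ * τ * σ = τ * σ ^ 2 := by
    rw [mul_assoc, B.tau_sigma, ← mul_assoc, ← mul_inv_rev, ← pow_two,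
      inv_eq_of_mul_eq_one_right S.J_sq]
    exact (S.J_central S.memτ).symm
  have hgi1 : g⁻¹ * σ ^ 2 * g = τ := by rw [← hg2]; group
  have hgi2 : g⁻¹ * τ * g = σ ^ 2 := by rw [← hg1]; group
  have hgτt : g * (τ * σ ^ 2) * g⁻¹ = σ ^ 2 * τ := by rw [← conj_mul, hg2, hg1]
  have hσt : σ * σ ^ 2 * σ⁻¹ = σ ^ 2 := by group
  have q1 : q * σ ^ 2 * q⁻¹ = σ ^ 2 * τ := by
    rw [hq, show g * σ * g⁻¹ * σ ^ 2 * (g * σ * g⁻¹)⁻¹ = g * (σ * (g⁻¹ * σ ^ 2 * g) * σ⁻¹) * g⁻¹ by
      group, hgi1, B.sigma_tau_conj, hgτt]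
  have q2 : q * τ * q⁻¹ = τ := by
    rw [hq, show g * σ * g⁻¹ * τ * (g * σ * g⁻¹)⁻¹ = g * (σ * (g⁻¹ * τ * g) * σ⁻¹) * g⁻¹ by
      group, hgi2, hσt, hg1]
  have r1 : r * σ ^ 2 * r⁻¹ = σ ^ 2 * τ := by
    rw [hr, show σ * g * σ⁻¹ * σ ^ 2 * (σ * g * σ⁻¹)⁻¹ = σ * (g * σ ^ 2 * g⁻¹) * σ⁻¹ by group, hg1,
      B.sigma_tau_conj, S.J_central S.memτ]
  have r2 : r * τ * r⁻¹ = τ := by
    rw [hr, show σ * g * σ⁻¹ * τ * (σ * g * σ⁻¹)⁻¹ = σ * (g * (σ⁻¹ * τ * σ) * g⁻¹) * σ⁻¹ by group,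
      hστσ, hgτt, ← conj_mul, hσt, B.sigma_tau_conj, S.J_central S.memτ, ← mul_assoc, S.J_sq,
      one_mul]
  have z1 : r⁻¹ * q * σ ^ 2 = σ ^ 2 * (r⁻¹ * q) := by
    calc r⁻¹ * q * σ ^ 2 = r⁻¹ * (q * σ ^ 2 * q⁻¹) * q := by group
      _ = σ ^ 2 * (r⁻¹ * q) := by rw [q1, ← r1]; group
  have z2 : r⁻¹ * q * τ = τ * (r⁻¹ * q) := by
    calc r⁻¹ * q * τ = r⁻¹ * (q * τ * q⁻¹) * q := by group
      _ = r⁻¹ * (r * τ * r⁻¹) * q := by rw [q2, r2]
      _ = τ * (r⁻¹ * q) := by group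
  have hz := B.act_pair z1 z2 hx
  have hy : g⁻¹ * x * g ∈ B.fixA := by
    have hbij : Function.Bijective fun y : B.fixA => (⟨g * y * g⁻¹, hgA y.2⟩ : B.fixA) :=
      Finite.injective_iff_bijective.1 fun a b e => Subtype.ext
        (mul_left_cancel (mul_right_cancel (congrArg Subtype.val e)))
    obtain ⟨y, hy⟩ := hbij.2 ⟨x, hx⟩
    rw [← show g * (y : G) * g⁻¹ = x from congrArg Subtype.val hy,
      show g⁻¹ * (g * (y : G) * g⁻¹) * g = y by group]
    exact y.2
  have hqx : q * x * q⁻¹ = x⁻¹ := by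
    rw [hq, show g * σ * g⁻¹ * x * (g * σ * g⁻¹)⁻¹ = g * (σ * (g⁻¹ * x * g) * σ⁻¹) * g⁻¹ by group,
      B.invert_σ hy.1]
    group
  have hrx : r * x * r⁻¹ = g * x * g⁻¹ := by
    have e1 : σ⁻¹ * x * σ = x⁻¹ := by
      have e := B.invert_σ (inv_mem hx.1)
      rw [inv_inv] at e
      nth_rewrite 1 [← e]
      group
    rw [hr, show σ * g * σ⁻¹ * x * (σ * g * σ⁻¹)⁻¹ = σ * (g * (σ⁻¹ * x * σ) * g⁻¹) * σ⁻¹ by group,
      e1, B.invert_σ (hgA (inv_mem hx)).1]
    group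
  rw [← hrx, ← hqx]
  conv_lhs => rw [← hz]
  group

set_option maxHeartbeats 8000000 in
open Classical in
/-- The configuration for the quotient by `A`. -/
theorem side (M : Ideal AlgInt) [M.IsPrime] (hM : Cfsg.IsPModular 2 M)
    (ha : 1 < Nat.card B.fixA) :
    ∃ (h w x : ℕ) (δ : ℤ), Nat.card B.actA = Nat.card B.fixA * h ∧
      (δ = 1 ∨ δ = -1) ∧ 2 ≤ x ∧
      w ∣ Nat.card B.setup.core ∧
      (h : ℤ) * ((x : ℤ) - δ) ^ 2 = 64 *
        (Nat.card (B.setup.core ⊓ Subgroup.centralizer ({σ * τ} : Set G) : Subgroup G) : ℤ) ^ 3 *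
          x * ((x : ℤ) + δ) ∧
      (w : ℤ) * ((x : ℤ) - δ) = 2 *
        (Nat.card (B.setup.core ⊓ Subgroup.centralizer ({σ * τ} : Set G) : Subgroup G) : ℤ) ^ 2 *
          ((x : ℤ) + δ) ∧
      (1 < Nat.card (B.setup.core ⊓ Subgroup.centralizer ({σ * τ} : Set G) : Subgroup G) →
        x = 3 ∧ δ = -1) := by
  haveI : Fact (Nat.Prime 2) := ⟨Nat.prime_two⟩
  let S := B.setup
  set Hs := B.actA with hHs
  set A' : Subgroup Hs := B.fixA.subgroupOf Hs with hA'
  have hAHs : B.fixA ≤ Hs := fun x hx => B.core_le_actA hx.1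
  haveI hA'n : A'.Normal := ⟨fun x hx g => by
    rw [hA', Subgroup.mem_subgroupOf] at hx ⊢
    push_cast
    exact B.conj_mem_fixA g.2 hx⟩
  set π := QuotientGroup.mk' A' with hπ
  have hker : ∀ g : Hs, π g = 1 ↔ (g : G) ∈ B.fixA := fun g =>
    (QuotientGroup.eq_one_iff g).trans Subgroup.mem_subgroupOf
  have hπs : Function.Surjective π := QuotientGroup.mk'_surjective A'
  haveI := Fintype.ofFinite (Hs ⧸ A')
  have hPA : ∀ {p : G}, p ∈ (P : Subgroup G) → p ∈ B.fixA → p = 1 := fun hp hpA =>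
    S.core_inf hpA.1 hp
  set P' : Sylow 2 Hs := P.subtype B.P_le_actA with hP'
  set Pb : Sylow 2 (Hs ⧸ A') := P'.mapSurjective hπs with hPb
  set s : Hs := ⟨σ, B.σ_mem_actA⟩ with hs
  set tt : Hs := ⟨τ, B.τ_mem_actA⟩ with htt
  set uu : Hs := s * tt with huu
  have hPbmem : ∀ {p : Hs}, (p : G) ∈ (P : Subgroup G) → π p ∈ (Pb : Subgroup (Hs ⧸ A')) :=
    fun {p} hp => by
      rw [hPb, Sylow.coe_mapSurjective]
      exact ⟨p, Subgroup.mem_subgroupOf.2 hp, rfl⟩
  have hord : ∀ {p : Hs}, (p : G) ∈ (P : Subgroup G) → orderOf (π p) = orderOf (p : G) := by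
    intro p hp
    rw [Subgroup.orderOf_coe]
    refine Nat.dvd_antisymm (orderOf_map_dvd π p) (orderOf_dvd_of_pow_eq_one (Subtype.ext ?_))
    refine hPA (by push_cast; exact pow_mem hp _) ((hker _).1 ?_)
    rw [map_pow, pow_orderOf_eq_one]
  have hσ4 : orderOf (π s) = 2 * 2 := by rw [hord (p := s) S.memσ]; exact S.ordσ
  have hτ2 : orderOf (π tt) = 2 := by rw [hord (p := tt) S.memτ]; exact S.ordτ
  have hrel : π tt * π s * (π tt)⁻¹ = (π s)⁻¹ := by
    rw [← map_inv, ← map_inv, ← map_mul, ← map_mul]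
    exact congrArg π (Subtype.ext S.rel)
  have hgen : Subgroup.closure ({π s, π tt} : Set (Hs ⧸ A')) = (Pb : Subgroup (Hs ⧸ A')) := by
    refine le_antisymm ((Subgroup.closure_le _).2 ?_) fun x hx => ?_
    · rintro x (rfl | rfl)
      exacts [hPbmem (p := s) S.memσ, hPbmem (p := tt) S.memτ]
    · rw [hPb, Sylow.coe_mapSurjective] at hx
      obtain ⟨p, hp, rfl⟩ := hx
      have hp' : (p : G) ∈ (P : Subgroup G) := Subgroup.mem_subgroupOf.1 hp
      obtain ⟨i, hi | hi⟩ := S.elems _ hp'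
      · rw [show p = s ^ i from Subtype.ext hi, map_pow]
        exact pow_mem (Subgroup.subset_closure (by simp)) i
      · rw [show p = tt * s ^ i from Subtype.ext hi, map_mul, map_pow]
        exact mul_mem (Subgroup.subset_closure (by simp))
          (pow_mem (Subgroup.subset_closure (by simp)) i)
  have Sb : Setup Pb (π s) (π tt) 2 := setup_of_generators Pb le_rfl ⟨1, rfl⟩ hσ4 hτ2 hrel hgen
  -- lifting of centralisers
  have hlift : ∀ y : Hs, (∀ x ∈ B.fixA, (y : G) * x * (y : G)⁻¹ = x⁻¹) → ∀ g : Hs,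
      π g * π y = π y * π g → ∃ g' : Hs, π g' = π g ∧ g' * y = y * g' := by
    intro y hy g hg
    have h1 : π (y⁻¹ * (g * y * g⁻¹)) = 1 := by
      rw [map_mul, map_mul, map_mul, map_inv, map_inv, hg]; group
    rw [hker] at h1
    push_cast at h1
    obtain ⟨j, hj⟩ := B.odd_orderOf_core h1.1
    set x := (y : G)⁻¹ * ((g : G) * y * (g : G)⁻¹) with hx
    set a := x ^ (j + 1) with hadef
    have haA : a ∈ B.fixA := pow_mem h1 _
    have haa : a * a = x := by
      rw [hadef, ← pow_add, show j + 1 + (j + 1) = 2 * j + 1 + 1 by ring, pow_succ, ← hj,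
        pow_orderOf_eq_one, one_mul]
    have hya : a * (y : G) = y * a⁻¹ := by
      have e := hy _ (inv_mem haA)
      rw [inv_inv, mul_inv_eq_iff_eq_mul] at e
      exact e.symm
    refine ⟨⟨a, hAHs haA⟩ * g, ?_, Subtype.ext ?_⟩
    · rw [map_mul, (hker ⟨a, hAHs haA⟩).2 haA, one_mul]
    · show a * (g : G) * y = y * (a * g)
      calc a * (g : G) * y = a * y * x * g := by rw [hx]; group
        _ = y * a⁻¹ * (a * a) * g := by rw [hya, haa]
        _ = y * (a * g) := by group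
  have hliftt : ∀ g : Hs, π g * π (s ^ 2) = π (s ^ 2) * π g →
      (g : G) * σ ^ 2 = σ ^ 2 * g := by
    intro g hg
    have h1 : π ((s ^ 2)⁻¹ * (g * s ^ 2 * g⁻¹)) = 1 := by
      rw [map_mul, map_mul, map_mul, map_inv, map_inv, hg]; group
    rw [hker] at h1
    push_cast at h1
    set x := (σ ^ 2)⁻¹ * ((g : G) * σ ^ 2 * (g : G)⁻¹) with hx
    have hc : Commute (σ ^ 2) x := B.core_t h1.1
    have h2 : σ ^ 2 * x * (σ ^ 2 * x) = 1 := by
      rw [hx, mul_inv_cancel_left, show (g : G) * σ ^ 2 * (g : G)⁻¹ * ((g : G) * σ ^ 2 * (g : G)⁻¹) =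
        g * (σ ^ 2 * σ ^ 2) * (g : G)⁻¹ by group, S.J_sq]
      group
    rw [hc.symm.mul_mul_mul_comm, S.J_sq, one_mul] at h2
    have h3 : x = 1 := B.fixA_eq_one h1 (inv_eq_of_mul_eq_one_right h2)
    rw [hx, inv_mul_eq_one, eq_mul_inv_iff_mul_eq] at h3
    exact h3.symm
  -- the core of the quotient
  set K' : Subgroup Hs := S.core.subgroupOf Hs with hK'
  have hcore : Sb.core = K'.map π := by
    refine le_antisymm (fun c hc => ?_) ?_
    · obtain ⟨g, rfl⟩ := hπs c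
      have hgC : (g : G) * σ ^ 2 = σ ^ 2 * g := hliftt g (by
        rw [map_pow]; exact Subgroup.mem_centralizer_singleton_iff.1 (Sb.core_le hc))
      have hgC' := Subgroup.mem_centralizer_singleton_iff.2 hgC
      obtain ⟨k, hk, p, hp, hkp⟩ := S.decomp hgC'
      have hg : g = ⟨k, B.core_le_actA hk⟩ * ⟨p, B.P_le_actA hp⟩ := Subtype.ext hkp
      have hkK : π ⟨k, B.core_le_actA hk⟩ ∈ Sb.core := by
        refine setup_mem_core Sb ?_ ?_
        · rw [← map_pow, Subgroup.mem_centralizer_singleton_iff, ← map_mul, ← map_mul]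
          exact congrArg π (Subtype.ext (B.core_t hk).symm)
        · refine (B.odd_orderOf_core hk).of_dvd_nat ((orderOf_map_dvd π _).trans ?_)
          rw [← Subgroup.orderOf_coe]
      have hp1 : π ⟨p, B.P_le_actA hp⟩ = 1 := by
        refine ((Sb.unique hkK (hPbmem (p := ⟨p, B.P_le_actA hp⟩) hp) hc
          (Pb : Subgroup (Hs ⧸ A')).one_mem ?_).2)
        rw [mul_one, ← map_mul, ← hg]
      refine ⟨⟨k, B.core_le_actA hk⟩, Subgroup.mem_subgroupOf.2 hk, ?_⟩
      rw [hg, map_mul, hp1, mul_one]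
    · rintro _ ⟨k, hk, rfl⟩
      have hk' : (k : G) ∈ S.core := Subgroup.mem_subgroupOf.1 hk
      refine setup_mem_core Sb ?_ ?_
      · rw [← map_pow, Subgroup.mem_centralizer_singleton_iff, ← map_mul, ← map_mul]
        exact congrArg π (Subtype.ext (B.core_t hk').symm)
      · refine (B.odd_orderOf_core hk').of_dvd_nat ((orderOf_map_dvd π _).trans ?_)
        rw [Subgroup.orderOf_coe]
  set b := Nat.card (S.core ⊓ Subgroup.centralizer ({σ * τ} : Set G) : Subgroup G) with hb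
  have hcorecard : Nat.card Sb.core = b := by
    rw [hcore]
    let φ : K' →* Hs ⧸ A' := π.comp K'.subtype
    have h1 : K'.map π = φ.range := by
      rw [MonoidHom.range_comp, Subgroup.range_subtype]
    have h2 : Nat.card φ.ker = Nat.card B.fixA := Nat.card_congr
      { toFun := fun k => ⟨((k : K') : Hs), (hker _).1 k.2⟩
        invFun := fun x => ⟨⟨⟨x, hAHs x.2⟩, Subgroup.mem_subgroupOf.2 x.2.1⟩, (hker _).2 x.2⟩
        left_inv := fun k => rfl
        right_inv := fun x => rfl }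
    have h3 : Nat.card φ.ker * Nat.card φ.range = Nat.card K' := by
      rw [← Subgroup.index_ker, Subgroup.card_mul_index]
    rw [h2, Nat.card_congr (Subgroup.subgroupOfEquivOfLe B.core_le_actA).toEquiv, B.card_core] at h3
    rw [h1]
    exact Nat.eq_of_mul_eq_mul_left Nat.card_pos h3
  -- the subgroup of index two
  set Xs : Subgroup Hs := (Subgroup.centralizer (B.fixA : Set G)).subgroupOf Hs with hXs
  have hXmem : ∀ g : Hs, g ∈ Xs ↔ ∀ x ∈ B.fixA, (g : G) * x * (g : G)⁻¹ = x := fun g => by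
    rw [hXs, Subgroup.mem_subgroupOf, Subgroup.mem_centralizer_iff]
    exact ⟨fun h x hx => by rw [← h x hx, mul_inv_cancel_right],
      fun h x hx => (mul_inv_eq_iff_eq_mul.1 (h x hx)).symm⟩
  obtain ⟨x₀, hx₀, hx₀1⟩ : ∃ x ∈ B.fixA, x ≠ 1 := by
    by_contra hc
    push Not at hc
    rw [show B.fixA = ⊥ from (Subgroup.eq_bot_iff_forall _).2 hc, Subgroup.card_bot] at ha
    exact lt_irrefl 1 ha
  have hσX : s ∉ Xs := fun h => hx₀1 (B.fixA_eq_one hx₀
    ((B.invert_σ hx₀.1).symm.trans ((hXmem s).1 h x₀ hx₀)))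
  have hτX : tt ∈ Xs := (hXmem tt).2 fun x hx => by
    rw [show (tt : G) = τ from rfl, ← B.fixA_τ hx, mul_inv_cancel_right]
  have hXidx : Xs.index = 2 := by
    rw [Subgroup.index_eq_two_iff]
    refine ⟨s, fun g => ?_⟩
    have hcase : ∀ x, (g : G) * σ * x * ((g : G) * σ)⁻¹ = g * (σ * x * σ⁻¹) * (g : G)⁻¹ :=
      fun x => by group
    rcases g.2 with hg | hg
    · refine Or.inr ⟨(hXmem g).2 hg, fun h => hσX ?_⟩
      have := mul_mem (inv_mem ((hXmem g).2 hg)) h
      rwa [inv_mul_cancel_left] at this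
    · refine Or.inl ⟨(hXmem _).2 fun x hx => ?_, fun h => ?_⟩
      · show (g : G) * σ * x * ((g : G) * σ)⁻¹ = x
        rw [hcase, B.invert_σ hx.1, hg _ (inv_mem hx), inv_inv]
      · exact hx₀1 (B.fixA_eq_one hx₀ ((hg x₀ hx₀).symm.trans ((hXmem g).1 h x₀ hx₀)))
  set Xb : Subgroup (Hs ⧸ A') := Xs.map π with hXb
  have hkerX : π.ker ≤ Xs := fun g hg => (hXmem g).2 fun x hx => by
    rw [B.fixA_comm ((hker g).1 hg) hx, mul_inv_cancel_right]
  have hXbmem : ∀ g : Hs, π g ∈ Xb ↔ g ∈ Xs := fun g => by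
    refine ⟨fun h => ?_, fun h => ⟨g, h, rfl⟩⟩
    obtain ⟨g', hg', e⟩ := h
    have h1 : g'⁻¹ * g ∈ Xs := hkerX (by rw [MonoidHom.mem_ker, map_mul, map_inv, e, inv_mul_cancel])
    have := mul_mem hg' h1
    rwa [mul_inv_cancel_left] at this
  -- the odd part of `C(σ τ)`
  obtain ⟨g₀, hg₀⟩ := isConj_iff.1 B.conjστ
  have hg₀' : g₀⁻¹ * (σ * τ) * g₀ = σ ^ 2 := by rw [← hg₀]; group
  set Cu : Subgroup Hs := Subgroup.centralizer ({uu} : Set Hs) with hCu
  have hCuC : ∀ c : Cu, g₀⁻¹ * ((c : Hs) : G) * g₀ ∈ Subgroup.centralizer ({σ ^ 2} : Set G) := by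
    intro c
    have e : ((c : Hs) : G) * (σ * τ) = σ * τ * (c : Hs) :=
      congrArg Subtype.val (Subgroup.mem_centralizer_singleton_iff.1 c.2)
    rw [Subgroup.mem_centralizer_singleton_iff, ← hg₀']
    calc g₀⁻¹ * ((c : Hs) : G) * g₀ * (g₀⁻¹ * (σ * τ) * g₀)
        = g₀⁻¹ * (((c : Hs) : G) * (σ * τ)) * g₀ := by group
      _ = _ := by rw [e]; group
  let φu : Cu →* G :=
    { toFun := fun c => S.pr (g₀⁻¹ * ((c : Hs) : G) * g₀)
      map_one' := by
        rw [show g₀⁻¹ * (((1 : Cu) : Hs) : G) * g₀ = 1 by simp]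
        exact S.pr_of_core S.core.one_mem
      map_mul' := fun c d => by
        rw [← S.pr_mul (hCuC c) (hCuC d)]
        congr 1
        push_cast
        group }
  set W₀ : Subgroup Hs := φu.ker.map Cu.subtype with hW₀
  have hW₀card : Nat.card W₀ = Nat.card φu.ker :=
    Subgroup.card_map_of_injective Cu.subtype_injective
  have hW₀mem : ∀ g : Hs, g ∈ W₀ → g ∈ Cu ∧ g₀⁻¹ * (g : G) * g₀ ∈ S.core := by
    rintro _ ⟨c, hc, rfl⟩
    refine ⟨c.2, ?_⟩
    have h := (S.pr_spec (hCuC c)).2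
    rwa [show S.pr (g₀⁻¹ * ((c : Hs) : G) * g₀) = 1 from MonoidHom.mem_ker.1 hc, inv_one,
      mul_one] at h
  have hrange : Nat.card φu.range = 4 := by
    have hle : φu.range ≤ (P : Subgroup G) := by
      rintro _ ⟨c, rfl⟩
      exact (S.pr_spec (hCuC c)).1
    have hdvd : Nat.card φu.range ∣ 8 := by
      have := Subgroup.card_dvd_of_le hle
      rwa [S.card_P] at this
    have hne8 : Nat.card φu.range ≠ 8 := by
      intro e8
      have heq : φu.range = (P : Subgroup G) :=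
        Subgroup.eq_of_le_of_card_ge hle (by rw [S.card_P, e8])
      obtain ⟨c, hc⟩ : σ ∈ φu.range := heq ▸ S.memσ
      have hzC := hCuC c
      set z := g₀⁻¹ * ((c : Hs) : G) * g₀ with hz
      have hz2 : S.pr (z ^ 2) = σ ^ 2 := by
        rw [pow_two, S.pr_mul hzC hzC, show S.pr z = σ from hc, ← pow_two]
      obtain ⟨j, hj⟩ := S.exists_pow_eq (pow_mem hzC 2) S.J_ne hz2
      have hu : ((c : Hs) ^ 2) ^ j = uu := by
        refine Subtype.ext ?_
        push_cast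
        show (((c : Hs) : G) ^ 2) ^ j = σ * τ
        rw [show ((c : Hs) : G) = g₀ * z * g₀⁻¹ by rw [hz]; group, conj_pow, conj_pow, hj, hg₀]
      have huX : uu ∈ Xs := hu ▸ pow_mem (Subgroup.sq_mem_of_index_two hXidx _) j
      exact hσX ((Subgroup.mul_mem_cancel_right Xs hτX).1 huX)
    have h3 : 3 ≤ Nat.card φu.range := by
      have hut : uu ∈ Cu := Subgroup.mem_centralizer_singleton_iff.2 rfl
      have htC : s ^ 2 ∈ Cu := Subgroup.mem_centralizer_singleton_iff.2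
        (Subtype.ext (S.J_central B.u_mem).symm)
      have e1 : φu ⟨uu, hut⟩ = σ ^ 2 := by
        show S.pr (g₀⁻¹ * (σ * τ) * g₀) = _
        rw [hg₀', S.pr_of_mem S.J_mem]
      set z := g₀⁻¹ * σ ^ 2 * g₀ with hz
      have hzC : z ∈ Subgroup.centralizer ({σ ^ 2} : Set G) := hCuC ⟨s ^ 2, htC⟩
      have hz2 : z * z = 1 := by
        rw [hz, show g₀⁻¹ * σ ^ 2 * g₀ * (g₀⁻¹ * σ ^ 2 * g₀) = g₀⁻¹ * (σ ^ 2 * σ ^ 2) * g₀ by
          group, S.J_sq]
        group
      have hz1 : z ≠ 1 := fun e => S.J_ne (by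
        rw [show σ ^ 2 = g₀ * z * g₀⁻¹ by rw [hz]; group, e]; group)
      haveI := S.ne_zero
      have e2 : φu ⟨s ^ 2, htC⟩ ≠ σ ^ 2 ∧ φu ⟨s ^ 2, htC⟩ ≠ 1 := by
        rcases S.pr_cases hzC hz2 hz1 with e | ⟨i, hi⟩
        · exfalso
          have : σ * τ = σ ^ 2 := by
            rw [← hg₀]
            have e' : g₀⁻¹ * σ ^ 2 * g₀ = σ ^ 2 := e
            nth_rewrite 1 [← e']
            group
          exact S.notMem (by
            rw [eq_inv_mul_of_mul_eq this]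
            exact mul_mem (inv_mem (Subgroup.mem_zpowers σ)) (pow_mem (Subgroup.mem_zpowers σ) 2))
        · refine ⟨fun e => S.refl_ne_pw i (2 : ℕ) ?_, fun e => S.refl_ne_pw i 0 ?_⟩
          · rw [S.pw_natCast, ← hi, ← e]; rfl
          · rw [S.pw_eq_one.2 rfl, ← hi, ← e]; rfl
      have hsub : ({1, φu ⟨uu, hut⟩, φu ⟨s ^ 2, htC⟩} : Finset G) ⊆
          (φu.range : Set G).toFinset := by
        intro v hv
        simp only [Finset.mem_insert, Finset.mem_singleton] at hv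
        rw [Set.mem_toFinset]
        rcases hv with rfl | rfl | rfl
        exacts [φu.range.one_mem, ⟨_, rfl⟩, ⟨_, rfl⟩]
      have := Finset.card_le_card hsub
      rw [Finset.card_insert_of_notMem (by
        simp only [Finset.mem_insert, Finset.mem_singleton, e1, not_or]
        exact ⟨S.J_ne.symm, e2.2.symm⟩), Finset.card_pair (by rw [e1]; exact e2.1.symm),
        Set.toFinset_card, ← Nat.card_eq_fintype_card] at this
      exact this
    have hle8 : Nat.card φu.range ≤ 8 := Nat.le_of_dvd (by norm_num) hdvd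
    interval_cases hr : Nat.card φu.range <;> first | rfl | omega
  have hCucard : Nat.card Cu = 4 * Nat.card W₀ := by
    rw [hW₀card, ← Subgroup.card_mul_index φu.ker, Subgroup.index_ker, hrange, mul_comm]
  have hCuA : ∀ g : Hs, g ∈ Cu → (g : G) ∈ B.fixA → g = 1 := by
    intro g hg hgA
    refine Subtype.ext (B.fixA_eq_one hgA ?_)
    have e : (g : G) * (σ * τ) = σ * τ * g :=
      congrArg Subtype.val (Subgroup.mem_centralizer_singleton_iff.1 hg)
    rw [← B.fixA_u hgA, ← e, mul_inv_cancel_right]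
  have hinjCu : ∀ {g g' : Hs}, g ∈ Cu → g' ∈ Cu → π g = π g' → g = g' := by
    intro g g' hg hg' e
    refine (inv_mul_eq_one.1 (hCuA _ (mul_mem (inv_mem hg) hg') ((hker _).1 ?_)))
    rw [map_mul, map_inv, e, inv_mul_cancel]
  set Wb : Subgroup (Hs ⧸ A') := W₀.map π with hWb
  have hWbcard : Nat.card Wb = Nat.card W₀ :=
    (Nat.card_congr (Equiv.ofBijective (fun g : W₀ => (⟨π g, ⟨g, g.2, rfl⟩⟩ : Wb))
      ⟨fun g g' e => Subtype.ext (hinjCu (hW₀mem g g.2).1 (hW₀mem g' g'.2).1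
        (congrArg Subtype.val e)), fun ⟨_, g, hg, rfl⟩ => ⟨⟨g, hg⟩, rfl⟩⟩)).symm
  have huinv : ∀ x ∈ B.fixA, ((uu : Hs) : G) * x * ((uu : Hs) : G)⁻¹ = x⁻¹ := fun x hx =>
    B.fixA_u hx
  have hliftu : ∀ c ∈ Subgroup.centralizer ({π s * π tt} : Set (Hs ⧸ A')),
      ∃ g ∈ Cu, π g = c := by
    intro c hc
    obtain ⟨g, rfl⟩ := hπs c
    obtain ⟨g', e1, e2⟩ := hlift uu huinv g (by
      rw [huu, map_mul]; exact Subgroup.mem_centralizer_singleton_iff.1 hc)
    exact ⟨g', Subgroup.mem_centralizer_singleton_iff.2 e2, e1⟩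
  have hCumap : ∀ g ∈ Cu, π g ∈ Subgroup.centralizer ({π s * π tt} : Set (Hs ⧸ A')) := by
    intro g hg
    rw [Subgroup.mem_centralizer_singleton_iff, ← map_mul, ← map_mul, ← map_mul,
      ← huu, Subgroup.mem_centralizer_singleton_iff.1 hg]
  have hCbcard : Nat.card (Subgroup.centralizer ({π s * π tt} : Set (Hs ⧸ A'))) = Nat.card Cu :=
    (Nat.card_congr (Equiv.ofBijective
      (fun g : Cu => (⟨π g, hCumap g g.2⟩ :
        Subgroup.centralizer ({π s * π tt} : Set (Hs ⧸ A'))))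
      ⟨fun g g' e => Subtype.ext (hinjCu g.2 g'.2 (congrArg Subtype.val e)), fun ⟨c, hc⟩ => by
        obtain ⟨g, hg, e⟩ := hliftu c hc
        exact ⟨⟨g, hg⟩, Subtype.ext e⟩⟩)).symm
  -- the data
  have D : DihedralSigma.Data Pb (π s) (π tt) Xb Wb :=
    { setup := Sb
      index_two := by rw [hXb, Subgroup.index_map_eq _ hπs hkerX, hXidx]
      memτ := (hXbmem tt).2 hτX
      notσ := fun h => hσX ((hXbmem s).1 h)
      cent := fun c hc => by
        obtain ⟨g, rfl⟩ := hπs c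
        obtain ⟨g', e1, e2⟩ := hlift s (fun x hx => B.invert_σ hx.1) g
          (Subgroup.mem_centralizer_singleton_iff.1 hc)
        rw [← e1]
        obtain ⟨k, hk⟩ := Subgroup.mem_zpowers_iff.1 (B.cent
          (Subgroup.mem_centralizer_singleton_iff.2 (congrArg Subtype.val e2)))
        refine Subgroup.mem_zpowers_iff.2 ⟨k, ?_⟩
        rw [← map_zpow]
        exact congrArg π (Subtype.ext (by simpa using hk))
      fused := by
        obtain ⟨g, hg, hgt⟩ := B.exists_fusing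
        refine isConj_iff.2 ⟨π ⟨g, hg⟩, ?_⟩
        rw [← map_pow, ← map_inv, ← map_mul, ← map_mul]
        exact congrArg π (Subtype.ext hgt)
      fixes := fun c hc => by
        rw [hcore] at hc
        obtain ⟨k, hk, rfl⟩ := hc
        have hk' : (k : G) ∈ S.core := Subgroup.mem_subgroupOf.1 hk
        rw [← map_mul π s tt, ← huu, ← map_mul, ← map_mul]
        have hm : π (k⁻¹ * (uu * k * uu⁻¹)) = 1 := by
          rw [hker]
          show (k : G)⁻¹ * (σ * τ * k * (σ * τ)⁻¹) ∈ B.fixA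
          have hu' := B.conj_core hk' B.u_mem
          refine Subgroup.mem_inf.2 ⟨mul_mem (inv_mem hk') hu', Subgroup.mem_centralizer_singleton_iff.2 ?_⟩
          set m := σ * τ * (k : G) * (σ * τ)⁻¹ with hm
          have h1 : ∀ {v : G}, v ∈ S.core → τ * v * τ⁻¹ = (σ * τ * v * (σ * τ)⁻¹)⁻¹ := by
            intro v hv
            rw [show σ * τ * v * (σ * τ)⁻¹ = σ * (τ * v * τ⁻¹) * σ⁻¹ by group,
              B.invert_σ (B.conj_core hv S.memτ), inv_inv]
          have h2 : σ * τ * m * (σ * τ)⁻¹ = k := by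
            rw [hm, show σ * τ * (σ * τ * (k : G) * (σ * τ)⁻¹) * (σ * τ)⁻¹ =
              σ * τ * (σ * τ) * k * (σ * τ * (σ * τ))⁻¹ by group, B.u_sq]
            group
          have e : τ * ((k : G)⁻¹ * m) * τ⁻¹ = (k : G)⁻¹ * m := by
            rw [show τ * ((k : G)⁻¹ * m) * τ⁻¹ = (τ * k * τ⁻¹)⁻¹ * (τ * m * τ⁻¹) by group,
              h1 hk', h1 hu', h2, inv_inv, ← hm]
            exact B.core_comm hu' (inv_mem hk')
          rw [mul_inv_eq_iff_eq_mul] at e
          exact e.symm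
        rw [map_mul, map_mul, map_mul, map_inv, map_inv, inv_mul_eq_one, eq_mul_inv_iff_mul_eq]
          at hm
        rw [map_mul, map_mul]
        exact hm.symm
      W_le := by
        rintro _ ⟨g, hg, rfl⟩
        exact hCumap g (hW₀mem g hg).1
      W_comm := by
        rintro _ ⟨g, hg, rfl⟩ _ ⟨g', hg', rfl⟩
        rw [← map_mul, ← map_mul]
        refine congrArg π (Subtype.ext ?_)
        have e := B.core_comm (hW₀mem g hg).2 (hW₀mem g' hg').2
        apply mul_left_cancel (a := g₀⁻¹)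
        apply mul_right_cancel (b := g₀)
        push_cast
        calc g₀⁻¹ * ((g : G) * g') * g₀ = (g₀⁻¹ * g * g₀) * (g₀⁻¹ * g' * g₀) := by group
          _ = (g₀⁻¹ * g' * g₀) * (g₀⁻¹ * g * g₀) := e
          _ = g₀⁻¹ * ((g' : G) * g) * g₀ := by group
      W_odd := by
        rw [hWbcard]
        refine S.core_odd.of_dvd_nat (Subgroup.card_dvd_of_injective
          (MonoidHom.mk' (fun g : W₀ => (⟨g₀⁻¹ * ((g : Hs) : G) * g₀, (hW₀mem g g.2).2⟩ : S.core))
            fun a b => Subtype.ext (by push_cast; group)) fun a b e => Subtype.ext (Subtype.ext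
              (mul_left_cancel (mul_right_cancel (congrArg Subtype.val e)))))
      W_normal := by
        rintro c hc _ ⟨g, hg, rfl⟩
        obtain ⟨g', hg', rfl⟩ := hliftu c hc
        rw [← map_inv, ← map_mul, ← map_mul]
        refine ⟨g' * g * g'⁻¹, ?_, rfl⟩
        obtain ⟨d, hd, hde⟩ := hg
        refine ⟨⟨g', hg'⟩ * d * ⟨g', hg'⟩⁻¹, φu.normal_ker.conj_mem d hd _, ?_⟩
        rw [map_mul, map_mul, map_inv, hde]
        rfl
      W_card := by rw [hWbcard, hCbcard, hCucard] }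
  obtain ⟨x, δ, hδ, hx2, E1, E2, E3⟩ := D.main hM
  rw [hcorecard] at E1 E2 E3
  refine ⟨Nat.card (Hs ⧸ A'), Nat.card Wb, x, δ, ?_, hδ, hx2, ?_, E1, E2, E3⟩
  · rw [Subgroup.card_eq_card_quotient_mul_card_subgroup A', mul_comm]
    congr 1
    exact Nat.card_congr (Subgroup.subgroupOfEquivOfLe hAHs).toEquiv
  · rw [hWbcard]
    exact Subgroup.card_dvd_of_injective
      (MonoidHom.mk' (fun g : W₀ => (⟨g₀⁻¹ * ((g : Hs) : G) * g₀, (hW₀mem g g.2).2⟩ : S.core))
        fun a b => Subtype.ext (by push_cast; group)) fun a b e => Subtype.ext (Subtype.ext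
          (mul_left_cancel (mul_right_cancel (congrArg Subtype.val e))))

end Base

end CfsgLib.Inv54.SigmaGroup
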